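import Mathlib
import Cfsg.Agent.H19.Sieve

/-!
Consequences of the degree sieve (namespace H19).
* `DOne.Desc.deg_mem`, `sieve_deg` : the degrees in the principal `p`-block come from one of the listed solutions
* `DOne.Desc.exists_of_mem` : a listed degree is attained
-/

set_option linter.unusedSectionVars false

open H05 Cfsg Classical

namespace H19

namespace DOne

variable {p : ℕ} [hp : Fact p.Prime] {G P H : Type*} [Group G] [Group P] [Group H] {S : DOne p G P H}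
variable [Fintype G] [Fintype P] [Fintype H]
variable {X Y : Finset (IrrCharacter G)} {δ : IrrCharacter G → ℤ} {ε : ℤ} (D : S.Desc (irrOne S.K) X Y δ ε)
variable {y : ℤ} {l : List ℤ} (h1 : ∀ ψ ∈ Y, -ε * charDegree (ψ : G → ℂ) = y)
  (h2 : (X.erase (irrOne G)).val.map (fun χ => δ χ * charDegree (χ : G → ℂ)) = l)
include D h1 h2

theorem Desc.deg_mem {χ : IrrCharacter G} (h : χ ∈ S.Blk (irrOne S.K)) (h' : χ ≠ irrOne G) :
    charDegree (χ : G → ℂ) ∈ (y :: l).map Int.natAbs := by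
  rcases (D.mem χ).1 h with h | h
  · refine List.mem_map.2 ⟨_, List.mem_cons_of_mem _ (Multiset.mem_coe.1 (h2 ▸ Multiset.mem_map_of_mem _
      (Finset.mem_erase.2 ⟨h', h⟩))), ?_⟩
    rcases D.signX χ h with e | e <;> simp [e]
  · refine List.mem_map.2 ⟨_, List.mem_cons_self, ?_⟩
    rw [← h1 χ h]
    rcases D.sign with rfl | rfl <;> simp

theorem Desc.exists_of_mem {d : ℕ} (h : d ∈ (y :: l).map Int.natAbs) :
    ∃ χ ∈ S.Blk (irrOne S.K), charDegree (χ : G → ℂ) = d := by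
  obtain ⟨s, hs, rfl⟩ := List.mem_map.1 h
  rcases List.mem_cons.1 hs with rfl | h
  · obtain ⟨ψ, h⟩ := D.Y_nonempty
    refine ⟨ψ, (D.mem ψ).2 (Or.inr h), ?_⟩
    rw [← h1 ψ h]
    rcases D.sign with rfl | rfl <;> simp
  · obtain ⟨χ, h', rfl⟩ := Multiset.mem_map.1 (h2 ▸ Multiset.mem_coe.2 h)
    have h := Finset.mem_of_mem_erase h'
    refine ⟨χ, (D.mem χ).2 (Or.inl h), ?_⟩
    rcases D.signX χ h with e | e <;> simp [e]

end DOne

theorem sieve_deg {G : Type*} [Group G] [Finite G] [IsSimpleGroup G] (hG : ¬ IsMulCommutative G) {n B p : ℕ}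
    (hp : p.Prime) (hn : Nat.card G = n) (h1 : p ∣ n) (h2 : ¬ p ^ 2 ∣ n) (hB : n ≤ B ^ 2) {allow : ℕ → ℕ → Bool}
    {qs : List ℕ} (hqs : ∀ q ∈ qs, q.Prime)
    (hal : ∀ q ∈ qs, ∀ M, IsPModular q M → ∀ χ ∈ principalBlock M G, χ ≠ irrOne G → allow q (charDegree (χ : G → ℂ)) = true)
    {sols : List (ℕ × ℕ × ℤ × List ℤ)} (h : Sv.chk n B p allow qs sols = true) :
    ∃ σ ∈ sols, ∀ M, IsPModular p M → ∀ χ ∈ principalBlock M G, χ ≠ irrOne G →
      charDegree (χ : G → ℂ) ∈ (σ.2.2.1 :: σ.2.2.2).map Int.natAbs := by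
  have := Fact.mk hp
  have := Fintype.ofFinite G
  obtain ⟨P, H, _, _, _, _, S, X, Y, δ, ε, D, h5⟩ := exists_desc_of_dvd (hn ▸ h1) (hn ▸ h2)
  obtain ⟨σ, h6, -, -, h7, h8⟩ := D.sieve hG h5 hn hB hqs hal h
  exact ⟨σ, h6, fun M hM χ h h' => D.deg_mem h7 h8 (S.principal_eq_Blk hM ▸ h) h'⟩

/-- Only degrees in `L` are allowed in the principal `p`-block. -/
def Sv.only (p : ℕ) (L : List ℕ) (q d : ℕ) : Bool := q != p || L.contains d

theorem allow_of {G : Type*} [Group G] [Finite G] {p : ℕ} {L : List ℕ}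
    (h : ∀ M, IsPModular p M → ∀ χ ∈ principalBlock M G, χ ≠ irrOne G → charDegree (χ : G → ℂ) ∈ L) (qs : List ℕ) :
    ∀ q ∈ qs, ∀ M, IsPModular q M → ∀ χ ∈ principalBlock M G, χ ≠ irrOne G →
      Sv.only p L q (charDegree (χ : G → ℂ)) = true := fun q _ M hM χ h1 h2 => by
  by_cases e : q = p
  · subst e; simpa [Sv.only] using h M hM χ h1 h2
  · simp [e, Sv.only]

end H19
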