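import Mathlib
import Cfsg.Agent.H19.Sieve2

/-!
The principal block of defect one as explicit lists (namespace H19).
* `PB G p r e X Y y` : non-exceptional characters with signed degrees `X`, exceptional ones `Y` of signed degree `y`
* `sieve_pb` : the sieve gives a `PB`; `PB.one` : the case of one exceptional character, in any order (`PU`)
* `DOne.K_eq_bot_of_deg` : a non-principal character of degree `p` of a simple group gives `C(P) = P`
-/

set_option linter.unusedSectionVars false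

open H05 Cfsg Classical

namespace H19

theorem exists_perm_map {α β : Type*} (f : α → β) {l : List α} {m : List β} (h : (l.map f).Perm m) :
    ∃ l' : List α, l'.Perm l ∧ l'.map f = m := by
  induction m generalizing l with
  | nil => exact ⟨[], by rw [List.map_eq_nil_iff.1 h.eq_nil], rfl⟩
  | cons b m ih =>
    obtain ⟨a, ha, rfl⟩ := List.mem_map.1 (h.symm.subset List.mem_cons_self)
    have h1 := List.perm_cons_erase ha
    obtain ⟨l', h2, h3⟩ := ih (l := l.erase a) ((h1.map f).symm.trans h).cons_inv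
    exact ⟨a :: l', (h2.cons a).trans h1.symm, by rw [List.map_cons, h3]⟩

/-- The principal `p`-block of defect one. -/
structure PB (G : Type*) [Group G] (p r e : ℕ) (X : List (IrrCharacter G × ℤ)) (Y : List (IrrCharacter G)) (y : ℤ) :
    Prop where
  nodup : (irrOne G :: (Y ++ X.map Prod.fst)).Nodup
  degX : ∀ x ∈ X, charDegree (x.1 : G → ℂ) = x.2.natAbs
  valX : ∀ x ∈ X, ∀ g, p ∣ orderOf g → (x.1 : G → ℂ) g = x.2.sign
  degY : ∀ ψ ∈ Y, charDegree (ψ : G → ℂ) = y.natAbs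
  valY : ∀ g, p ∣ orderOf g → (Y.map fun ψ : IrrCharacter G => (ψ : G → ℂ) g).sum = y.sign
  lenY : Y.length * e = p - 1
  blk : ∀ M, IsPModular p M → ∀ χ, χ ∈ principalBlock M G ↔ χ ∈ irrOne G :: (Y ++ X.map Prod.fst)
  reg : ∀ ψ ∈ Y, ∀ g, ¬ p ∣ orderOf g →
    1 + y.sign * (ψ : G → ℂ) g + (X.map fun x => x.2.sign * (x.1 : G → ℂ) g).sum = 0
  val0 : ∀ χ : IrrCharacter G, p ∣ charDegree (χ : G → ℂ) → ∀ g, p ∣ orderOf g → (χ : G → ℂ) g = 0
  all : Nat.card G = p * e * r → ∀ χ : IrrCharacter G, ¬ p ∣ charDegree (χ : G → ℂ) →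
    χ ∈ irrOne G :: (Y ++ X.map Prod.fst)
  cent : ∀ g : G, orderOf g = p → Nat.card (Subgroup.centralizer ({g} : Set G)) * (e * r) = Nat.card G
  cls : Nat.card {C : ConjClasses G // ∃ g ∈ C.carrier, orderOf g = p} * e = p - 1
  syl : Nat.card (Sylow p G) = r
  bot : ∀ χ : IrrCharacter G, χ ≠ irrOne G → charDegree (χ : G → ℂ) = p → Nat.card G = p * e * r

/-- The principal `p`-block with `p` characters. -/
structure PU (G : Type*) [Group G] (p : ℕ) (Z : List (IrrCharacter G × ℤ)) : Prop where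
  nodup : (irrOne G :: Z.map Prod.fst).Nodup
  deg : ∀ x ∈ Z, charDegree (x.1 : G → ℂ) = x.2.natAbs
  val : ∀ x ∈ Z, ∀ g, p ∣ orderOf g → (x.1 : G → ℂ) g = x.2.sign
  blk : ∀ M, IsPModular p M → ∀ χ, χ ∈ principalBlock M G ↔ χ ∈ irrOne G :: Z.map Prod.fst
  reg : ∀ g, ¬ p ∣ orderOf g → 1 + (Z.map fun x => x.2.sign * (x.1 : G → ℂ) g).sum = 0

theorem PB.one {G : Type*} [Group G] {p r e : ℕ} {X : List (IrrCharacter G × ℤ)} {Y : List (IrrCharacter G)} {y : ℤ}
    (h : PB G p r e X Y y) (he : e = p - 1) (h0 : e ≠ 0) {l : List ℤ} (hl : (y :: X.map Prod.snd).Perm l) :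
    ∃ Z, PU G p Z ∧ Z.map Prod.snd = l ∧ (Z.map Prod.fst).Perm (Y ++ X.map Prod.fst) := by
  obtain ⟨ψ, rfl⟩ := List.length_eq_one_iff.1 (Nat.eq_of_mul_eq_mul_right (Nat.pos_of_ne_zero h0)
    (h.lenY.trans (by rw [one_mul, he])))
  obtain ⟨Z, h1, h2⟩ := exists_perm_map Prod.snd (l := (ψ, y) :: X) hl
  have h3 := h1.map Prod.fst
  refine ⟨Z, ⟨(h3.cons _).nodup_iff.2 h.nodup, fun x hx => ?_, fun x hx g hg => ?_,
    fun M hM χ => (h.blk M hM χ).trans (h3.cons _).mem_iff.symm, fun g hg => ?_⟩, h2, h3⟩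
  · rcases List.mem_cons.1 (h1.subset hx) with rfl | hx
    exacts [h.degY ψ (by simp), h.degX x hx]
  · rcases List.mem_cons.1 (h1.subset hx) with rfl | hx
    exacts [by simpa using h.valY g hg, h.valX x hx g hg]
  · rw [(h1.map _).sum_eq, List.map_cons, List.sum_cons, ← add_assoc]
    exact h.reg ψ (by simp) g hg

theorem PB.cent' {G : Type*} [Group G] [Finite G] {p r e : ℕ} {X : List (IrrCharacter G × ℤ)} {Y : List (IrrCharacter G)}
    {y : ℤ} (h : PB G p r e X Y y) (hp : p.Prime) (hG : Nat.card G = p * e * r) {g : G} (hg : p ∣ orderOf g) :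
    orderOf g = p ∧ Nat.card (Subgroup.centralizer ({g} : Set G)) = p := by
  have h0 : 0 < e * r := Nat.pos_of_mul_pos_left (by rw [← mul_assoc, ← hG]; exact Nat.card_pos)
  have h1 : ∀ g : G, orderOf g = p → Nat.card (Subgroup.centralizer ({g} : Set G)) = p := fun g hg =>
    Nat.eq_of_mul_eq_mul_right h0 (by rw [h.cent g hg, hG, mul_assoc])
  have h2 := orderOf_pow_orderOf_div (orderOf_pos g).ne' hg
  have h3 : orderOf g = p := (Nat.dvd_antisymm (h1 _ h2 ▸ Subgroup.orderOf_dvd_natCard _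
    (Subgroup.mem_centralizer_singleton_iff.2 (Commute.self_pow _ _))) hg)
  exact ⟨h3, h1 g h3⟩

theorem PB.deg_mem {G : Type*} [Group G] {p r e : ℕ} {X : List (IrrCharacter G × ℤ)} {Y : List (IrrCharacter G)}
    {y : ℤ} (h : PB G p r e X Y y) {χ : IrrCharacter G} (h1 : χ ∈ irrOne G :: (Y ++ X.map Prod.fst)) (h2 : χ ≠ irrOne G) :
    charDegree (χ : G → ℂ) ∈ (y :: X.map Prod.snd).map Int.natAbs := by
  simp only [List.mem_cons, h2, false_or, List.mem_append, List.mem_map, List.map_cons] at h1 ⊢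
  rcases h1 with h1 | ⟨x, h1, rfl⟩
  exacts [Or.inl (h.degY χ h1), Or.inr ⟨_, ⟨x, h1, rfl⟩, (h.degX x h1).symm⟩]

theorem PB.allow {G : Type*} [Group G] [Finite G] {p r e : ℕ} {X : List (IrrCharacter G × ℤ)} {Y : List (IrrCharacter G)}
    {y : ℤ} (h : PB G p r e X Y y) {l : List ℤ} (hl : X.map Prod.snd = l) (qs : List ℕ) :
    ∀ q ∈ qs, ∀ M, IsPModular q M → ∀ χ ∈ principalBlock M G, χ ≠ irrOne G →
      Sv.only p ((y :: l).map Int.natAbs) q (charDegree (χ : G → ℂ)) = true :=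
  allow_of (fun M hM χ h1 h2 => hl ▸ h.deg_mem ((h.blk M hM χ).1 h1) h2) qs

theorem PB.exists_deg {G : Type*} [Group G] {p r e : ℕ} {X : List (IrrCharacter G × ℤ)} {Y : List (IrrCharacter G)}
    {y : ℤ} (h : PB G p r e X Y y) (hp : 1 < p) {v : ℤ} (hv : v ∈ y :: X.map Prod.snd) :
    ∃ χ : IrrCharacter G, χ ≠ irrOne G ∧ charDegree (χ : G → ℂ) = v.natAbs := by
  have h1 := (List.nodup_cons.1 h.nodup).1
  rcases List.mem_cons.1 hv with rfl | hv
  · obtain ⟨ψ, h2⟩ := List.exists_mem_of_length_pos (Nat.pos_of_mul_pos_right (h.lenY ▸ Nat.sub_pos_of_lt hp))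
    exact ⟨ψ, fun e => h1 (e ▸ List.mem_append_left _ h2), h.degY ψ h2⟩
  · obtain ⟨x, h2, rfl⟩ := List.mem_map.1 hv
    exact ⟨x.1, fun e => h1 (e ▸ List.mem_append_right _ (List.mem_map_of_mem h2)), h.degX x h2⟩

theorem exists_int_of_unique {G : Type*} [Group G] [Finite G] {χ : IrrCharacter G}
    (h : ∀ ψ : IrrCharacter G, charDegree (ψ : G → ℂ) = charDegree (χ : G → ℂ) → ψ = χ) (g : G) :
    ∃ m : ℤ, (χ : G → ℂ) g = m :=
  exists_int_of_fixed (χ.2.isCharacter.isIntegral g) fun σ => by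
    rw [← gal_apply, h (gal σ χ) (charDegree_eq_of_apply_one (by rw [gal_apply_one, χ.2.charDegree_eq]))]

namespace DOne

variable {p : ℕ} [hp : Fact p.Prime] {G P H : Type*} [Group G] [Group P] [Group H] (S : DOne p G P H)
variable [Fintype G] [Fintype P] [Fintype H]

theorem K_eq_bot_of_deg [IsSimpleGroup G] (hG : ¬ IsMulCommutative G) {χ : IrrCharacter G} (h1 : χ ≠ irrOne G)
    (hd : charDegree (χ : G → ℂ) = p) : S.K = ⊥ := by
  have h2 : ∀ θ, S.mm χ θ = p * S.nn χ θ := fun θ => by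
    have := S.mm_eq_nn χ θ
    rw [Finset.sum_eq_zero fun lam _ => by_contra fun e => S.not_dvd_deg ⟨lam, e⟩ hd.symm.dvd, sub_zero] at this
    exact_mod_cast this
  have h3 := S.deg_eq_sum χ
  simp only [h2, mul_assoc, ← Finset.mul_sum, hd] at h3
  have h4 := congrArg (Nat.cast (R := ℂ)) (Nat.eq_of_mul_eq_mul_left hp.out.pos (h3.symm.trans (mul_one p).symm))
  obtain ⟨φ, hφ⟩ := (isCharacter_sum_nat (S.nn χ)).exists_monoidHom (by
    simpa [(Subtype.property (_ : IrrCharacter _)).charDegree_eq] using h4)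
  refine eq_bot_iff.2 fun k hk => S.injH ?_
  rw [map_one, ← Subgroup.mem_bot, ← charCenter_eq_bot_of_simple hG h1]
  refine χ.2.isCharacter.mem_charCenter_of_norm_eq ?_
  have h5 := S.apply_eq_sum_d χ.2.isClassFunction 1 ⟨k, hk⟩
  have h6 := congrFun hφ ⟨k, hk⟩
  simp only [Finset.sum_apply, Pi.smul_apply, smul_eq_mul] at h6
  simp only [map_one, one_mul, ← mm_eq, h2, Nat.cast_mul, mul_assoc, ← Finset.mul_sum, h6] at h5
  rw [h5, norm_mul, norm_monoidHom_eq_one, hd]; simp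

variable {S} {X Y : Finset (IrrCharacter G)} {δ : IrrCharacter G → ℤ} {ε : ℤ} (D : S.Desc (irrOne S.K) X Y δ ε)
include D

theorem Desc.pb [IsSimpleGroup G] (hG : ¬ IsMulCommutative G) (h1 : irrOne G ∈ X) {y : ℤ} {l : List ℤ}
    (h2 : ∀ ψ ∈ Y, -ε * charDegree (ψ : G → ℂ) = y)
    (h3 : (X.erase (irrOne G)).val.map (fun χ => δ χ * charDegree (χ : G → ℂ)) = l) :
    ∃ X' Y', PB G p S.N.index S.K.index X' Y' y ∧ X'.map Prod.snd = l := by
  obtain ⟨L, h4, h5⟩ := exists_perm_map (fun χ : IrrCharacter G => δ χ * charDegree (χ : G → ℂ))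
    (l := (X.erase (irrOne G)).toList) (m := l) (by rw [← Multiset.coe_eq_coe, ← h3, ← Multiset.map_coe, Finset.coe_toList])
  have h6 : ∀ χ, χ ∈ L ↔ χ ≠ irrOne G ∧ χ ∈ X := fun χ => by simpa using h4.mem_iff
  have sg : ∀ (c : ℤ) (χ : IrrCharacter G), c = 1 ∨ c = -1 → (c * charDegree (χ : G → ℂ)).sign = c ∧
      charDegree (χ : G → ℂ) = (c * charDegree (χ : G → ℂ)).natAbs := by
    rintro _ χ (rfl | rfl) <;> simp [Int.sign_natCast_of_ne_zero χ.2.charDegree_pos.ne']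
  have hε : -ε = 1 ∨ -ε = -1 := by rcases D.sign with rfl | rfl <;> simp
  obtain ⟨ψ, hψ⟩ := D.Y_nonempty
  have h7 : y.sign = -ε := h2 ψ hψ ▸ (sg _ ψ hε).1
  have h8 : ∀ χ, χ ∈ S.Blk (irrOne S.K) ↔ χ ∈ irrOne G :: (Y.toList ++ L) := fun χ => by
    by_cases e : χ = irrOne G <;> simp [D.mem, h6, e, h1, or_comm]
  have h9 : Nat.card G = p * Nat.card S.K * (S.K.index * S.N.index) := by rw [S.card_G, ← S.K.card_mul_index]; ring
  have h10 : (L.map fun χ => (χ, δ χ * charDegree (χ : G → ℂ))).map Prod.fst = L := by simp [Function.comp_def]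
  refine ⟨L.map fun χ => (χ, δ χ * charDegree (χ : G → ℂ)), Y.toList, ⟨?_, ?_, ?_, fun ψ h => ?_, fun g hg => ?_, ?_,
    fun M hM χ => by rw [h10, S.principal_eq_Blk hM, h8], fun ψ h g hg => ?_, fun χ h g => S.apply_eq_zero_of_dvd h,
    fun h χ h' => ?_, fun g hg => ?_, S.card_classes, ?_, fun χ h h' => ?_⟩, by simpa [Function.comp_def] using h5⟩
  · rw [h10, List.nodup_cons, List.nodup_append]
    exact ⟨by simpa [h6] using Finset.disjoint_left.1 D.disj h1, Y.nodup_toList, h4.nodup_iff.2 (Finset.nodup_toList _),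
      fun a ha b hb e => Finset.disjoint_left.1 D.disj ((h6 b).1 hb).2 (e ▸ Finset.mem_toList.1 ha)⟩
  · simp only [List.forall_mem_map]
    exact fun χ h => (sg _ χ (D.signX χ ((h6 χ).1 h).2)).2
  · simp only [List.forall_mem_map]
    intro χ h g hg
    obtain ⟨x, z, k, hz, e⟩ := S.exists_conj_of_dvd hg
    rw [(sg _ χ (D.signX χ ((h6 χ).1 h).2)).1, ← D.val_X ((h6 χ).1 h).2 hz k, ← e, χ.2.isClassFunction]
  · exact h2 ψ (Finset.mem_toList.1 h) ▸ (sg _ ψ hε).2
  · obtain ⟨x, z, k, hz, e⟩ := S.exists_conj_of_dvd hg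
    rw [h7, Finset.sum_map_toList, Int.cast_neg, ← D.sumYd z hz]
    exact Finset.sum_congr rfl fun ψ h => by
      rw [← S.apply_eq_d_one ((D.mem ψ).2 (Or.inr h)) hz k, ← e, ψ.2.isClassFunction]
  · rw [Finset.length_toList, D.cardY1]
  · have := D.reg ψ (Finset.mem_toList.1 h) g hg
    rw [← Finset.add_sum_erase _ _ h1, D.δ_irrOne h1, ← Finset.sum_map_toList, ← (h4.map _).sum_eq] at this
    rw [h7, List.map_map, List.map_congr_left (g := fun χ => δ χ * (χ : G → ℂ) g) fun χ h => by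
      rw [Function.comp_apply, (sg _ χ (D.signX χ ((h6 χ).1 h).2)).1]]
    simp only [irrOne_apply] at this
    push_cast at this ⊢
    linear_combination -this
  · obtain ⟨θ, hθ⟩ := S.not_dvd_deg_iff.1 h'
    have e : Nat.card S.K = 1 := Nat.eq_of_mul_eq_mul_left hp.out.pos (Nat.eq_of_mul_eq_mul_right
      (Nat.mul_pos (Nat.pos_of_ne_zero S.K.index_ne_zero_of_finite) (Nat.pos_of_ne_zero S.N.index_ne_zero_of_finite))
      (by rw [← h9, h]; ring))
    have := (Nat.card_eq_one_iff_unique.1 e).1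
    obtain rfl : θ = irrOne S.K := irr_ext fun k => by
      rw [Subsingleton.elim k 1, θ.2.apply_one_of_comm]; rfl
    rwa [h10, ← h8]
  · obtain ⟨x, z, k, hz, e⟩ := S.exists_conj_of_dvd hg.symm.dvd
    have e1 := S.pPart_eq z k
    rw [← e, H21.pPart_conj, H21.pPart_of_pow ⟨1, by rw [pow_one, hg]⟩] at e1
    rw [card_centralizer_eq_of_isConj (isConj_iff.2 ⟨x, e1⟩), ← S.index_centralizer_P hz, Subgroup.card_mul_index]
  · obtain ⟨Q, hQ⟩ := S.exists_sylow
    rw [Q.card_eq_index_normalizer, show Subgroup.normalizer (Q : Set G) = S.N by rw [N_eq, ← hQ]; rfl]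
  · rw [h9, S.K_eq_bot_of_deg hG h h', Subgroup.card_bot, mul_one, mul_assoc]

end DOne

theorem sieve_pb {G : Type*} [Group G] [Finite G] [IsSimpleGroup G] (hG : ¬ IsMulCommutative G) {n B p : ℕ}
    (hp : p.Prime) (hn : Nat.card G = n) (h1 : p ∣ n) (h2 : ¬ p ^ 2 ∣ n) (hB : n ≤ B ^ 2) {allow : ℕ → ℕ → Bool}
    {qs : List ℕ} (hqs : ∀ q ∈ qs, q.Prime)
    (hal : ∀ q ∈ qs, ∀ M, IsPModular q M → ∀ χ ∈ principalBlock M G, χ ≠ irrOne G → allow q (charDegree (χ : G → ℂ)) = true)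
    {sols : List (ℕ × ℕ × ℤ × List ℤ)} (h : Sv.chk n B p allow qs sols = true) :
    ∃ σ ∈ sols, ∃ X Y, PB G p σ.1 σ.2.1 X Y σ.2.2.1 ∧ X.map Prod.snd = σ.2.2.2 := by
  have := Fact.mk hp
  have := Fintype.ofFinite G
  obtain ⟨P, H, _, _, _, _, S, X, Y, δ, ε, D, h5⟩ := exists_desc_of_dvd (hn ▸ h1) (hn ▸ h2)
  obtain ⟨σ, h6, e1, e2, h7, h8⟩ := D.sieve hG h5 hn hB hqs hal h
  exact ⟨σ, h6, e1 ▸ e2 ▸ D.pb hG h5 h7 h8⟩

end H19
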