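import Mathlib
import Cfsg.Agent.H19.Sieve3

/-!
The character degrees of a simple group of order 7920 (namespace H19).
* `M11T G` (the ten characters with the block relations), `exists_m11T`
-/

set_option linter.unusedSectionVars false

open H05 Cfsg Classical

namespace H19

/-- The irreducible characters of a simple group of order 7920. -/
structure M11T (G : Type*) [Group G] [Finite G] where
  /-- degree 10 -/
  (a b c : IrrCharacter G)
  /-- degrees 11, 16, 16, 44, 45, 55 -/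
  (d s s' e f h : IrrCharacter G)
  sum : ∀ {M : Type} [AddCommMonoid M] (F : IrrCharacter G → M),
    ∑ χ, F χ = F (irrOne G) + F a + F b + F c + F d + F s + F s' + F e + F f + F h
  da : charDegree (a : G → ℂ) = 10
  db : charDegree (b : G → ℂ) = 10
  dc : charDegree (c : G → ℂ) = 10
  dd : charDegree (d : G → ℂ) = 11
  ds : charDegree (s : G → ℂ) = 16
  ds' : charDegree (s' : G → ℂ) = 16
  de : charDegree (e : G → ℂ) = 44
  df : charDegree (f : G → ℂ) = 45
  dh : charDegree (h : G → ℂ) = 55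
  r11 : ∀ g, ¬ 11 ∣ orderOf g → (s : G → ℂ) g = 1 - (a : G → ℂ) g - (b : G → ℂ) g - (c : G → ℂ) g + (f : G → ℂ) g
  r11' : ∀ g, ¬ 11 ∣ orderOf g → (s' : G → ℂ) g = (s : G → ℂ) g
  r5 : ∀ g, ¬ 5 ∣ orderOf g → (e : G → ℂ) g = 1 + (d : G → ℂ) g + (s : G → ℂ) g + (s' : G → ℂ) g
  v5 : ∀ g, 5 ∣ orderOf g → (∀ χ : IrrCharacter G, 5 ∣ charDegree (χ : G → ℂ) → (χ : G → ℂ) g = 0) ∧
    (d : G → ℂ) g = 1 ∧ (s : G → ℂ) g = 1 ∧ (s' : G → ℂ) g = 1 ∧ (e : G → ℂ) g = -1
  c5 : ∀ g : G, 5 ∣ orderOf g → orderOf g = 5 ∧ Nat.card (Subgroup.centralizer ({g} : Set G)) = 5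
  c11 : ∀ g : G, 11 ∣ orderOf g → orderOf g = 11 ∧ Nat.card (Subgroup.centralizer ({g} : Set G)) = 11
  cls : Nat.card {C : ConjClasses G // ∃ g ∈ C.carrier, orderOf g = 11} = 2

theorem exists_m11T {G : Type*} [Group G] [Finite G] [IsSimpleGroup G] (hn : Nat.card G = 7920) : Nonempty (M11T G) := by
  have hG : ¬ IsMulCommutative G := not_comm_of_simple_card (by rw [hn]; norm_num)
  obtain ⟨σ, h1, X, Y, A, h2⟩ := sieve_pb hG (B := 89) (p := 11) (allow := fun _ _ => true) (qs := [2, 3, 5])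
    (sols := [(144, 5, -5, [12, 12, -10, -10]), (144, 5, -16, [45, -10, -10, -10])]) (by norm_num) hn (by norm_num)
    (by norm_num) (by norm_num) (by decide) (fun _ _ _ _ _ _ _ => rfl) (by decide +kernel)
  simp only [List.mem_cons, List.not_mem_nil, or_false] at h1
  rcases h1 with rfl | rfl
  · obtain ⟨σ, h3, X', Y', B, -⟩ := sieve_pb hG (B := 89) (p := 5) (qs := [2, 3, 11])
      (sols := [(66, 2, -12, [11]), (396, 2, -12, [11])]) (by norm_num) hn (by norm_num)
      (by norm_num) (by norm_num) (by decide) (A.allow h2 _) (by decide +kernel)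
    obtain ⟨χ, h4, h5⟩ := A.exists_deg (by norm_num) List.mem_cons_self
    have := B.bot χ h4 h5
    simp only [List.mem_cons, List.not_mem_nil, or_false] at h3
    rcases h3 with rfl | rfl <;> simp [hn] at this
  obtain ⟨σ, h3, X', Y', B, h4⟩ := sieve_pb hG (B := 89) (p := 5) (qs := [2, 3, 11])
    (sols := [(396, 4, -9, [-24, 16, 16]), (396, 4, 11, [-44, 16, 16]), (396, 4, 16, [-44, 16, 11]),
      (396, 4, 16, [-24, 16, -9]), (396, 4, -24, [16, 16, -9]), (396, 4, -44, [16, 16, 11])]) (by norm_num) hn (by norm_num)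
    (by norm_num) (by norm_num) (by decide) (A.allow h2 _) (by decide +kernel)
  have h5 : ∀ χ : IrrCharacter G, charDegree (χ : G → ℂ) ≠ 9 := fun χ e => by
    have := A.deg_mem (A.all hn χ (by omega)) (by rintro rfl; simp [charDegree_irrOne] at e)
    simp [h2, e] at this
  obtain ⟨e1, e2, e3⟩ : σ.1 = 396 ∧ σ.2.1 = 4 ∧ (σ.2.2.1 :: σ.2.2.2).Perm [11, 16, 16, -44] := by
    refine (by decide : ∀ σ ∈ _, -9 ∉ σ.2.2.1 :: σ.2.2.2 → σ.1 = 396 ∧ σ.2.1 = 4 ∧
      (σ.2.2.1 :: σ.2.2.2).Perm [11, 16, 16, -44]) σ h3 fun h => ?_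
    obtain ⟨χ, -, h6⟩ := B.exists_deg (by norm_num) (h4 ▸ h)
    exact h5 χ h6
  rw [e1, e2] at B
  obtain ⟨Z, C, h6, h7⟩ := B.one rfl (by norm_num) (h4 ▸ e3)
  obtain ⟨s0, s1, rfl⟩ := List.length_eq_two.1 (show Y.length = 2 by have := A.lenY; simp only at this; omega)
  match X, h2, Z, h6 with
  | [(f, _), (a, _), (b, _), (c, _)], rfl, [(d, _), (s, _), (s', _), (e, _)], rfl =>
  have h8 := A.degX
  have h9 := C.deg
  have h10 := A.degY
  have n1 := A.nodup
  have n2 := C.nodup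
  simp at h8 h9 h10 n1 n2
  obtain ⟨df, da, db, dc⟩ := h8
  obtain ⟨dd, ds, ds', de⟩ := h9
  have d1 := charDegree_irrOne G
  have h11 : ∀ χ : IrrCharacter G, ¬ 11 ∣ charDegree (χ : G → ℂ) →
      χ = irrOne G ∨ χ = s0 ∨ χ = s1 ∨ χ = f ∨ χ = a ∨ χ = b ∨ χ = c := fun χ e => by simpa using A.all hn χ e
  have h11' : ∀ χ : IrrCharacter G, charDegree (χ : G → ℂ) = 16 → χ = s0 ∨ χ = s1 := fun χ e => by
    rcases h11 χ (by omega) with rfl | rfl | rfl | rfl | rfl | rfl | rfl <;> first | omega | simp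
  have h12 : s = s0 ∧ s' = s1 ∨ s = s1 ∧ s' = s0 := by
    have := h11' s ds; have := h11' s' ds'; have := n2.2.2.1.1; grind
  have h13 : ∀ χ : IrrCharacter G, ¬ 5 ∣ charDegree (χ : G → ℂ) →
      χ = irrOne G ∨ χ = d ∨ χ = s ∨ χ = s' ∨ χ = e := fun χ e => by
    obtain ⟨M, hM⟩ := H21.exists_isPModular Nat.prime_five
    simpa using (C.blk M hM χ).1 ((B.blk M hM χ).2 (B.all hn χ e))
  have ne : ∀ {χ ψ : IrrCharacter G}, charDegree (χ : G → ℂ) ≠ charDegree (ψ : G → ℂ) → χ ≠ ψ := fun h e => h (e ▸ rfl)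
  have n3 : [irrOne G, a, b, c, d, s, s', e, f].Nodup := by
    simp only [List.nodup_cons, List.mem_cons, List.not_mem_nil, or_false, not_or, List.nodup_nil, not_false_eq_true, and_true]
    repeat' apply And.intro
    all_goals first | exact ne (by omega) | tauto
  have h14 : ∀ χ ∈ [irrOne G, a, b, c, d, s, s', e, f].toFinsetᶜ, 55 ∣ charDegree (χ : G → ℂ) := fun χ h => by
    simp only [Finset.mem_compl, List.mem_toFinset, List.mem_cons, not_or] at h
    exact Nat.Coprime.mul_dvd_of_dvd_of_dvd (m := 5) (n := 11) (by norm_num) (by_contra fun e => by have := h13 χ e; tauto)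
      (by_contra fun e => by have := h11 χ e; grind)
  have h15 := sum_charDegree_sq (G := G)
  rw [← Finset.sum_add_sum_compl [irrOne G, a, b, c, d, s, s', e, f].toFinset, List.sum_toFinset _ n3] at h15
  simp only [List.map_cons, List.map_nil, List.sum_cons, List.sum_nil, d1, da, db, dc, dd, ds, ds', de, df, hn] at h15
  obtain ⟨h, h16⟩ := Finset.nonempty_of_sum_ne_zero (ne_of_eq_of_ne (Nat.eq_sub_of_add_eq' h15) (by norm_num))
  have h17 : ∀ χ ∈ [irrOne G, a, b, c, d, s, s', e, f].toFinsetᶜ, 55 ^ 2 ≤ charDegree (χ : G → ℂ) ^ 2 := fun χ h =>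
    Nat.pow_le_pow_left (Nat.le_of_dvd χ.2.charDegree_pos (h14 χ h)) 2
  have h18 : [irrOne G, a, b, c, d, s, s', e, f].toFinsetᶜ = {h} := Finset.eq_singleton_iff_unique_mem.2 ⟨h16, fun χ h' =>
    by_contra fun e' => by
      have := Finset.add_le_sum (f := fun χ : IrrCharacter G => charDegree (χ : G → ℂ) ^ 2) (fun _ _ => Nat.zero_le _) h' h16 e'
      have := h17 χ h'; have := h17 h h16; omega⟩
  rw [h18, Finset.sum_singleton] at h15
  have r0 := fun g hg => A.reg s0 (by simp) g hg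
  have r1 := fun g hg => A.reg s1 (by simp) g hg
  have r2 := C.reg
  have v := C.val
  simp [Int.sign_eq_one_of_pos] at r0 r1 r2 v
  refine ⟨⟨a, b, c, d, s, s', e, f, h, fun F => ?_, da, db, dc, dd, ds, ds', de, df,
    Nat.pow_left_injective two_ne_zero (by simp only; omega), fun g hg => ?_, fun g hg => ?_, fun g hg => ?_, fun g hg =>
    ⟨fun χ h => B.val0 χ h g hg, v.1 g hg, v.2.1 g hg, v.2.2.1 g hg, v.2.2.2 g hg⟩, fun g => B.cent' (by norm_num) hn,
    fun g => A.cent' (by norm_num) hn, by have := A.cls; simp only at this; omega⟩⟩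
  · rw [← Finset.sum_add_sum_compl [irrOne G, a, b, c, d, s, s', e, f].toFinset, List.sum_toFinset _ n3, h18]
    simp [add_assoc]
  · rcases h12 with ⟨rfl, -⟩ | ⟨rfl, -⟩
    exacts [by linear_combination -r0 g hg, by linear_combination -r1 g hg]
  · rcases h12 with ⟨rfl, rfl⟩ | ⟨rfl, rfl⟩
    exacts [by linear_combination r0 g hg - r1 g hg, by linear_combination r1 g hg - r0 g hg]
  · linear_combination -r2 g hg

namespace M11T

variable {G : Type*} [Group G] [Finite G] (T : M11T G)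

theorem cases (χ : IrrCharacter G) : χ = irrOne G ∨ χ = T.a ∨ χ = T.b ∨ χ = T.c ∨ χ = T.d ∨ χ = T.s ∨ χ = T.s' ∨
    χ = T.e ∨ χ = T.f ∨ χ = T.h := by
  by_contra h
  have := T.sum fun ψ => if χ = ψ then 1 else 0
  simp only [not_or] at h
  simp [h] at this

include T

theorem card_irr : Nat.card (IrrCharacter G) = 10 := by
  simpa using T.sum fun _ => (1 : ℕ)

theorem card_deg (n : ℕ) : Nat.card {χ : IrrCharacter G // charDegree (χ : G → ℂ) = n} =
    if n = 1 ∨ n = 11 ∨ n = 44 ∨ n = 45 ∨ n = 55 then 1 else if n = 10 then 3 else if n = 16 then 2 else 0 := by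
  rw [Nat.card_eq_fintype_card, Fintype.card_subtype, Finset.card_filter, T.sum]
  simp only [charDegree_irrOne, T.da, T.db, T.dc, T.dd, T.ds, T.ds', T.de, T.df, T.dh]
  split_ifs <;> omega

end M11T

end H19
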