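import Mathlib
import Cfsg.Agent.H19.M11a
import Cfsg.Agent.H19.ClsCount
import Cfsg.Agent.H07.Glb2

/-!
Simple groups of order 7920: the Sylow 3-normaliser (namespace H19).
* `M11T.exists_int`, `M11T.cent_ne_nine`, `M11T.card_normalizer` (order 144), `M11T.perm55`, `M11T.perm11`
-/

set_option linter.unusedSectionVars false

open H05 Cfsg Classical Subgroup

namespace H19.M11T

variable {G : Type*} [Group G] [Finite G] (T : M11T G)
include T

theorem unique {χ ψ : IrrCharacter G} (h : charDegree (ψ : G → ℂ) = charDegree (χ : G → ℂ))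
    (h1 : charDegree (χ : G → ℂ) ≠ 10) (h2 : charDegree (χ : G → ℂ) ≠ 16) : ψ = χ := by
  have := charDegree_irrOne G
  have := T.da; have := T.db; have := T.dc; have := T.dd; have := T.ds; have := T.ds'; have := T.de; have := T.df
  have := T.dh
  rcases T.cases χ with rfl | rfl | rfl | rfl | rfl | rfl | rfl | rfl | rfl | rfl <;>
    rcases T.cases ψ with e | e | e | e | e | e | e | e | e | e <;> first | exact e | (rw [e] at h; omega)

theorem exists_int {g : G} (h1 : g ≠ 1) (h5 : ¬ 5 ∣ orderOf g) (h11 : ¬ 11 ∣ orderOf g) : ∃ d s f : ℤ,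
    (T.d : G → ℂ) g = d ∧ (T.s : G → ℂ) g = s ∧ (T.f : G → ℂ) g = f ∧
      1 + d ^ 2 + 2 * s ^ 2 + (1 + d + 2 * s) ^ 2 + f ^ 2 + (1 + d + 2 * s + f) ^ 2 ≤
        Nat.card (centralizer ({g} : Set G)) := by
  obtain ⟨d, hd⟩ := exists_int_of_unique (χ := T.d) (fun ψ h => T.unique h (by simp [T.dd]) (by simp [T.dd])) g
  obtain ⟨f, hf⟩ := exists_int_of_unique (χ := T.f) (fun ψ h => T.unique h (by simp [T.df]) (by simp [T.df])) g
  obtain ⟨s, hs⟩ := exists_int_of_fixed (T.s.2.isCharacter.isIntegral g) fun σ => by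
    have e : charDegree (gal σ T.s : G → ℂ) = 16 :=
      charDegree_eq_of_apply_one (by rw [gal_apply_one, ← T.s.2.charDegree_eq, T.ds])
    have := charDegree_irrOne G
    have := T.da; have := T.db; have := T.dc; have := T.dd; have := T.de; have := T.df; have := T.dh
    rw [← gal_apply]
    rcases T.cases (gal σ T.s) with h | h | h | h | h | h | h | h | h | h <;> rw [h] at e ⊢ <;>
      first | omega | exact T.r11' g h11
  have e1 := T.r11 g h11
  have e2 := T.r11' g h11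
  have e3 := T.r5 g h5
  have e4 := sum_degree_mul_apply_of_ne h1
  simp only [T.sum, ← (Subtype.property (_ : IrrCharacter _)).charDegree_eq, T.da, T.db, T.dc, T.dd, T.ds, T.ds', T.de,
    T.df, T.dh, irrOne_apply, charDegree_irrOne] at e4
  have e5 : (T.e : G → ℂ) g = (1 + d + 2 * s : ℤ) := by push_cast; rw [e3, e2, hd, hs]; ring
  have e6 : (T.h : G → ℂ) g = (-(1 + d + 2 * s + f) : ℤ) := by
    rw [e5, e2, hd, hs, hf] at e4
    rw [hs, hf] at e1
    push_cast at e4 ⊢
    linear_combination (1 / 55 : ℂ) * e4 - (10 / 55 : ℂ) * e1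
  have e7 := sum_irr_norm_sq g
  simp only [T.sum, e2, e5, e6, hd, hs, hf, irrOne_apply, Complex.norm_intCast, sq_abs, norm_one] at e7
  refine ⟨d, s, f, hd, hs, hf, ?_⟩
  have : (1 + d ^ 2 + 2 * s ^ 2 + (1 + d + 2 * s) ^ 2 + f ^ 2 + (1 + d + 2 * s + f) ^ 2 : ℝ) ≤
      Nat.card (centralizer ({g} : Set G)) := by
    push_cast at e7
    nlinarith [sq_nonneg ‖(T.a : G → ℂ) g‖, sq_nonneg ‖(T.b : G → ℂ) g‖, sq_nonneg ‖(T.c : G → ℂ) g‖]
  exact_mod_cast this

theorem cent_ne_nine {x : G} (h1 : x ≠ 1) (hx : x ^ 9 = 1) : Nat.card (centralizer ({x} : Set G)) ≠ 9 := fun h => by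
  have h2 := orderOf_dvd_of_pow_eq_one hx
  obtain ⟨d, s, f, hd, hs, hf, h3⟩ := T.exists_int h1 (fun e => by have := e.trans h2; omega)
    (fun e => by have := e.trans h2; omega)
  have key : ∀ (χ : IrrCharacter G) (m : ℤ), (χ : G → ℂ) x = m → (3 : ℤ) ∣ m - charDegree (χ : G → ℂ) := fun χ m e =>
    H07.dvd_sub_of_pElt χ.2.isGeneralizedCharacter (k := 2) Nat.prime_three hx (Commute.one_right x)
      (by rwa [mul_one]) (by simp [χ.2.charDegree_eq])
  have e1 := key _ _ hd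
  have e2 := key _ _ hs
  have e3 := key _ _ hf
  rw [T.dd] at e1; rw [T.ds] at e2; rw [T.df] at e3; rw [h] at h3
  push_cast at h3
  have := sq_nonneg d; have := sq_nonneg s; have := sq_nonneg f
  have := sq_nonneg (1 + d + 2 * s); have := sq_nonneg (1 + d + 2 * s + f)
  have := abs_lt.1 (abs_lt_of_sq_lt_sq (show d ^ 2 < 3 ^ 2 by linarith) (by norm_num))
  have := abs_lt.1 (abs_lt_of_sq_lt_sq (show s ^ 2 < 3 ^ 2 by linarith) (by norm_num))
  have := abs_lt.1 (abs_lt_of_sq_lt_sq (show f ^ 2 < 3 ^ 2 by linarith) (by norm_num))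
  obtain rfl : f = 0 := by omega
  obtain rfl | rfl : d = -1 ∨ d = 2 := by omega
  all_goals obtain rfl | rfl : s = -2 ∨ s = 1 := by omega
  all_goals norm_num at h3

theorem dvd_144 (hn : Nat.card G = 7920) {g : G} (h1 : g ≠ 1) (h5 : ¬ 5 ∣ orderOf g) (h11 : ¬ 11 ∣ orderOf g) :
    Nat.card (centralizer ({g} : Set G)) ∣ 144 := by
  have key : ∀ q : ℕ, q.Prime → (∀ g : G, q ∣ orderOf g → Nat.card (centralizer ({g} : Set G)) = q) → ¬ q ∣ orderOf g →
      q.Coprime (Nat.card (centralizer ({g} : Set G))) := fun q hq h h' => hq.coprime_iff_not_dvd.2 fun e => by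
    have := Fact.mk hq
    obtain ⟨w, hw⟩ := exists_prime_orderOf_dvd_card' q e
    rw [← orderOf_coe] at hw
    exact h' (((Nat.dvd_prime hq).1 (h w hw.symm.dvd ▸ orderOf_dvd_natCard _ (mem_centralizer_singleton_iff.2
      (mem_centralizer_singleton_iff.1 w.2).symm))).resolve_left (mt orderOf_eq_one_iff.1 h1)).symm.dvd
  exact (Nat.Coprime.mul_left (key 5 (by norm_num) (fun g h => (T.c5 g h).2) h5)
    (key 11 (by norm_num) (fun g h => (T.c11 g h).2) h11)).symm.dvd_of_dvd_mul_left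
      (hn ▸ card_subgroup_dvd_card _ : _ ∣ 7920)

theorem card_normalizer [IsSimpleGroup G] (hn : Nat.card G = 7920) (P : Sylow 3 G) :
    Nat.card (normalizer ((P : Subgroup G) : Set G)) = 144 := by
  have hG : ¬ IsMulCommutative G := not_comm_of_simple_card (by rw [hn]; norm_num)
  have := Fact.mk Nat.prime_three
  have hP : Nat.card (P : Subgroup G) = 3 ^ 2 := by
    rw [P.card_eq_multiplicity, hn]; simp [Nat.factorization_def _ Nat.prime_three]; decide +kernel
  have := IsPGroup.isMulCommutative_of_card_eq_prime_sq hP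
  have h1 := card_sylow_mul_card_normalizer P
  obtain ⟨n, h2⟩ := exists_card_sylow 3 G
  have h3 := not_dvd_card_normalizer Nat.prime_five (fun g h => (T.c5 g h.symm.dvd).2) (Y := P) (by omega) (by omega)
  have h4 := not_dvd_card_normalizer (q := 11) (by norm_num) (fun g h => (T.c11 g h.symm.dvd).2) (Y := P) (by omega)
    (by omega)
  have h5 := card_dvd_of_le (le_normalizer (H := (P : Subgroup G)))
  have h6 : Nat.card (normalizer ((P : Subgroup G) : Set G)) ≠ 9 := fun e => not_normalizer_le_centralizer hG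
    (by omega) P ((eq_of_le_of_card_ge le_normalizer (by omega)).ge.trans P.1.le_centralizer)
  change _ * Nat.card (normalizer ((P : Subgroup G) : Set G)) = _ at h1
  by_contra h7
  have hN : Nat.card (normalizer ((P : Subgroup G) : Set G)) = 36 := by
    rw [h2, hn] at h1
    rw [hP] at h5
    generalize Nat.card (normalizer ((P : Subgroup G) : Set G)) = m at *
    obtain ⟨m, rfl⟩ := h5
    have h8 : m ∣ 16 := (Nat.Coprime.mul_right (Nat.prime_five.coprime_iff_not_dvd.2 fun e => h3 (e.mul_left _)).symm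
      ((Nat.Prime.coprime_iff_not_dvd (by norm_num)).2 fun e => h4 (e.mul_left _)).symm).dvd_of_dvd_mul_left
        ⟨1 + n * 3, by linarith⟩
    have := Nat.le_of_dvd (by norm_num) h8
    interval_cases m <;> omega
  have hc : Nat.card (ConjClasses G) = 10 := card_irr_eq_card_conjClasses.symm.trans T.card_irr
  have c : ∀ {a b : G}, ConjClasses.mk a = ConjClasses.mk b → orderOf a = orderOf b := fun h =>
    let ⟨c, e⟩ := ConjClasses.mk_eq_mk_iff_isConj.1 h; e.orderOf_eq _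
  obtain ⟨u, hu⟩ := exists_prime_orderOf_dvd_card' (G := G) 5 (hp := ⟨Nat.prime_five⟩) (by omega)
  obtain ⟨⟨_, v, hv, ov⟩, ⟨_, v', hv', ov'⟩, hvv⟩ := (Finite.one_lt_card_iff_nontrivial.1 (T.cls ▸ one_lt_two)).exists_pair_ne
  obtain rfl := ConjClasses.mem_carrier_iff_mk_eq.1 hv
  obtain rfl := ConjClasses.mem_carrier_iff_mk_eq.1 hv'
  have hvv : ConjClasses.mk v ≠ ConjClasses.mk v' := fun e => hvv (Subtype.ext e)
  obtain ⟨z, -, oz, hz⟩ := exists_central_elt (k := 3) Nat.prime_two (H := (⊤ : Subgroup G)) (by rw [card_top]; omega)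
  rw [inf_top_eq] at hz
  have idx : ∀ (g : G) (m : ℕ), m ≤ Nat.card (centralizer ({g} : Set G)) → (centralizer ({g} : Set G)).index * m ≤ 7920 :=
    fun g m h => hn ▸ (Nat.mul_le_mul_left _ h).trans (index_mul_card _).le
  have ox : ∀ x ∈ (P : Subgroup G), x ≠ 1 → orderOf x = 3 ∨ orderOf x = 9 := fun x hx h => by
    have e1 := hP ▸ orderOf_dvd_natCard _ hx
    have := mt orderOf_eq_one_iff.1 h
    have := Nat.le_of_dvd (by norm_num) e1
    interval_cases orderOf x <;> omega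
  have h9 : ∀ x ∈ (P : Subgroup G), x ≠ 1 → 9 ∣ Nat.card (centralizer ({x} : Set G)) ∧
      Nat.card (centralizer ({x} : Set G)) ∣ 144 ∧ Nat.card (centralizer ({x} : Set G)) ≠ 9 := fun x hx h => by
    have := ox x hx h
    exact ⟨hP.symm.dvd.trans (card_dvd_of_le (sylow_le_centralizer P hx)), T.dvd_144 hn h (by omega) (by omega),
      T.cent_ne_nine h (orderOf_dvd_iff_pow_eq_one.1 (by rcases this with e | e <;> simp [e]))⟩
  have hy : ∀ k, ∀ x ∈ (P : Subgroup G), x ≠ 1 → 2 ^ (k + 1) ∣ Nat.card (centralizer ({x} : Set G)) → ∃ y : G,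
      orderOf y = 2 * orderOf x ∧ y ^ 10 = x ∧ 3 * 2 ^ (k + 1) ≤ Nat.card (centralizer ({y} : Set G)) := fun k x hx h e => by
    obtain ⟨t, h1, h2, h3⟩ := exists_central_elt Nat.prime_two e
    have h4 : Commute x t := (mem_centralizer_singleton_iff.1 h1).symm
    have := ox x hx h
    refine ⟨x * t, by rw [h4.orderOf_mul_eq_mul_orderOf_of_coprime (by rcases this with e | e <;> rw [e, h2] <;> decide), h2, mul_comm],
      by rw [h4.mul_pow, orderOf_dvd_iff_pow_eq_one.1 (show orderOf t ∣ 10 by simp [h2]), mul_one, pow_succ,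
        orderOf_dvd_iff_pow_eq_one.1 (show orderOf x ∣ 9 by rcases this with e | e <;> simp [e]), one_mul],
      Nat.le_of_dvd Nat.card_pos (Nat.Coprime.mul_dvd_of_dvd_of_dvd (Nat.Coprime.pow_right _ (by norm_num)) (Dvd.dvd.trans (by omega)
        (orderOf_dvd_natCard _ (mem_centralizer_singleton_iff.2 ((Commute.refl x).mul_right h4))))
        (h3.trans dvd_card_centralizer_mul))⟩
  have c10 : ∀ {a b : G}, ConjClasses.mk (a ^ 10) ≠ ConjClasses.mk (b ^ 10) → ConjClasses.mk a ≠ ConjClasses.mk b :=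
    fun h e => h (ConjClasses.mk_eq_mk_iff_isConj.2 ((ConjClasses.mk_eq_mk_iff_isConj.1 e).pow 10))
  have two : ∀ x ∈ (P : Subgroup G), x ≠ 1 → 2 ^ (0 + 1) ∣ Nat.card (centralizer ({x} : Set G)) := fun x hx h => by
    obtain ⟨⟨m, e1⟩, e2, e3⟩ := h9 x hx h
    rw [e1] at e2 e3 ⊢
    have := Nat.le_of_dvd (by norm_num) e2
    have : m ≤ 16 := by omega
    interval_cases m <;> omega
  have o1 := orderOf_one (G := G)
  have h10 : ∀ x₁ ∈ (P : Subgroup G), ∀ x₂ ∈ (P : Subgroup G), x₁ ≠ 1 → x₂ ≠ 1 → ¬ IsConj x₁ x₂ →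
      (P : Set G) ⊆ {1} ∪ ({y | y ∈ (P : Subgroup G) ∧ IsConj x₁ y} ∪ {y | y ∈ (P : Subgroup G) ∧ IsConj x₂ y}) := by
    intro x₁ a₁ x₂ a₂ b₁ b₂ c₁₂ x₃ a₃
    by_contra h
    simp only [Set.mem_union, Set.mem_singleton_iff, Set.mem_setOf_eq, not_or, not_and, ← ConjClasses.mk_eq_mk_iff_isConj] at h c₁₂
    obtain ⟨b₃, c₁₃, c₂₃⟩ := h
    have c₁₃ := c₁₃ a₃; have c₂₃ := c₂₃ a₃
    obtain ⟨y₁, d₁, rfl, -⟩ := hy 0 x₁ a₁ b₁ (two _ a₁ b₁)
    obtain ⟨y₂, d₂, rfl, -⟩ := hy 0 x₂ a₂ b₂ (two _ a₂ b₂)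
    obtain ⟨y₃, d₃, rfl, -⟩ := hy 0 x₃ a₃ b₃ (two _ a₃ b₃)
    have := ox _ a₁ b₁; have := ox _ a₂ b₂; have := ox _ a₃ b₃
    refine absurd (length_le_card_conjClasses (L := [1, u, v, v', z, y₁ ^ 10, y₂ ^ 10, y₃ ^ 10, y₁, y₂, y₃]) ?_) (by simp [hc])
    simp only [List.map_cons, List.map_nil, List.nodup_cons, List.mem_cons, List.not_mem_nil, or_false, not_or,
      List.nodup_nil, not_false_eq_true, and_true]
    repeat' apply And.intro
    all_goals first | assumption | (intro h; have := c h; omega) | exact c10 (by assumption)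
  have h11 : ∀ x ∈ (P : Subgroup G), ∃ m, m ∣ 4 ∧ {y | y ∈ (P : Subgroup G) ∧ IsConj x y}.ncard * m = 4 ∧
      Nat.card (centralizer ({x} : Set G) ⊓ normalizer (P : Set G) : Subgroup G) = 9 * m := fun x hx => by
    obtain ⟨m, e⟩ := hP ▸ card_dvd_of_le (le_inf (sylow_le_centralizer P hx) le_normalizer)
    have := ncard_conj_mul P hx
    rw [show Nat.card (centralizer ({x} : Set G) ⊓ normalizer (P : Set G) : Subgroup G) = _ from e,
      show Nat.card (normalizer (P : Set G)) = _ from hN] at this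
    exact ⟨m, Dvd.intro_left _ (show _ = 4 by linarith), by linarith, e⟩
  have hP' : (P : Set G).ncard = 9 := hP
  obtain ⟨x₁, a₁, b₁⟩ := Set.exists_ne_of_one_lt_ncard (s := (P : Set G)) (by omega) 1
  obtain ⟨m₁, n₁, e₁, f₁⟩ := h11 x₁ a₁
  obtain ⟨x₂, a₂, h⟩ := Set.not_subset.1 fun h : (P : Set G) ⊆ {1} ∪ {y | y ∈ (P : Subgroup G) ∧ IsConj x₁ y} => by
    have := (Set.ncard_le_ncard h).trans (Set.ncard_union_le _ _)
    rw [Set.ncard_singleton] at this
    rcases m₁ with _ | m₁ <;> nlinarith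
  simp only [Set.mem_union, Set.mem_singleton_iff, Set.mem_setOf_eq, not_or, not_and] at h
  obtain ⟨b₂, c₁₂⟩ := h
  have c₁₂ := c₁₂ a₂
  obtain ⟨m₂, n₂, e₂, f₂⟩ := h11 x₂ a₂
  have h12 := (Set.ncard_le_ncard (h10 _ a₁ _ a₂ b₁ b₂ c₁₂)).trans ((Set.ncard_union_le _ _).trans
    (Nat.add_le_add_left (Set.ncard_union_le _ _) _))
  rw [Set.ncard_singleton] at h12
  have := Nat.le_of_dvd (by norm_num) n₁
  have := Nat.le_of_dvd (by norm_num) n₂
  obtain ⟨rfl, rfl⟩ : m₁ = 1 ∧ m₂ = 1 := by interval_cases m₁ <;> interval_cases m₂ <;> omega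
  have h13 : ∀ x ∈ (P : Subgroup G), x ≠ 1 → Nat.card (centralizer ({x} : Set G) ⊓ normalizer (P : Set G) : Subgroup G) = 9 →
      36 ∣ Nat.card (centralizer ({x} : Set G)) := fun x hx h e => by
    obtain ⟨m, e1⟩ := card_centralizer_eq_mul P hx
    obtain ⟨-, e2, e3⟩ := h9 x hx h
    rw [e1, e] at e2 e3 ⊢
    have := Nat.le_of_dvd (by norm_num) e2
    have : m ≤ 5 := by omega
    interval_cases m <;> omega
  have g₁ := h13 _ a₁ b₁ f₁
  have g₂ := h13 _ a₂ b₂ f₂
  obtain ⟨y₁, d₁, rfl, k₁⟩ := hy 1 x₁ a₁ b₁ (Dvd.dvd.trans (by norm_num) g₁)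
  obtain ⟨y₂, d₂, rfl, k₂⟩ := hy 1 x₂ a₂ b₂ (Dvd.dvd.trans (by norm_num) g₂)
  have := ox _ a₁ b₁; have := ox _ a₂ b₂
  rw [← ConjClasses.mk_eq_mk_iff_isConj] at c₁₂
  obtain ⟨w, hw⟩ := sum_index_centralizer (L := [1, u, v, v', z, y₁ ^ 10, y₂ ^ 10, y₁, y₂]) (by
    simp only [List.map_cons, List.map_nil, List.nodup_cons, List.mem_cons, List.not_mem_nil, or_false, not_or,
      List.nodup_nil, not_false_eq_true, and_true]
    repeat' apply And.intro
    all_goals first | assumption | (intro h; have := c h; omega) | exact c10 (by assumption)) (by simp [hc])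
  simp only [List.map_cons, List.map_nil, List.sum_cons, List.sum_nil, hn] at hw
  have := idx 1 7920 (by simp [show centralizer ({1} : Set G) = ⊤ by simp [eq_top_iff', mem_centralizer_singleton_iff], hn])
  have := idx u 5 (T.c5 u hu.symm.dvd).2.ge
  have := idx v 11 (T.c11 v ov.symm.dvd).2.ge
  have := idx v' 11 (T.c11 v' ov'.symm.dvd).2.ge
  have := idx z 16 (Nat.le_of_dvd Nat.card_pos hz)
  have := idx _ 36 (Nat.le_of_dvd Nat.card_pos g₁)
  have := idx _ 36 (Nat.le_of_dvd Nat.card_pos g₂)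
  have := idx _ 12 k₁
  have := idx _ 12 k₂
  have := idx w 4 (four_le_card_centralizer (by omega) w)
  omega

theorem perm [Fintype G] (hn : Nat.card G = 7920) (X : Type*) [MulAction G X] [Finite X] [Nonempty X]
    [MulAction.IsPretransitive G X] (hX : Nat.card X = 11 ∨ Nat.card X = 55) : (∃ χ : IrrCharacter G,
      charDegree (χ : G → ℂ) = 10 ∧ classInner (fun g : G => (Nat.card (MulAction.fixedBy X g) : ℂ)) χ = 1) ∧
    Nat.card (MulAction.orbitRel.Quotient G (X × X)) = if Nat.card X = 11 then 2 else 3 := by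
  obtain ⟨m, h1, h2⟩ := (isCharacter_perm (G := G) X).exists_nat_coeff
  have h3 := classInner_perm_perm (G := G) X X
  have h4 : m (irrOne G) = 1 := by exact_mod_cast (h1 (irrOne G)).symm.trans (classInner_perm_one_of_transitive X)
  have h5 := congrFun h2 1
  rw [h2, classInner_sum_smul_sum_smul] at h3
  simp only [Finset.sum_apply, Pi.smul_apply, smul_eq_mul, T.sum, ← (Subtype.property (_ : IrrCharacter _)).charDegree_eq,
    T.da, T.db, T.dc, T.dd, T.ds, T.ds', T.de, T.df, T.dh, charDegree_irrOne, MulAction.fixedBy_one_eq_univ,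
    Nat.card_univ, map_natCast, h4] at h3 h5
  norm_cast at h3 h5
  have h6 : Nat.card X = 55 → m T.e = 1 + m T.d + m T.s + m T.s' := fun hX => by
    obtain ⟨u, hu⟩ := exists_prime_orderOf_dvd_card' (G := G) 5 (hp := ⟨Nat.prime_five⟩) (by omega)
    obtain ⟨v0, v1, v2, v3, v4⟩ := T.v5 u hu.symm.dvd
    have h6 := congrFun h2 u
    have : IsEmpty (MulAction.fixedBy X u) := ⟨fun x => by
      have e1 := hu ▸ orderOf_dvd_natCard (MulAction.stabilizer G x.1) x.2
      have e2 := (MulAction.stabilizer G x.1).index_mul_card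
      rw [MulAction.index_stabilizer_of_transitive, hX] at e2
      omega⟩
    simp only [Finset.sum_apply, Pi.smul_apply, smul_eq_mul, T.sum, v1, v2, v3, v4, v0 T.a (by simp [T.da]),
      v0 T.b (by simp [T.db]), v0 T.c (by simp [T.dc]), v0 T.f (by simp [T.df]), v0 T.h (by simp [T.dh]), h4,
      irrOne_apply, Nat.card_of_isEmpty] at h6
    exact_mod_cast (by push_cast at h6 ⊢; linear_combination h6 : (m T.e : ℂ) = (1 + m T.d + m T.s + m T.s' : ℕ))
  have h7 : m T.a + m T.b + m T.c = 1 ∧ m T.d = 0 ∧ m T.s = 0 ∧ m T.s' = 0 ∧ m T.f = 0 ∧ m T.h = 0 ∧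
      m T.e = if Nat.card X = 11 then 0 else 1 := by
    have : m T.e = if Nat.card X = 11 then 0 else 1 := by split_ifs <;> omega
    have : m T.d = 0 := by split_ifs at this <;> omega
    have : m T.s = 0 := by split_ifs at * <;> omega
    have : m T.s' = 0 := by split_ifs at * <;> omega
    have : m T.f = 0 := by split_ifs at * <;> omega
    have : m T.h = 0 := by split_ifs at * <;> omega
    split_ifs at * <;> omega
  obtain ⟨e1, e2, e3, e4, e5, e6, e7⟩ := h7
  rw [e2, e3, e4, e5, e6, e7] at h3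
  obtain ⟨e8, e9, e10⟩ | ⟨e8, e9, e10⟩ | ⟨e8, e9, e10⟩ : (m T.a = 1 ∧ m T.b = 0 ∧ m T.c = 0) ∨
    (m T.a = 0 ∧ m T.b = 1 ∧ m T.c = 0) ∨ (m T.a = 0 ∧ m T.b = 0 ∧ m T.c = 1) := by omega
  all_goals rw [e8, e9, e10] at h3
  exacts [⟨⟨T.a, T.da, by rw [h1, e8, Nat.cast_one]⟩, by split_ifs at * <;> omega⟩,
    ⟨⟨T.b, T.db, by rw [h1, e9, Nat.cast_one]⟩, by split_ifs at * <;> omega⟩, ⟨⟨T.c, T.dc, by rw [h1, e10, Nat.cast_one]⟩, by split_ifs at * <;> omega⟩]

end H19.M11T
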