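import Mathlib
import Cfsg.Agent.H05.RepEquiv

/-!
Rank three actions and spherical functions (namespace H19).
* `exists_smul_of_rank` (invariants separating the orbits), `Rk3 G R`, `exists_rk3`, `Rk3.compl`, `Rk3.symm`, `Rk3.deg_dvd`
* `sph χ a b` with `sph_smul`, `sph_conv`, `sph_sum`, `sph_diag`; `Rk3.eqs`
* `exists_two_cliques`, `card_cliques_le` : graphs with the parameters of the triangular graph `T(11)`
-/

set_option linter.unusedSectionVars false

open H05 Cfsg Classical MulAction Finset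
open scoped ComplexConjugate

namespace H19

variable {G X : Type*} [Group G] [MulAction G X]

theorem exists_smul_of_rank {β : Type*} [Finite X] (τ : X → β) (h : ∀ (g : G) x, τ (g • x) = τ x)
    (h1 : Nat.card (orbitRel.Quotient G X) ≤ (Set.range τ).ncard) {x y : X} (e : τ x = τ y) : ∃ g : G, g • x = y := by
  let f : orbitRel.Quotient G X → Set.range τ := Quotient.lift (fun x => ⟨τ x, x, rfl⟩) (by
    rintro _ y ⟨g, rfl⟩; exact Subtype.ext (h g y))
  have h2 : Function.Surjective f := by rintro ⟨_, x, rfl⟩; exact ⟨Quotient.mk'' x, rfl⟩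
  exact Quotient.exact' ((h2.bijective_of_nat_card_le h1).1 (Subtype.ext e.symm : f (Quotient.mk'' y) = f (Quotient.mk'' x)))

variable (G) in
/-- `R` is one of the two non-trivial orbitals of a rank three action. -/
structure Rk3 (R : X → X → Prop) : Prop where
  irr : ∀ a, ¬ R a a
  inv : ∀ (g : G) {a b}, R a b → R (g • a) (g • b)
  tr1 : ∀ {a b c d}, R a b → R c d → ∃ g : G, g • a = c ∧ g • b = d
  tr2 : ∀ {a b c d}, a ≠ b → ¬ R a b → c ≠ d → ¬ R c d → ∃ g : G, g • a = c ∧ g • b = d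
  ne1 : ∃ a b, R a b
  ne2 : ∃ a b, a ≠ b ∧ ¬ R a b

theorem exists_rk3 [Finite X] [Nonempty X] [IsPretransitive G X] (h : Nat.card (orbitRel.Quotient G (X × X)) = 3) :
    ∃ R : X → X → Prop, Rk3 G R := by
  have := Fintype.ofFinite (orbitRel.Quotient G (X × X))
  obtain ⟨o⟩ := ‹Nonempty X›
  obtain ⟨q, q', h1, h2⟩ := card_eq_two.1 (show (univ.erase (Quotient.mk'' (o, o) : orbitRel.Quotient G (X × X))).card = 2 by
    rw [card_erase_of_mem (mem_univ _), card_univ, ← Nat.card_eq_fintype_card, h])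
  have h3 : ∀ a b : X, a ≠ b ↔ Quotient.mk'' (a, b) = q ∨ Quotient.mk'' (a, b) = q' := fun a b => by
    rw [← mem_singleton (a := q'), ← mem_insert, ← h2, mem_erase, and_iff_left (mem_univ _), not_iff_not]
    refine ⟨?_, fun e => let ⟨g, e⟩ := Quotient.exact' e; (congrArg Prod.fst e).symm.trans (congrArg Prod.snd e)⟩
    rintro rfl
    obtain ⟨g, e⟩ := exists_smul_eq G o a
    exact Quotient.sound' ⟨g, Prod.ext e e⟩
  have h4 : ∀ {a b c d : X}, (Quotient.mk'' (a, b) : orbitRel.Quotient G (X × X)) = Quotient.mk'' (c, d) →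
      ∃ g : G, g • a = c ∧ g • b = d := fun e => let ⟨g, e⟩ := Quotient.exact' e.symm; ⟨g, Prod.ext_iff.1 e⟩
  obtain ⟨⟨a, b⟩, e⟩ := Quotient.mk''_surjective q
  obtain ⟨⟨c, d⟩, e'⟩ := Quotient.mk''_surjective q'
  exact ⟨fun a b => Quotient.mk'' (a, b) = q, fun a e => (h3 a a).2 (Or.inl e) rfl,
    fun g a b e => (Quotient.sound' (s₁ := orbitRel G (X × X)) (mem_orbit (a, b) g)).trans e, fun e e' => h4 (e.trans e'.symm),
    fun e1 e2 e3 e4 => h4 ((((h3 _ _).1 e1).resolve_left e2).trans (((h3 _ _).1 e3).resolve_left e4).symm), ⟨a, b, e⟩,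
    ⟨c, d, (h3 c d).2 (Or.inr e'), fun e => h1 (e.symm.trans e')⟩⟩

namespace Rk3

variable {R : X → X → Prop} (h : Rk3 G R)
include h

theorem ne {a b : X} (e : R a b) : a ≠ b := by rintro rfl; exact h.irr a e

theorem inv_iff (g : G) {a b : X} : R (g • a) (g • b) ↔ R a b := ⟨fun e => by simpa using h.inv g⁻¹ e, h.inv g⟩

theorem compl : Rk3 G fun a b => a ≠ b ∧ ¬ R a b where
  irr a e := e.1 rfl
  inv g _ _ e := ⟨(MulAction.injective g).ne e.1, mt (h.inv_iff g).1 e.2⟩
  tr1 e e' := h.tr2 e.1 e.2 e'.1 e'.2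
  tr2 e1 e2 e3 e4 := h.tr1 (by tauto) (by tauto)
  ne1 := h.ne2
  ne2 := let ⟨a, b, e⟩ := h.ne1; ⟨a, b, h.ne e, by tauto⟩

theorem symm {t : G} {o : X} (h1 : t * t = 1) (h2 : o ≠ t • o) {a b : X} (e : R a b) : R b a := by
  have h3 : t • t • o = o := by rw [← mul_smul, h1, one_smul]
  by_cases h4 : R o (t • o)
  · obtain ⟨g, rfl, rfl⟩ := h.tr1 h4 e
    simpa only [h3] using h.inv g (h.inv t h4)
  · by_contra h5
    obtain ⟨g, rfl, rfl⟩ := h.tr2 h2 h4 (h.ne e).symm h5
    exact h4 (by simpa only [h3] using h.inv t ((h.inv_iff g).1 e))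

variable [Fintype X] [IsPretransitive G X]

theorem deg_eq (a b : X) : #{c | R a c} = #{c | R b c} := by
  obtain ⟨g, rfl⟩ := exists_smul_eq G a b
  exact card_equiv (MulAction.toPerm g) fun c => by simp [h.inv_iff]

theorem deg_dvd (a : X) : #{c | R a c} ∣ Nat.card (stabilizer G a) := by
  obtain ⟨b, c, e⟩ := h.ne1
  obtain ⟨g, rfl⟩ := exists_smul_eq G b a
  rw [← Set.ncard_coe_finset, show ((univ.filter (R (g • b)) : Finset X) : Set X) = orbit (stabilizer G (g • b)) (g • c) from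
    Set.ext fun d => by
      simp only [coe_filter, mem_univ, true_and, Set.mem_setOf_eq]
      exact ⟨fun e' => let ⟨k, e1, e2⟩ := h.tr1 (h.inv g e) e'; ⟨⟨k, e1⟩, e2⟩,
        fun ⟨k, e'⟩ => by have := h.inv k.1 (h.inv g e); rwa [k.2, show k.1 • g • c = d from e'] at this⟩, ← index_stabilizer]
  exact Subgroup.index_dvd_card _

theorem deg_compl (a : X) : #{c | R a c} + #{c | a ≠ c ∧ ¬ R a c} + 1 = Fintype.card X := by
  rw [← card_univ, ← card_filter_add_card_filter_not (s := univ) (R a), add_assoc, ← card_insert_of_notMem (a := a) (by simp)]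
  refine congrArg (fun s : Finset X => #{c | R a c} + #s) (Finset.ext fun c => ?_)
  by_cases e : c = a <;> simp [e, h.irr, Ne.symm]

end Rk3

section
variable [Fintype G]

/-- The spherical function of a character. -/
noncomputable def sph (χ : G → ℂ) (a b : X) : ℂ := ∑ g : G, if g • b = a then χ g else 0

variable {χ : G → ℂ} (hχ : IsIrrCharacter G χ)
include hχ

theorem sph_smul (k : G) (a b : X) : sph χ (k • a) (k • b) = sph χ a b := by
  rw [sph, ← Equiv.sum_comp (MulAut.conj k).toEquiv]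
  exact sum_congr rfl fun g _ => by simp [mul_smul, hχ.isClassFunction g k]

variable [Fintype X]

theorem sph_conv (a b : X) : χ 1 * ∑ c, sph χ a c * sph χ c b = Nat.card G * sph χ a b := by
  have h1 : ∀ u, χ 1 * ∑ g, χ g⁻¹ * χ (g * u) = Nat.card G * χ u := fun u => by
    rw [hχ.sum_mul_apply_mul (f := fun g => χ g⁻¹) (fun g k => by
      simpa [mul_assoc] using hχ.isClassFunction g⁻¹ k), mul_div_cancel₀ _ hχ.apply_one_ne_zero]
    simp only [hχ.isCharacter.apply_inv, mul_comm (conj _), ← card_mul_classInner, hχ.classInner_self, mul_one]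
  simp only [sph, mul_sum, sum_mul, mul_ite, mul_zero, ← h1]
  rw [sum_comm]
  simp only [sum_ite_eq, mem_univ, if_true]
  rw [sum_comm, ← Equiv.sum_comp (Equiv.inv G), sum_congr rfl fun g _ => (Equiv.sum_comp (Equiv.mulLeft g) _).symm, sum_comm]
  exact sum_congr rfl fun u _ => by split_ifs with h <;> simp [mul_smul, h, mul_sum]

theorem sph_sum (h : χ ≠ 1) (b : X) : ∑ a, sph χ a b = 0 := by
  have := card_mul_classInner χ 1
  rw [hχ.classInner_of_ne isIrrCharacter_one h] at this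
  simp only [sph]
  rw [sum_comm]
  simpa using this.symm

theorem sph_diag [IsPretransitive G X] (a : X) : Fintype.card X * sph χ a a =
    Nat.card G * conj (classInner (fun g : G => (Nat.card (fixedBy X g) : ℂ)) χ) := by
  rw [classInner_conj_symm, card_mul_classInner, ← nsmul_eq_mul, ← card_univ, ← sum_const, sum_congr rfl fun b _ =>
    (let ⟨g, e⟩ := exists_smul_eq G b a; e ▸ sph_smul hχ g b b : sph χ a a = sph χ b b)]
  simp only [sph]
  rw [sum_comm]
  exact sum_congr rfl fun g _ => by simp [← sum_filter, mul_comm, Fintype.card_subtype]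

theorem Rk3.eqs [IsPretransitive G X] {R : X → X → Prop} (h : Rk3 G R) (hs : ∀ {a b}, R a b → R b a) (h1 : χ ≠ 1) (o : X) :
    ∃ β γ : ℂ, Fintype.card X * β + γ * #{c | R o c} + (sph χ o o - β) = 0 ∧ ∀ a b,
      χ 1 * (-Fintype.card X * β ^ 2 + γ ^ 2 * #{c | R a c ∧ R c b} + 2 * γ * (sph χ o o - β) * (if R a b then 1 else 0) +
        (sph χ o o - β) ^ 2 * (if a = b then 1 else 0)) =
      Nat.card G * (β + γ * (if R a b then 1 else 0) + (sph χ o o - β) * (if a = b then 1 else 0)) := by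
  obtain ⟨a, b, e⟩ := h.ne1
  obtain ⟨c, d, e1, e2⟩ := h.ne2
  have h2 : ∀ x y, sph χ x y = sph χ c d + (sph χ a b - sph χ c d) * (if R x y then 1 else 0) +
      (sph χ o o - sph χ c d) * (if x = y then 1 else 0) := fun x y => by
    split_ifs with e3 e4 e4
    · exact absurd e4 (h.ne e3)
    · obtain ⟨g, rfl, rfl⟩ := h.tr1 e e3; simp [sph_smul hχ]
    · obtain ⟨g, rfl⟩ := exists_smul_eq G o y; simp [sph_smul hχ, e4]
    · obtain ⟨g, rfl, rfl⟩ := h.tr2 e1 e2 e4 e3; simp [sph_smul hχ]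
  generalize sph χ a b - sph χ c d = γ at *
  generalize sph χ c d = β at *
  have h3 : ∀ x, ∑ y, (if R x y then 1 else 0 : ℂ) = #{c | R o c} := fun x => by rw [sum_boole, h.deg_eq]
  have h4 : ∀ x, ∑ y, (if R y x then 1 else 0 : ℂ) = #{c | R o c} := fun x =>
    (sum_congr rfl fun y _ => if_congr ⟨hs, hs⟩ rfl rfl).trans (h3 x)
  have h5 := sph_sum hχ h1 o
  rw [sum_congr rfl fun y _ => h2 y o] at h5
  simp only [sum_add_distrib, ← mul_sum, h4, sum_const, card_univ, nsmul_eq_mul, sum_ite_eq', mem_univ, if_true, mul_one] at h5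
  refine ⟨β, γ, h5, fun x y => ?_⟩
  rw [← h2, ← sph_conv hχ, sum_congr rfl fun z _ => show sph χ x z * sph χ z y = β ^ 2 +
    β * γ * (if R x z then 1 else 0) + β * γ * (if R z y then 1 else 0) + γ ^ 2 * (if R x z ∧ R z y then 1 else 0) +
    (sph χ o o - β) * (if x = z then β + γ * (if R z y then 1 else 0) + (sph χ o o - β) * (if z = y then 1 else 0) else 0) +
    (sph χ o o - β) * (if z = y then β + γ * (if R x z then 1 else 0) else 0) by
      rw [h2 x z, h2 z y, ite_and]; split_ifs <;> ring]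
  simp only [sum_add_distrib, ← mul_sum, h3, h4, sum_const, card_univ, nsmul_eq_mul, sum_ite_eq', sum_ite_eq, mem_univ,
    if_true, sum_boole]
  linear_combination (-2 * χ 1 * β) * h5

end

section
variable [Fintype X] {R : X → X → Prop} (hi : ∀ a, ¬ R a a) (hs : ∀ {a b}, R a b → R b a) (h1 : ∀ a, #{c | R a c} = 18)
  (h2 : ∀ a b, R a b → #{c | R a c ∧ R c b} = 9) (h3 : ∀ a b, a ≠ b → ¬ R a b → #{c | R a c ∧ R c b} = 4)
include hi hs h1 h2 h3

theorem exists_two_cliques (a : X) : ∃ C D : Finset X, #C = 9 ∧ #D = 9 ∧ (∀ x, R a x ↔ x ∈ C ∨ x ∈ D) ∧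
    (∀ x ∈ C, ∀ y ∈ C, x ≠ y → R x y) ∧ ∀ x ∈ D, ∀ y ∈ D, x ≠ y → R x y := by
  let N : X → Finset X := fun b => {z | R a z ∧ R z b}
  have no3 : ∀ b c d, R a b → R a c → R a d → b ≠ c → b ≠ d → c ≠ d → ¬ R b c → ¬ R b d → R c d := by
    intro b c d ab ac ad bc bd cd nbc nbd
    by_contra ncd
    have key : ∀ x y, R a x → R a y → x ≠ y → ¬ R x y → #(N x ∩ N y) ≤ 3 :=
      fun x y ax ay e e' => Nat.le_of_succ_le_succ ((card_insert_of_notMem (a := a) (by simp [hi, N])).ge.trans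
        ((card_le_card fun z hz => by
          simp only [mem_insert, mem_inter, N, mem_filter, mem_univ, true_and] at hz ⊢
          rcases hz with rfl | hz
          exacts [⟨hs ax, ay⟩, ⟨hs hz.1.2, hz.2.2⟩]).trans (h3 x y e e').le))
    have e1 := card_union_add_card_inter (N b) (N c)
    have e2 := card_union_add_card_inter (N b ∪ N c) (N d)
    have e3 := card_union_le (N b ∩ N d) (N c ∩ N d)
    have e4 := card_le_card (show N b ∪ N c ∪ N d ⊆
        (univ.filter (R a)).erase b from fun z hz => by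
      simp only [mem_union, mem_erase, N, mem_filter, mem_univ, true_and] at hz ⊢
      exact ⟨by rintro rfl; have := hi z; tauto, by tauto⟩)
    rw [card_erase_of_mem (by simpa), h1] at e4
    rw [union_inter_distrib_right, h2 a d ad] at e2
    rw [h2 a b ab, h2 a c ac] at e1
    have := key b c ab ac bc nbc; have := key b d ab ad bd nbd; have := key c d ac ad cd ncd
    omega
  obtain ⟨D, mD⟩ : ∃ D : X → Finset X, ∀ {b c}, c ∈ D b ↔ R a c ∧ c ≠ b ∧ ¬ R c b :=
    ⟨fun b => {c | R a c ∧ c ≠ b ∧ ¬ R c b}, by simp⟩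
  have cD : ∀ b, R a b → #(D b) = 8 := fun b ab => by
    have := card_filter_add_card_filter_not (s := univ.filter (R a)) (R · b)
    rw [filter_filter, filter_filter, h1, h2 a b ab, ← card_erase_add_one (a := b) (by simp [ab, hi])] at this
    rw [show D b = (univ.filter fun c => R a c ∧ ¬ R c b).erase b from Finset.ext fun c => by simp [mD, and_left_comm]]
    omega
  have cl : ∀ b, R a b → ∀ x ∈ D b, ∀ y ∈ D b, x ≠ y → R x y := fun b ab x hx y hy e =>
    no3 b x y ab (mD.1 hx).1 (mD.1 hy).1 (mD.1 hx).2.1.symm (mD.1 hy).2.1.symm e (mt hs (mD.1 hx).2.2) (mt hs (mD.1 hy).2.2)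
  have sD : ∀ {b c}, R a b → c ∈ D b → b ∈ D c := fun ab h => mD.2 ⟨ab, (mD.1 h).2.1.symm, mt hs (mD.1 h).2.2⟩
  have dj : ∀ {b c}, R a b → c ∈ D b → Disjoint (D b) (D c) := fun {b c} ab h => disjoint_left.2 fun x hx hx' =>
    (mD.1 hx').2.2 (cl b ab x hx c h (mD.1 hx').2.1)
  have small : ∀ {b c u w}, R a b → c ∈ D b → R a u → w ∈ D u ∩ D c → #(D u ∩ D b) ≤ 2 := fun {b c u w} ab h au hw => by
    obtain ⟨w1, w2⟩ := mem_inter.1 hw
    have e1 := card_le_card (show (D c).erase w ∪ (D u ∩ D b) ⊆ univ.filter fun z => R a z ∧ R z w from fun z hz => by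
      simp only [mem_union, mem_erase, mem_inter, mem_filter, mem_univ, true_and] at hz ⊢
      rcases hz with hz | hz
      exacts [⟨(mD.1 hz.2).1, cl c (mD.1 h).1 z hz.2 w w2 hz.1⟩,
        ⟨(mD.1 hz.2).1, cl u au z hz.1 w w1 fun e => disjoint_left.1 (dj ab h) hz.2 (e ▸ w2)⟩])
    rw [card_union_of_disjoint (((dj ab h).symm.mono (erase_subset _ _) inter_subset_right)), card_erase_of_mem w2,
      cD c (mD.1 h).1, h2 a w (mD.1 w1).1] at e1
    omega
  obtain ⟨b, ab⟩ := card_pos.1 (show 0 < #{c | R a c} by rw [h1]; norm_num)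
  replace ab : R a b := by simpa using ab
  obtain ⟨c, hc⟩ := card_pos.1 (show 0 < #(D b) by rw [cD b ab]; norm_num)
  have ac := (mD.1 hc).1
  obtain ⟨u, v, uv, e⟩ := card_eq_two.1 (show #(univ.filter (R a) \ (D b ∪ D c)) = 2 by
    rw [card_sdiff_of_subset fun x hx => by rcases mem_union.1 hx with h | h <;> simp [(mD.1 h).1],
      card_union_of_disjoint (dj ab hc), h1, cD b ab, cD c ac])
  have e' : ∀ x, (R a x ∧ x ∉ D b ∧ x ∉ D c) ↔ x = u ∨ x = v := fun x => by simpa using Finset.ext_iff.1 e x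
  have key : ∀ {b c u v}, R a b → c ∈ D b → (∀ x, (R a x ∧ x ∉ D b ∧ x ∉ D c) ↔ x = u ∨ x = v) → D u ∩ D c = ∅ →
      D u = insert v ((D b).erase c) := fun {b c u v} ab hc e' h => eq_of_subset_of_card_le (fun x hx => by
    have h4 := (e' u).2 (Or.inl rfl)
    have h5 : x ∉ D c := fun e => by simpa [h] using mem_inter.2 ⟨hx, e⟩
    have := (e' x).1; have := mD.1 hx
    have : x ≠ c := by rintro rfl; exact h4.2.2 (sD h4.1 hx)
    simp only [mem_insert, mem_erase]; tauto) (by
    have := card_insert_le v ((D b).erase c)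
    rw [card_erase_of_mem hc, cD b ab] at this
    rw [cD u ((e' u).2 (Or.inl rfl)).1]; omega)
  have alt : ∀ {u v}, (∀ x, (R a x ∧ x ∉ D b ∧ x ∉ D c) ↔ x = u ∨ x = v) → D u ∩ D c = ∅ ∨ D u ∩ D b = ∅ := fun {u v} e' => by
    by_contra h
    simp only [not_or, ← ne_eq, ← nonempty_iff_ne_empty] at h
    obtain ⟨⟨w, hw⟩, w', hw'⟩ := h
    have au := ((e' u).2 (Or.inl rfl)).1
    have e1 := card_le_card (show D u ⊆ insert v (D u ∩ D b ∪ D u ∩ D c) from fun x hx => by
      have := (e' x).1; have := mD.1 hx; simp only [mem_insert, mem_union, mem_inter]; tauto)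
    have := card_insert_le v (D u ∩ D b ∪ D u ∩ D c)
    have := card_union_le (D u ∩ D b) (D u ∩ D c)
    have := small ab hc au hw; have := small ac (sD ab hc) au hw'; have := cD u au
    omega
  have both : ∀ {b c u v}, R a b → c ∈ D b → (∀ x, (R a x ∧ x ∉ D b ∧ x ∉ D c) ↔ x = u ∨ x = v) → D u ∩ D c = ∅ →
      D v ∩ D c ≠ ∅ := fun {b c u v} ab hc e' h h' => by
    have e1 := key ab hc e' h
    have e2 := key ab hc (fun x => (e' x).trans or_comm) h'
    obtain ⟨w, hw⟩ := card_pos.1 (show 0 < #((D b).erase c) by rw [card_erase_of_mem hc, cD b ab]; norm_num)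
    have h4 : w ∈ D v := e2 ▸ mem_insert_of_mem hw
    exact (mD.1 h4).2.2 (cl u ((e' u).2 (Or.inl rfl)).1 w (e1 ▸ mem_insert_of_mem hw) v (e1 ▸ mem_insert_self _ _)
      (mD.1 h4).2.1)
  have fin : ∀ {c u}, R a c → R a u → u ∉ D c → D u ∩ D c = ∅ → #(insert u (D c)) = 9 ∧
      ∀ x ∈ insert u (D c), ∀ y ∈ insert u (D c), x ≠ y → R x y := fun {c u} ac au h h' => by
    have h4 : ∀ x ∈ D c, R x u := fun x hx => by_contra fun e => by
      simpa [h'] using mem_inter.2 ⟨mD.2 ⟨(mD.1 hx).1, ne_of_mem_of_not_mem hx h, e⟩, hx⟩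
    refine ⟨by rw [card_insert_of_notMem h, cD c ac], fun x hx y hy e => ?_⟩
    rcases mem_insert.1 hx with rfl | hx' <;> rcases mem_insert.1 hy with rfl | hy'
    exacts [absurd rfl e, hs (h4 y hy'), h4 x hx', cl c ac x hx' y hy' e]
  have e'' : ∀ x, (R a x ∧ x ∉ D b ∧ x ∉ D c) ↔ x = v ∨ x = u := fun x => (e' x).trans or_comm
  have hu := (e' u).2 (Or.inl rfl)
  have hv := (e' v).2 (Or.inr rfl)
  have pt : ∀ x, R a x ↔ (x = u ∨ x = v) ∨ x ∈ D b ∨ x ∈ D c := fun x => by
    have := e' x; have := (@mD b x).1; have := (@mD c x).1; tauto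
  rcases alt e' with h | h <;> rcases alt e'' with h' | h'
  · exact absurd h' (both ab hc e' h)
  · exact ⟨_, _, (fin ac hu.1 hu.2.2 h).1, (fin ab hv.1 hv.2.1 h').1, fun x => by rw [pt]; simp; tauto,
      (fin ac hu.1 hu.2.2 h).2, (fin ab hv.1 hv.2.1 h').2⟩
  · exact ⟨_, _, (fin ac hv.1 hv.2.2 h').1, (fin ab hu.1 hu.2.1 h).1, fun x => by rw [pt]; simp; tauto,
      (fin ac hv.1 hv.2.2 h').2, (fin ab hu.1 hu.2.1 h).2⟩
  · exact absurd h' (both ac (sD ab hc) (fun x => by rw [← e' x]; tauto) h)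

theorem card_cliques_le : #{C : Finset X | #C = 10 ∧ ∀ x ∈ C, ∀ y ∈ C, x ≠ y → R x y} * 10 ≤ Fintype.card X * 2 := by
  refine card_mul_le_card_mul (fun C a => a ∈ C) (fun C hC => by simp [bipartiteAbove, (mem_filter.1 hC).2.1]) fun a _ => ?_
  obtain ⟨C, D, c1, c2, c3, c4, c5⟩ := exists_two_cliques hi hs h1 h2 h3 a
  have dj : Disjoint C D := card_union_eq_card_add_card.1 (by
    rw [c1, c2]; exact (congrArg card (Finset.ext fun x => by simp [c3])).trans (h1 a))
  refine (card_le_card (t := {insert a C, insert a D}) fun E hE => ?_).trans card_le_two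
  simp only [bipartiteBelow, mem_filter, mem_univ, true_and] at hE
  obtain ⟨⟨e1, e2⟩, e3⟩ := hE
  have e4 : ∀ x ∈ E.erase a, x ∈ C ∨ x ∈ D := fun x hx => (c3 x).1 (e2 a e3 x (mem_of_mem_erase hx) (ne_of_mem_erase hx).symm)
  have key : ∀ {C D : Finset X}, #C = 9 → Disjoint C D → (∀ x ∈ C, R a x) → (∀ x ∈ D, R a x) →
      (∀ x ∈ C, ∀ y ∈ C, x ≠ y → R x y) → (E ∩ C).Nonempty → #(E ∩ D) ≤ 1 := fun {C D} c1 dj c3 c3' c4 ⟨w, hw⟩ => by
    obtain ⟨w1, w2⟩ := mem_inter.1 hw
    have := card_le_card (show C.erase w ∪ E ∩ D ⊆ univ.filter fun z => R a z ∧ R z w from fun z hz => by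
      simp only [mem_union, mem_erase, mem_inter, mem_filter, mem_univ, true_and] at hz ⊢
      rcases hz with hz | hz
      exacts [⟨c3 z hz.2, c4 z hz.2 w w2 hz.1⟩, ⟨c3' z hz.2, e2 z hz.1 w w1 fun e => disjoint_left.1 dj w2 (e ▸ hz.2)⟩])
    rw [card_union_of_disjoint (dj.mono (erase_subset _ _) inter_subset_right), card_erase_of_mem w2, c1, h2 a w (c3 w w2)] at this
    omega
  have sub : ∀ {C : Finset X}, #C = 9 → E.erase a ⊆ C → E = insert a C := fun c h => by
    rw [← eq_of_subset_of_card_le h (by rw [card_erase_of_mem e3, e1, c]), insert_erase e3]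
  have a1 : ∀ x ∈ C, R a x := fun x h => (c3 x).2 (Or.inl h)
  have a2 : ∀ x ∈ D, R a x := fun x h => (c3 x).2 (Or.inr h)
  rcases (E ∩ C).eq_empty_or_nonempty with h | h
  · exact mem_insert_of_mem (mem_singleton.2 (sub c2 fun x hx => (e4 x hx).resolve_left fun e => by
      simpa [h] using mem_inter.2 ⟨mem_of_mem_erase hx, e⟩))
  rcases (E ∩ D).eq_empty_or_nonempty with h' | h'
  · exact mem_insert.2 (Or.inl (sub c1 fun x hx => (e4 x hx).resolve_right fun e => by
      simpa [h'] using mem_inter.2 ⟨mem_of_mem_erase hx, e⟩))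
  have := key c1 dj a1 a2 c4 h; have := key c2 dj.symm a2 a1 c5 h'
  have := (card_le_card (show E.erase a ⊆ E ∩ C ∪ E ∩ D from fun x hx => by have := e4 x hx; have := mem_of_mem_erase hx; simp only [mem_union, mem_inter]; tauto)).trans (card_union_le _ _)
  rw [card_erase_of_mem e3] at this
  omega

end

end H19
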