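import Mathlib
import Cfsg.Agent.H14.Sharp
import Cfsg.Agent.H19.Basic

/-!
Uniqueness of the sharply 4-transitive group on 11 points and of the sharply 5-transitive group on 12 points (namespace H19).
* `SU.search` (all involutions with prescribed values are listed or give a forbidden element)
* `SU.rho e` (the action in the labelling `e`), `SU.label11`, `SU.range11`, `sharp11_equiv`, `sharp12_equiv`
-/

open MulAction Equiv Finset

namespace H19

namespace SU

variable {n : ℕ}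

/-- Evaluation of a word on a point. -/
def ev (T : List (List (Fin n))) (w : List ℕ) (x : Fin n) : Fin n := w.foldr (fun i y => (T.getD i []).getD y y) x

/-- The word has at least `k` fixed points and is not the identity. -/
def bad (k : ℕ) (T : List (List (Fin n))) (w : List ℕ) : Bool :=
  let f := ((List.finRange n).filter fun x => ev T w x == x).length
  decide (k ≤ f) && decide (f < n)

/-- Search through all tables. -/
def go (ok : List (Fin n) → Fin n → Bool) (test : List (Fin n) → Bool) : ℕ → List (Fin n) → Bool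
  | 0, l => test l
  | m + 1, l => (List.finRange n).all fun v => !ok l v || go ok test m (l ++ [v])

/-- Consistency with an involution with prescribed values. -/
def okI (pre : List (Fin n × Fin n)) (l : List (Fin n)) (v : Fin n) : Bool :=
  !l.contains v && (pre.all fun p => p.1.val != l.length || v == p.2) &&
    (List.finRange n).all fun j => decide (l.length ≤ j) || ((l.getD j j).val == l.length) == (v == j)

theorem go_sound {ok : List (Fin n) → Fin n → Bool} {test : List (Fin n) → Bool} {f : Fin n → Fin n}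
    (h : ∀ i : Fin n, ok ((List.ofFn f).take i) (f i) = true) (m k : ℕ) (e : k + m = n)
    (h1 : go ok test m ((List.ofFn f).take k) = true) : test (List.ofFn f) = true := by
  induction m generalizing k with
  | zero => rwa [go, List.take_of_length_le (by simp; omega)] at h1
  | succ m ih =>
    have := List.all_eq_true.1 h1 (f ⟨k, by omega⟩) (List.mem_finRange _)
    rw [h ⟨k, by omega⟩] at this
    refine ih (k + 1) (by omega) ?_
    rwa [List.take_add_one, List.getElem?_ofFn, dif_pos (by omega)]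

theorem ev_eq (gs : List (Perm (Fin n))) (w : List ℕ) (x : Fin n) :
    ev (gs.map fun g : Perm (Fin n) => List.ofFn g) w x = (w.map fun i => gs.getD i 1).prod x := by
  induction w with
  | nil => rfl
  | cons i w ih =>
    rw [List.map_cons, List.prod_cons, Perm.mul_apply, ← ih, ev, List.foldr_cons]
    by_cases h : i < gs.length <;> simp [h, ev]

theorem search {K : Subgroup (Perm (Fin n))} {k : ℕ} (hs : ∀ g ∈ K, k ≤ #{x | g x = x} → g = 1) {gs : List (Perm (Fin n))}
    (hg : ∀ g ∈ gs, g ∈ K) {t : Perm (Fin n)} (ht : t ∈ K) (h1 : t * t = 1) {pre : List (Fin n × Fin n)}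
    (h2 : ∀ p ∈ pre, t p.1 = p.2) {S T : List (List (Fin n))} {W : List (List ℕ)}
    (hT : (gs.map fun g : Perm (Fin n) => List.ofFn g) = T)
    (h : go (okI pre) (fun l => S.contains l || W.any (bad k (T ++ [l]))) n [] = true) : List.ofFn t ∈ S := by
  subst hT
  have h3 := go_sound (f := t) (fun i => ?_) n 0 (zero_add n) h
  · rw [Bool.or_eq_true, List.any_eq_true] at h3
    refine h3.elim List.mem_of_elem_eq_true fun ⟨w, _, h3⟩ => False.elim ?_
    rw [show (gs.map fun g : Perm (Fin n) => List.ofFn g) ++ [List.ofFn t] = (gs ++ [t]).map fun g : Perm (Fin n) => List.ofFn g by simp] at h3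
    simp only [bad, ev_eq, Bool.and_eq_true, decide_eq_true_eq] at h3
    rw [hs _ (K.list_prod_mem fun g h => ?_) (h3.1.trans (by simp [Fin.univ_def, Finset.card, Finset.filter]; rfl))] at h3
    · simp at h3
    · obtain ⟨i, -, rfl⟩ := List.mem_map.1 h
      rw [List.getD_eq_getElem?_getD]
      rcases e : (gs ++ [t])[i]? with _ | g
      · exact K.one_mem
      · rcases List.mem_append.1 (List.mem_of_getElem? e) with h | h
        exacts [hg g h, List.mem_singleton.1 h ▸ ht]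
  · have h4 : ∀ j, t j = i ↔ t i = j := fun j => by
      rw [← Perm.eq_inv_iff_eq, inv_eq_of_mul_eq_one_right h1, eq_comm]
    simp only [okI, Bool.and_eq_true, List.all_eq_true, Bool.or_eq_true, List.length_take, List.length_ofFn,
      min_eq_left i.2.le, bne_iff_ne, beq_iff_eq, decide_eq_true_eq, or_iff_not_imp_left, not_not, not_le]
    exact ⟨⟨by simp [List.mem_take_iff_getElem]; exact fun j e => Fin.ne_of_val_ne (ne_of_lt e),
      fun p hp e => by rw [← h2 p hp, Fin.ext e]⟩, fun j _ e => by simp [e, Fin.val_inj, ← h4, Bool.beq_eq_decide_eq]⟩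

variable {G α : Type*} [Group G] [MulAction G α]

variable (G) in
/-- The action in a labelling. -/
def rho (e : Fin n ≃ α) : G →* Perm (Fin n) := e.symm.permCongrHom.toMonoidHom.comp (toPermHom G α)

theorem rho_eq_iff {e : Fin n ≃ α} {g : G} {i j : Fin n} : rho G e g i = j ↔ g • e i = e j := e.symm_apply_eq

theorem rho_sharp {k : ℕ} (h : H14.Sharp G α k) (e : Fin n ≃ α) : ∀ g ∈ (rho G e).range, k ≤ #{x | g x = x} → g = 1 := by
  rintro _ ⟨g, rfl⟩ h1
  obtain ⟨x⟩ : Nonempty (Fin k ↪ (univ.filter fun x => rho G e g x = x)) :=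
    Function.Embedding.nonempty_of_card_le (by rwa [Fintype.card_fin, Fintype.card_coe])
  rw [H18.sharp_iff.1 h.2 g (fun i => e (x i)) (e.injective.comp (Subtype.val_injective.comp x.injective))
    fun i => rho_eq_iff.1 (mem_filter.1 (x i).2).2, map_one]

theorem exists_swap {k : ℕ} (h : H14.Sharp G α (k + 2)) (e : Fin n ≃ α) (x : Fin (k + 2) → Fin n) (hx : Function.Injective x) :
    ∃ t ∈ (rho G e).range, t * t = 1 ∧ ∀ i, t (x i) = x (swap 0 1 i) := by
  obtain ⟨g, hg⟩ := H18.mt_iff.1 h.1 (e ∘ x) (e ∘ x ∘ swap 0 1) (e.injective.comp hx)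
    (e.injective.comp (hx.comp (swap 0 1).injective))
  refine ⟨_, ⟨g, rfl⟩, ?_, fun i => rho_eq_iff.2 (hg i)⟩
  rw [← map_mul, H18.sharp_iff.1 h.2 (g * g) (e ∘ x) (e.injective.comp hx) fun i => by
    rw [mul_smul, hg]; simpa using hg (swap 0 1 i), map_one]

/-- A permutation from an involutive table. -/
def invP (l : List (Fin n)) (h : ∀ i : Fin n, l.getD (l.getD i i) (l.getD i i) = i) : Perm (Fin n) :=
  ⟨fun i => l.getD i i, fun i => l.getD i i, h, h⟩

/-- The first generator of `M11`. -/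
def c11 : Perm (Fin 11) := Equiv.addRight 1

/-- The second generator of `M11`. -/
def t11 : Perm (Fin 11) := invP [1, 0, 2, 8, 4, 6, 5, 7, 3, 10, 9] (by decide)

theorem label11 [Fintype α] (h : H14.Sharp G α 4) (hα : Fintype.card α = 11) :
    ∃ e : Fin 11 ≃ α, c11 ∈ (rho G e).range ∧ t11 ∈ (rho G e).range := by
  have := h.finite (by omega)
  have := h.trans (by omega)
  have h1 := (h.simple11 hα).2
  obtain ⟨c, hc⟩ := exists_prime_orderOf_dvd_card' (G := G) 11 (hp := ⟨by norm_num⟩) (by omega)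
  obtain ⟨a⟩ : Nonempty α := Fintype.card_pos_iff.1 (by omega)
  have h2 : Function.minimalPeriod (c • ·) a = 11 := by
    refine ((Nat.dvd_prime (by norm_num)).1 (hc ▸ period_dvd_orderOf c a)).resolve_left fun e => ?_
    have e1 := hc ▸ Subgroup.orderOf_dvd_natCard (stabilizer G a) (period_eq_one_iff.1 e)
    have e2 := (stabilizer G a).index_mul_card
    rw [index_stabilizer_of_transitive, Nat.card_eq_fintype_card, hα] at e2
    omega
  let e : Fin 11 ≃ α := Equiv.ofBijective (fun i => c ^ i.val • a) ((Fintype.bijective_iff_injective_and_card _).2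
    ⟨fun i j e => Fin.ext ((Function.iterate_eq_iterate_iff_of_lt_minimalPeriod (i.2.trans_eq h2.symm) (j.2.trans_eq h2.symm)).1
      (by simpa only [smul_iterate_apply] using e)), by simp [hα]⟩)
  have h3 : rho G e c = c11 := Equiv.ext fun i => rho_eq_iff.2 (by
    change _ • c ^ i.val • a = c ^ (i + 1).val • a
    rw [← mul_smul, ← pow_succ', Fin.val_add, ← pow_mod_orderOf, hc]; rfl)
  obtain ⟨t, h4, h5, h6⟩ := exists_swap h e ![0, 1, 2, 4] (by decide)
  have h7 := search (rho_sharp h e) (gs := [c11]) (by simpa using ⟨c, h3⟩) h4 h5 (pre := [(0, 1), (1, 0), (2, 2), (4, 4)])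
    (by simpa using ⟨h6 0, h6 1, h6 2, h6 3⟩)
    (S := [[1, 0, 2, 8, 4, 6, 5, 7, 3, 10, 9], [1, 0, 2, 9, 4, 6, 5, 8, 7, 3, 10]])
    (W := [[1], [0, 1, 0, 1, 0, 1], [0, 0, 0, 0, 1, 0, 0, 0, 0, 1, 0, 0, 0, 0, 1], [0, 0, 0, 1, 0, 0, 0, 1, 0, 0, 0, 1],
      [0, 0, 0, 0, 0, 1, 0, 0, 0, 0, 0, 1], [0, 0, 1, 0, 0, 1, 0, 0, 1],
      [0, 0, 0, 0, 0, 1, 0, 0, 0, 0, 0, 1, 0, 0, 0, 0, 0, 1], [0, 1, 0, 1], [0, 1, 0, 0, 1, 0, 0, 0, 0, 0, 1],
      [0, 1, 0, 0, 0, 1, 0, 0, 0, 0, 1], [0, 1, 0, 0, 1, 0, 0, 0, 0, 0, 0, 1], [0, 1, 0, 0, 0, 0, 0, 0, 0, 0, 0, 0, 1],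
      [0, 0, 1, 0, 0, 0, 0, 0, 0, 0, 1, 0, 0, 0, 0, 0, 0, 1], [0, 1, 0, 0, 0, 0, 0, 0, 0, 1, 0, 0, 0, 0, 0, 0, 0, 0, 1],
      [0, 0, 0, 1, 0, 0, 0, 1], [0, 1, 0, 0, 0, 1, 0, 0, 1], [0, 1, 0, 1, 0, 0, 0, 0, 0, 0, 1],
      [0, 1, 0, 0, 0, 0, 1, 0, 0, 0, 0, 0, 1], [0, 0, 1, 0, 0, 0, 0, 1, 0, 0, 0, 0, 0, 1]])
    (T := [[1, 2, 3, 4, 5, 6, 7, 8, 9, 10, 0]]) (by decide) (by decide +kernel)
  rcases List.mem_pair.1 h7 with h7 | h7
  · exact ⟨e, ⟨c, h3⟩, (DFunLike.coe_injective (List.ofFn_injective (h7.trans (by decide))) : t = t11) ▸ h4⟩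
  obtain ⟨t, rfl⟩ := h4
  have h8 : ∀ g, rho G ((Equiv.subLeft 6).trans e) g = (Equiv.subLeft 6)⁻¹ * rho G e g * Equiv.subLeft 6 := fun g => rfl
  exact ⟨(Equiv.subLeft 6).trans e, ⟨c⁻¹, by rw [h8, map_inv, h3]; decide⟩, t, by
    rw [h8, (DFunLike.coe_injective (List.ofFn_injective (h7.trans (by decide))) : rho G e t =
      Equiv.subLeft 6 * t11 * Equiv.subLeft 6)]; decide⟩

theorem eq_top_of_dvd [Finite G] [IsSimpleGroup G] (hG : ¬ (Nat.card G).Prime) {U : Subgroup G} {p m : ℕ} (hp : p.Prime)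
    (h1 : p ∣ Nat.card G) (h2 : m ∣ Nat.card U) (h3 : Nat.card G < m * p) : U = ⊤ := by
  by_contra h
  have h4 := hp.dvd_factorial.1 (h1.trans ((dvd_mul_left _ 2).trans
    (two_mul_card_dvd_factorial_index (not_comm_of_simple_card hG) h)))
  exact h3.not_ge (U.card_mul_index ▸ Nat.mul_le_mul (Nat.le_of_dvd Nat.card_pos h2) h4)

theorem rho_inj [FaithfulSMul G α] (e : Fin n ≃ α) : Function.Injective (rho G e) :=
  e.symm.permCongrHom.injective.comp toPerm_injective

theorem closure11 [Fintype α] (h : H14.Sharp G α 4) (hα : Fintype.card α = 11) {e : Fin 11 ≃ α} {c t : G}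
    (h1 : rho G e c = c11) (h2 : rho G e t = t11) : Subgroup.closure {c, t} = ⊤ := by
  have := h.finite (by omega)
  have := h.faithful (by omega)
  obtain ⟨_, h3⟩ := h.simple11 hα
  have a : c ∈ Subgroup.closure {c, t} := Subgroup.subset_closure (by simp)
  have b : t ∈ Subgroup.closure {c, t} := Subgroup.subset_closure (by simp)
  have key : ∀ g ∈ Subgroup.closure {c, t}, ∀ p k : ℕ, p.Prime → ¬ rho G e g ^ p ^ k = 1 → rho G e g ^ p ^ (k + 1) = 1 →
      p ^ (k + 1) ∣ Nat.card (Subgroup.closure {c, t}) := fun g hg p k hp e1 e2 => by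
    have := Fact.mk hp
    rw [← orderOf_eq_prime_pow e1 e2, orderOf_injective _ (rho_inj e)]
    exact Subgroup.orderOf_dvd_natCard _ hg
  have e1 := key _ a 11 0 (by norm_num) (by rw [h1]; decide +kernel) (by rw [h1]; decide +kernel)
  have e2 := key _ (mul_mem (pow_mem a 5) b) 2 2 (by norm_num) (by simp only [map_mul, map_pow, h1, h2]; decide +kernel)
    (by simp only [map_mul, map_pow, h1, h2]; decide +kernel)
  have e3 := key _ (pow_mem (mul_mem (pow_mem a 2) b) 2) 3 0 (by norm_num)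
    (by simp only [map_mul, map_pow, h1, h2]; decide +kernel) (by simp only [map_mul, map_pow, h1, h2]; decide +kernel)
  have e4 := key _ (mul_mem (mul_mem (pow_mem a 5) b) (mul_mem (pow_mem a 2) b)) 5 0 (by norm_num)
    (by simp only [map_mul, map_pow, h1, h2]; decide +kernel) (by simp only [map_mul, map_pow, h1, h2]; decide +kernel)
  exact eq_top_of_dvd (p := 11) (m := 1320) (by rw [h3]; norm_num) (by norm_num) (by omega) (by omega) (by omega)

theorem equiv_of_range {G' α' : Type*} [Group G'] [MulAction G' α'] [FaithfulSMul G α] [FaithfulSMul G' α'] {e : Fin n ≃ α}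
    {e' : Fin n ≃ α'} {S : Set G} {S' : Set G'} (h : Subgroup.closure S = ⊤) (h' : Subgroup.closure S' = ⊤)
    (h1 : rho G e '' S = rho G' e' '' S') : Nonempty (G ≃* G') :=
  ⟨(MonoidHom.ofInjective (rho_inj e)).trans ((MulEquiv.subgroupCongr (by
    rw [MonoidHom.range_eq_map, MonoidHom.range_eq_map, ← h, ← h', MonoidHom.map_closure, MonoidHom.map_closure, h1])).trans
      (MonoidHom.ofInjective (rho_inj e')).symm)⟩

/-- The first generator of `M12`. -/
def c12 : Perm (Fin 12) := ⟨fun i => [1, 2, 3, 4, 5, 6, 7, 8, 9, 10, 0, 11].getD i i,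
  fun i => [10, 0, 1, 2, 3, 4, 5, 6, 7, 8, 9, 11].getD i i, by decide, by decide⟩

/-- The second generator of `M12`. -/
def t12 : Perm (Fin 12) := invP [1, 0, 2, 8, 4, 6, 5, 7, 3, 10, 9, 11] (by decide)

/-- The third generator of `M12`. -/
def s12 : Perm (Fin 12) := invP [11, 1, 2, 3, 8, 6, 5, 10, 4, 9, 7, 0] (by decide)

open SubMulAction in
theorem label12 [Fintype α] (h : H14.Sharp G α 5) (hα : Fintype.card α = 12) : ∃ (e : Fin 12 ≃ α) (c t s : G),
    rho G e c = c12 ∧ rho G e t = t12 ∧ rho G e s = s12 ∧ Subgroup.closure {c, t, s} = ⊤ := by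
  classical
  obtain ⟨a⟩ : Nonempty α := Fintype.card_pos_iff.1 (by omega)
  have h1 := H14.Sharp.card_ofStab (G := G) a
  obtain ⟨e, ⟨c, hc⟩, t, ht⟩ := label11 (h.stab (by omega) a) (by omega)
  have h2 := closure11 (h.stab (by omega) a) (by omega) hc ht
  let f : Fin 12 ≃ α := Equiv.ofBijective (ofStabilizer.snoc e.toEmbedding) ((Fintype.bijective_iff_injective_and_card _).2
    ⟨(ofStabilizer.snoc e.toEmbedding).injective, by simp [hα]⟩)
  have f1 : f (Fin.last 11) = a := ofStabilizer.snoc_last e.toEmbedding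
  have f2 : ∀ i : Fin 11, f i.castSucc = e i := ofStabilizer.snoc_castSucc e.toEmbedding
  have h3 : ∀ (g : stabilizer G a) (σ : Perm (Fin 12)), (∀ i, σ (Fin.castSucc i) = (rho _ e g i).castSucc) →
      σ (Fin.last 11) = Fin.last 11 → rho G f g = σ := fun g σ e1 e2 => Equiv.ext fun i => rho_eq_iff.2 (by
    induction i using Fin.lastCases with
    | last => rw [e2, f1]; exact g.2
    | cast i => rw [e1, f2, f2, ← rho_eq_iff.1 (rfl : rho _ e g i = _)]; rfl)
  have h4 := h3 c c12 (by rw [hc]; decide +kernel) (by decide +kernel)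
  have h5 := h3 t t12 (by rw [ht]; decide +kernel) (by decide +kernel)
  obtain ⟨_, ⟨s, rfl⟩, h6, h7⟩ := exists_swap h f ![0, 11, 1, 2, 3] (by decide)
  have h8 := search (rho_sharp h f) (gs := [c12, t12]) (by simpa using ⟨⟨c, h4⟩, t, h5⟩) ⟨s, rfl⟩ h6
    (pre := [(0, 11), (11, 0), (1, 1), (2, 2), (3, 3)]) (by simpa using ⟨h7 0, h7 1, h7 2, h7 3, h7 4⟩)
    (S := [[11, 1, 2, 3, 8, 6, 5, 10, 4, 9, 7, 0]])
    (W := [[1, 0, 2, 1, 0, 1, 0, 1, 0, 2], [0, 0, 0, 1, 0, 0, 0, 2, 0, 0, 0, 1, 0, 0, 0, 2], [1, 0, 2, 1, 0, 2],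
      [0, 0, 0, 1, 0, 0, 1, 2, 0, 0, 0, 1, 0, 0, 1, 2], [1, 2, 1, 2], [1, 0, 1, 0, 2, 0, 0, 0, 1, 0, 0, 1, 2],
      [1, 0, 0, 0, 0, 0, 2, 1, 0, 0, 0, 0, 0, 2], [1, 0, 1, 0, 1, 0, 2, 0, 0, 0, 1, 0, 0, 0, 2],
      [1, 0, 1, 0, 2, 0, 0, 0, 0, 1, 0, 2], [0, 0, 0, 2, 0, 0, 0, 2], [0, 1, 0, 0, 1, 0, 2, 0, 1, 0, 0, 1, 0, 2],
      [0, 1, 0, 0, 1, 0, 2, 1, 0, 1, 0, 1, 0, 2], [0, 1, 0, 2, 0, 1, 0, 2], [0, 1, 0, 2, 0, 0, 0, 1, 2]])
    (T := [[1, 2, 3, 4, 5, 6, 7, 8, 9, 10, 0, 11], [1, 0, 2, 8, 4, 6, 5, 7, 3, 10, 9, 11]]) (by decide) (by decide +kernel)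
  have h9 : rho G f s = s12 := DFunLike.coe_injective (List.ofFn_injective ((List.mem_singleton.1 h8).trans (by decide)))
  have : Nontrivial α := Fintype.one_lt_card_iff_nontrivial.1 (by omega)
  have := isPreprimitive_of_is_two_pretransitive (H18.mt_le h.1 (show 2 ≤ 5 by omega) (by omega))
  refine ⟨f, c, t, s, h4, h5, h9, (IsPreprimitive.isCoatom_stabilizer_of_isPreprimitive G a).2 _ (lt_of_le_of_ne ?_ fun e' => ?_)⟩
  · refine (stabilizer G a).range_subtype.ge.trans ?_
    rw [MonoidHom.range_eq_map, ← h2, MonoidHom.map_closure]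
    exact Subgroup.closure_mono (by simp [Set.insert_subset_iff])
  · have : s • f (Fin.last 11) = f (Fin.last 11) := by
      rw [f1]
      exact e'.ge (Subgroup.subset_closure (by simp))
    exact absurd (h9 ▸ rho_eq_iff.2 this) (by decide)

end SU

theorem sharp11_equiv {G α G' α' : Type*} [Group G] [MulAction G α] [Fintype α] [Group G'] [MulAction G' α'] [Fintype α']
    (h : H14.Sharp G α 4) (hα : Fintype.card α = 11) (h' : H14.Sharp G' α' 4) (hα' : Fintype.card α' = 11) :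
    Nonempty (G ≃* G') := by
  obtain ⟨e, ⟨c, h1⟩, t, h2⟩ := SU.label11 h hα
  obtain ⟨e', ⟨c', h1'⟩, t', h2'⟩ := SU.label11 h' hα'
  have := h.faithful (by omega)
  have := h'.faithful (by omega)
  exact SU.equiv_of_range (e := e) (e' := e') (SU.closure11 h hα h1 h2) (SU.closure11 h' hα' h1' h2') (by
    simp only [Set.image_pair, h1, h2, h1', h2'])

theorem sharp12_equiv {G α G' α' : Type*} [Group G] [MulAction G α] [Fintype α] [Group G'] [MulAction G' α'] [Fintype α']
    (h : H14.Sharp G α 5) (hα : Fintype.card α = 12) (h' : H14.Sharp G' α' 5) (hα' : Fintype.card α' = 12) :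
    Nonempty (G ≃* G') := by
  obtain ⟨e, c, t, s, h1, h2, h3, h4⟩ := SU.label12 h hα
  obtain ⟨e', c', t', s', h1', h2', h3', h4'⟩ := SU.label12 h' hα'
  have := h.faithful (by omega)
  have := h'.faithful (by omega)
  exact SU.equiv_of_range (e := e) (e' := e') h4 h4' (by simp only [Set.image_insert_eq, Set.image_singleton, h1, h2, h3, h1', h2', h3'])

end H19
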