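import Mathlib
import Cfsg.Agent.H19.M11b
import Cfsg.Agent.H19.Rank3
import Cfsg.Agent.H19.SharpU

/-!
A simple group of order 7920 is sharply 4-transitive on 11 points (namespace H19).
* `card_fixedBy_le` (fixed points of a transitive action), `M11T.exists_index`, `M11T.sharp`, `exists_sharp11`
-/

set_option linter.unusedSectionVars false

open H05 Cfsg Classical MulAction Finset
open scoped Pointwise

namespace H19

theorem card_fixedBy_le {G X : Type*} [Group G] [Finite G] [MulAction G X] [Finite X] [IsPretransitive G X] (g : G) :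
    Nat.card (fixedBy X g) ≤ Nat.card (Subgroup.centralizer ({g} : Set G)) := by
  have := Fintype.ofFinite G
  rcases isEmpty_or_nonempty X with h | h
  · simp
  have h1 := card_mul_classInner (fun g : G => (Nat.card (fixedBy X g) : ℂ)) 1
  rw [classInner_perm_one_of_transitive] at h1
  simp only [Pi.one_apply, map_one, mul_one] at h1
  norm_cast at h1
  refine Nat.le_of_mul_le_mul_left ?_ (Nat.pos_of_ne_zero (Subgroup.centralizer {g}).index_ne_zero_of_finite)
  rw [Subgroup.index_mul_card, h1, ← card_filter_isConj, ← smul_eq_mul, ← sum_const, sum_congr rfl fun y hy =>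
    show _ = Nat.card (fixedBy X y) by exact_mod_cast (isCharacter_perm X).isClassFunction.isConj (mem_filter.1 hy).2]
  exact sum_le_sum_of_subset (subset_univ _)

namespace M11T

variable {G : Type*} [Group G] [Finite G] [IsSimpleGroup G] (T : M11T G) (hn : Nat.card G = 7920)
include T hn

theorem exists_index : ∃ M : Subgroup G, M.index = 11 := by
  have hG : ¬ IsMulCommutative G := not_comm_of_simple_card (by rw [hn]; norm_num)
  have := Fintype.ofFinite G
  obtain ⟨P⟩ : Nonempty (Sylow 3 G) := inferInstance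
  obtain ⟨U, hU⟩ : ∃ U : Subgroup G, U.index = 55 :=
    ⟨Subgroup.normalizer ((P : Subgroup G) : Set G), by
      have := (Subgroup.normalizer ((P : Subgroup G) : Set G)).card_mul_index; rw [T.card_normalizer hn] at this; omega⟩
  have := Fintype.ofFinite (G ⧸ U)
  have hX : Fintype.card (G ⧸ U) = 55 := Nat.card_eq_fintype_card.symm.trans hU
  obtain ⟨⟨χ, h1, h2⟩, h3⟩ := T.perm hn (G ⧸ U) (Or.inr hU)
  rw [if_neg (by rw [show Nat.card (G ⧸ U) = 55 from hU]; norm_num)] at h3
  obtain ⟨o⟩ : Nonempty (G ⧸ U) := inferInstance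
  have h4 : Nat.card (stabilizer G o) = 144 := by
    have := (stabilizer G o).index_mul_card
    rw [index_stabilizer_of_transitive, show Nat.card (G ⧸ U) = 55 from hU] at this
    omega
  obtain ⟨R, h5, h6⟩ : ∃ R, Rk3 G R ∧ (#{c | R o c} = 6 ∨ #{c | R o c} = 18) := by
    obtain ⟨R, h⟩ := exists_rk3 h3
    have e1 := h4 ▸ h.deg_dvd o
    have e2 : #{c | o ≠ c ∧ ¬ R o c} ∣ 144 := by convert h4 ▸ h.compl.deg_dvd o
    have e3 : #{c | R o c} + #{c | o ≠ c ∧ ¬ R o c} + 1 = 55 := by convert hX ▸ h.deg_compl o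
    have := (by decide : ∀ k < 55, k ∣ 144 → 54 - k ∣ 144 → k = 6 ∨ k = 18 ∨ k = 36 ∨ k = 48) #{c | R o c} (by omega) e1
      (by rwa [show 54 - #{c | R o c} = #{c | o ≠ c ∧ ¬ R o c} by omega])
    by_cases e : #{c | R o c} ≤ 18
    exacts [⟨R, h, by omega⟩, ⟨_, h.compl, by convert (by omega : #{c | o ≠ c ∧ ¬ R o c} = 6 ∨ #{c | o ≠ c ∧ ¬ R o c} = 18)⟩]
  obtain ⟨t, ht⟩ := exists_prime_orderOf_dvd_card' (G := G) 2 (by omega)
  obtain ⟨x, hx⟩ : ∃ x : G ⧸ U, x ≠ t • x := by
    by_contra! h
    have := toPermHom_injective_of_simple (exists_smul_ne_quotient (H := U) (by rintro rfl; simp at hU))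
      ((Equiv.ext fun x => (h x).symm : toPermHom G (G ⧸ U) t = 1).trans (map_one _).symm)
    simp [this] at ht
  have hs : ∀ {a b}, R a b → R b a := h5.symm (by rw [← sq, ← ht, pow_orderOf_eq_one]) hx
  have h7 := sph_diag (X := G ⧸ U) χ.2 o
  obtain ⟨β, γ, e1, e2⟩ := h5.eqs χ.2 hs (fun e => by simp [e, charDegree_eq_of_apply_one (χ := (1 : G → ℂ)) (n := 1)] at h1) o
  rw [h2, hX, hn, map_one] at h7
  have h8 : sph (χ : G → ℂ) o o = 144 := by push_cast at h7; linear_combination (1 / 55 : ℂ) * h7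
  simp only [h8, hX, hn, ← χ.2.charDegree_eq, h1] at e1 e2
  have e3 := e2 o o
  rw [if_neg (h5.irr o), if_pos rfl, show (univ.filter fun c => R o c ∧ R c o) = univ.filter (R o) from
    filter_congr fun c _ => ⟨And.left, fun h => ⟨h, hs h⟩⟩] at e3
  have e4 : ∀ a b, R a b → 10 * (-55 * β ^ 2 + γ ^ 2 * #{c | R a c ∧ R c b} + 2 * γ * (144 - β)) = 7920 * (β + γ) :=
    fun a b h => by simpa [h, h5.ne h] using e2 a b
  have e5 : ∀ a b, a ≠ b → ¬ R a b → 10 * (-55 * β ^ 2 + γ ^ 2 * #{c | R a c ∧ R c b}) = 7920 * β :=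
    fun a b h h' => by simpa [h, h'] using e2 a b
  obtain ⟨a, b, ab⟩ := h5.ne1
  obtain ⟨c, d, cd, cd'⟩ := h5.ne2
  have e6 := e4 a b ab
  have e7 := e5 c d cd cd'
  rcases h6 with h6 | h6 <;> rw [h6] at e1 e3 <;> push_cast at e1 e3
  · obtain rfl : γ = -9 * β - 24 := by linear_combination (1 / 6 : ℂ) * e1
    rcases mul_eq_zero.1 (show (β - 12) * (3 * β + 52) = 0 by linear_combination (1 / 1440 : ℂ) * e3) with h | h
    · obtain rfl : β = 12 := by linear_combination h
      exact absurd (by exact_mod_cast (by linear_combination (1 / 174240 : ℂ) * e6 :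
        (#{c | R a c ∧ R c b} + 3 : ℂ) = 0) : #{c | R a c ∧ R c b} + 3 = 0) (by omega)
    · obtain rfl : β = -52 / 3 := by linear_combination (1 / 3 : ℂ) * h
      exact absurd (by exact_mod_cast (by linear_combination (9 / 10 : ℂ) * e7 :
        (156816 * #{x | R c x ∧ R x d} : ℂ) = 25168) : 156816 * #{x | R c x ∧ R x d} = 25168) (by omega)
  obtain rfl : γ = -3 * β - 8 := by linear_combination (1 / 18 : ℂ) * e1
  rcases mul_eq_zero.1 (show (3 * β - 80) * (β + 32) = 0 by linear_combination (1 / 360 : ℂ) * e3) with h | h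
  · obtain rfl : β = 80 / 3 := by linear_combination (1 / 3 : ℂ) * h
    exact absurd (by exact_mod_cast (by linear_combination (9 / 10 : ℂ) * e7 :
      (69696 * #{x | R c x ∧ R x d} : ℂ) = 542080) : 69696 * #{x | R c x ∧ R x d} = 542080) (by omega)
  obtain rfl : β = -32 := by linear_combination h
  have k1 : ∀ a, #{c | R a c} = 18 := fun a => (h5.deg_eq a o).trans h6
  have k2 : ∀ a b, R a b → #{c | R a c ∧ R c b} = 9 := fun a b h => by
    exact_mod_cast (by linear_combination (1 / 77440 : ℂ) * e4 a b h : (#{c | R a c ∧ R c b} : ℂ) = 9)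
  have k3 : ∀ a b, a ≠ b → ¬ R a b → #{c | R a c ∧ R c b} = 4 := fun a b h h' => by
    exact_mod_cast (by linear_combination (1 / 77440 : ℂ) * e5 a b h h' : (#{c | R a c ∧ R c b} : ℂ) = 4)
  obtain ⟨C, D, c1, -, c2, c3, -⟩ := exists_two_cliques h5.irr hs k1 k2 k3 o
  have c4 : #{C : Finset (G ⧸ U) | #C = 10 ∧ ∀ x ∈ C, ∀ y ∈ C, x ≠ y → R x y} * 10 ≤ 55 * 2 := by
    convert hX ▸ card_cliques_le h5.irr hs k1 k2 k3
  have c5 : o ∉ C := fun e => h5.irr o ((c2 o).2 (Or.inl e))
  have c6 : (stabilizer G (insert o C)).index ≤ 11 := by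
    rw [index_stabilizer]
    refine (Set.ncard_le_ncard (t := (univ.filter fun C : Finset (G ⧸ U) => #C = 10 ∧ ∀ x ∈ C, ∀ y ∈ C, x ≠ y → R x y)) ?_).trans
      (by rw [Set.ncard_coe_finset]; omega)
    rintro _ ⟨g, rfl⟩
    simp only [coe_filter, mem_univ, true_and, Set.mem_setOf_eq, card_smul_finset, card_insert_of_notMem c5, c1]
    simp only [mem_smul_finset]
    rintro _ ⟨x, hx, rfl⟩ _ ⟨y, hy, rfl⟩ e
    have e := mt (congrArg (g • ·)) e
    refine h5.inv g ?_
    rcases mem_insert.1 hx with rfl | hx' <;> rcases mem_insert.1 hy with rfl | hy'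
    exacts [absurd rfl e, (c2 y).2 (Or.inl hy'), hs ((c2 x).2 (Or.inl hx')), c3 x hx' y hy' e]
  refine ⟨_, c6.antisymm ((Nat.Prime.dvd_factorial (by norm_num)).1 (Dvd.dvd.trans (by rw [hn]; norm_num)
    (two_mul_card_dvd_factorial_index hG fun e => ?_)))⟩
  have := card_le_card (show univ ⊆ insert o C from fun x _ => by
    obtain ⟨g, rfl⟩ := exists_smul_eq G o x
    rw [← show g • insert o C = insert o C from e.ge (Subgroup.mem_top g)]
    exact smul_mem_smul_finset (mem_insert_self _ _))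
  rw [card_univ, card_insert_of_notMem c5] at this
  omega

theorem sharp {α : Type*} [Fintype α] [MulAction G α] [IsPretransitive G α] (hα : Fintype.card α = 11) :
    H14.Sharp G α 4 := by
  have hG : ¬ IsMulCommutative G := not_comm_of_simple_card (by rw [hn]; norm_num)
  have := Fintype.ofFinite G
  have : Nontrivial α := Fintype.one_lt_card_iff_nontrivial.1 (by omega)
  have hα' := Nat.card_eq_fintype_card.trans hα
  have h1 := (card_orbits_prod_eq_two_iff α).1 ((T.perm hn α (Or.inl hα')).2.trans (if_pos hα'))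
  obtain ⟨x⟩ : Nonempty (Fin 4 ↪ α) := Function.Embedding.nonempty_of_card_le (by simp [hα])
  have h2 : orbit G ({x 0, x 1} : Finset α) = {s | #s = 2} := Set.ext fun s =>
    ⟨by rintro ⟨g, rfl⟩; simp [card_pair (x.injective.ne (show (0 : Fin 4) ≠ 1 by decide))], fun h => by
      obtain ⟨a, b, e, rfl⟩ := card_eq_two.1 h
      obtain ⟨g, rfl, rfl⟩ := is_two_pretransitive_iff.1 h1 (x.injective.ne (show (0 : Fin 4) ≠ 1 by decide)) e
      exact ⟨g, by simp [smul_finset_insert]⟩⟩
  have h3 : Nat.card (orbit G ({x 0, x 1} : Finset α)) = 55 := by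
    rw [h2]; exact (Nat.card_eq_fintype_card.trans (by convert Fintype.card_finset_len (α := α) 2; rfl)).trans (by rw [hα]; rfl)
  have := (nonempty_orbit (M := G) ({x 0, x 1} : Finset α)).to_subtype
  have h4 := (T.perm hn _ (Or.inr h3)).2
  rw [if_neg (by omega)] at h4
  have h5 : IsPretransitive G (Fin 3 ↪ α) := H18.mt_iff.2 fun y z hy hz => by
    have m : ∀ {a b : α}, a ≠ b → {a, b} ∈ orbit G ({x 0, x 1} : Finset α) := fun h => h2 ▸ card_pair h
    have n : ∀ {k} {y : Fin k → α}, Function.Injective y → ∀ i j, i ≠ j → y i ≠ y j := fun h _ _ e => h.ne e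
    obtain ⟨g, hg⟩ := exists_smul_of_rank (G := G) (fun s : orbit G ({x 0, x 1} : Finset α) × orbit G ({x 0, x 1} : Finset α) =>
      #(s.1.1 ∩ s.2.1)) (fun g s => by simp [← smul_finset_inter]) (h4.trans_le ((Set.ncard_eq_three.2
        ⟨0, 1, 2, by simp, by simp, by simp, rfl⟩).ge.trans (Set.ncard_le_ncard (by
          have := n x.injective
          simp only [Set.insert_subset_iff, Set.singleton_subset_iff]
          exact ⟨⟨(⟨_, m (this 0 1 (by decide))⟩, ⟨_, m (this 2 3 (by decide))⟩), by simp⟩,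
            ⟨(⟨_, m (this 0 1 (by decide))⟩, ⟨_, m (this 0 2 (by decide))⟩), by simp⟩,
            ⟨(⟨_, m (this 0 1 (by decide))⟩, ⟨_, m (this 0 1 (by decide))⟩), by simp⟩⟩) (Set.finite_range _))))
      (x := (⟨_, m (n hy 0 1 (by decide))⟩, ⟨_, m (n hy 0 2 (by decide))⟩))
      (y := (⟨_, m (n hz 0 1 (by decide))⟩, ⟨_, m (n hz 0 2 (by decide))⟩)) (by simp [hy.eq_iff, hz.eq_iff])
    have e1 : ({g • y 0, g • y 1} : Set α) = {z 0, z 1} := by simpa [Set.smul_set_insert] using congrArg (fun s => (s.1.1 : Set α)) hg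
    have e2 : ({g • y 0, g • y 2} : Set α) = {z 0, z 2} := by simpa [Set.smul_set_insert] using congrArg (fun s => (s.2.1 : Set α)) hg
    have := n hz 0 1 (by decide); have := n hz 0 2 (by decide); have := n hz 1 2 (by decide)
    refine ⟨g, fun i => ?_⟩
    rcases Set.pair_eq_pair_iff.1 e1 with e1 | e1 <;> rcases Set.pair_eq_pair_iff.1 e2 with e2 | e2 <;> fin_cases i <;> grind
  have h6 : ∀ x : Fin 4 ↪ α, stabilizer G x = ⊥ := fun x => by
    have e1 := (stabilizer G (Fin.castSuccEmb.trans x)).index_mul_card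
    rw [index_stabilizer_of_transitive, Nat.card_eq_fintype_card, Fintype.card_embedding_eq, hα, Fintype.card_fin, hn] at e1
    have e2 : Nat.card (stabilizer G x) ∣ 2 ^ 3 := by
      rw [show 2 ^ 3 = Nat.card (stabilizer G (Fin.castSuccEmb.trans x)) by rw [show Nat.descFactorial 11 3 = 990 from rfl] at e1; omega]
      exact Subgroup.card_dvd_of_le fun g hg => Function.Embedding.ext fun i => DFunLike.congr_fun hg _
    by_contra h
    obtain ⟨⟨t, e3⟩, ht⟩ := exists_prime_orderOf_dvd_card' (G := stabilizer G x) 2 (by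
      obtain ⟨_ | k, -, e⟩ := (Nat.dvd_prime_pow Nat.prime_two).1 e2
      exacts [absurd (Subgroup.card_eq_one.1 e) h, e ▸ dvd_pow_self 2 k.succ_ne_zero])
    rw [Subgroup.orderOf_mk] at ht
    have e4 : toPermHom G α t ^ 2 = 1 := by rw [← map_pow, ← ht, pow_orderOf_eq_one, map_one]
    have e5 := Equiv.Perm.sign_of_pow_two_eq_one e4
    have e6 := Equiv.Perm.card_fixedPoints_modEq (p := 2) (n := 1) (f := ⇑(toPermHom G α t))
      (funext fun x => DFunLike.congr_fun e4 x)
    have e7 : 4 ≤ Fintype.card (Function.fixedPoints (toPermHom G α t)) :=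
      Fintype.card_fin 4 ▸ Fintype.card_le_of_injective (fun i => (⟨x i, DFunLike.congr_fun e3 i⟩ : Function.fixedPoints (toPermHom G α t)))
        fun i j e => x.injective (congrArg Subtype.val e)
    have e8 := (card_fixedBy_le (X := Fin 3 ↪ α) t).trans (Nat.le_of_dvd (by norm_num)
      (T.dvd_144 hn (by rintro rfl; simp at ht) (by omega) (by omega)))
    have e9 := (Nat.card_le_card_of_injective (fun y : Fin 3 ↪ Function.fixedPoints (toPermHom G α t) =>
      (⟨y.trans (Function.Embedding.subtype _), Function.Embedding.ext fun i => (y i).2⟩ : fixedBy (Fin 3 ↪ α) t))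
      fun y z e => Function.Embedding.ext fun i => Subtype.ext (DFunLike.congr_fun (congrArg Subtype.val e) i)).trans e8
    rw [Nat.card_eq_fintype_card, Fintype.card_embedding_eq, Fintype.card_fin] at e9
    rw [sign_eq_one_of_simple hG, hα] at e5
    rw [hα, Nat.ModEq] at e6
    generalize Fintype.card (Function.fixedPoints (toPermHom G α t)) = f at *
    have : f < 7 := not_le.1 fun e => by have := Nat.descFactorial_le 3 e; norm_num [Nat.descFactorial] at this e9; omega
    obtain rfl : f = 5 := by omega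
    exact absurd e5 (by decide)
  refine ⟨⟨fun y z => ?_⟩, h6⟩
  have := (stabilizer G y).index_mul_card
  rw [h6, Subgroup.card_bot, ← h6 y, index_stabilizer, hn, mul_one] at this
  exact ((Set.eq_univ_iff_ncard (orbit G y)).2 (by
    rw [this, Nat.card_eq_fintype_card, Fintype.card_embedding_eq, hα, Fintype.card_fin]; rfl)).ge (Set.mem_univ z)

end M11T

theorem exists_sharp11 {G : Type*} [Group G] [Finite G] [IsSimpleGroup G] (hn : Nat.card G = 7920) :
    ∃ (M : Subgroup G) (_ : Fintype (G ⧸ M)), Fintype.card (G ⧸ M) = 11 ∧ H14.Sharp G (G ⧸ M) 4 := by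
  obtain ⟨T⟩ := exists_m11T hn
  obtain ⟨M, hM⟩ := T.exists_index hn
  have := Fintype.ofFinite (G ⧸ M)
  exact ⟨M, this, Nat.card_eq_fintype_card.symm.trans hM, T.sharp hn (Nat.card_eq_fintype_card.symm.trans hM)⟩

end H19
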