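import Mathlib
import Cfsg.Agent.H19.SylowCount
import Cfsg.Agent.H19.Basic
import Cfsg.Agent.H01.Coprime

/-!
Simplicity from the normalizer of a Sylow subgroup of prime order, commuting graphs and element counts (namespace H19).
* `card_inf_centralizer_modEq`, `dvd_card_centralizer_of_normal`, `dvd_card_centralizer_of_burnside`
* `simple_of_normalizer` : `|N(P)| = p e` with `e` prime and no prime power divisor of `|G|` is `1` mod `p`
* `card_normalizer_of_selfC`, `card_eq_of_commGraph`, `card_centralizer_eq_of_commGraph`, `selfC_of_commGraph`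
* `card_sylow_eq_of_nse`
-/

set_option linter.unusedSectionVars false

open Subgroup

namespace H19

variable {G : Type*} [Group G] [Finite G] {p : ℕ} [hp : Fact p.Prime]

theorem card_inf_centralizer_modEq {x : G} (hx : orderOf x = p) {Q : Subgroup G} (hQ : x ∈ normalizer (Q : Set G)) :
    Nat.card Q ≡ Nat.card (Q ⊓ centralizer ({x} : Set G) : Subgroup G) [MOD p] := by
  classical
  have := Fintype.ofFinite Q
  let f : Q → Q := fun q => ⟨x * q * x⁻¹, (mem_normalizer_iff.1 hQ q).1 q.2⟩
  have h1 : ∀ n q, ((f^[n] q : Q) : G) = x ^ n * q * (x ^ n)⁻¹ := fun n q => by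
    induction n with
    | zero => simp
    | succ n ih => rw [Function.iterate_succ_apply', pow_succ']; simp only [f, ih]; group
  have h2 := Equiv.Perm.card_fixedPoints_modEq (p := p) (n := 1) (f := (f : Function.End Q)) (by
    funext q
    refine Subtype.ext ?_
    change ((f^[p ^ 1] q : Q) : G) = q
    rw [h1, pow_one, ← hx, pow_orderOf_eq_one]; simp)
  rw [← Nat.card_eq_fintype_card, ← Nat.card_eq_fintype_card] at h2
  refine h2.trans (congrArg (· % p) (Nat.card_congr ⟨fun q => ⟨q.1, q.1.2, ?_⟩, fun q => ⟨⟨q.1, q.2.1⟩, ?_⟩,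
    fun _ => rfl, fun _ => rfl⟩))
  · exact mem_centralizer_singleton_iff.2 (by
      have := congrArg Subtype.val q.2
      simp only [f] at this
      rw [← this]; simp [this, mul_inv_eq_iff_eq_mul.1 this])
  · exact Subtype.ext (by
      have := mem_centralizer_singleton_iff.1 q.2.2
      simp only [f]; rw [← this]; simp)

theorem dvd_card_centralizer_of_normal {x : G} (hx : orderOf x = p) {K : Subgroup G} [K.Normal]
    (hK : ¬ p ∣ Nat.card K) {q : ℕ} (hq : q.Prime) (hqK : q ∣ Nat.card K)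
    (h : ∀ a, q ^ (a + 1) ∣ Nat.card G → q ^ (a + 1) % p ≠ 1) : q ∣ Nat.card (centralizer ({x} : Set G)) := by
  have := Fact.mk hq
  obtain ⟨Q, h1, h2, h3, h4⟩ := H01.exists_invariant_sylow (A := zpowers x) (K := K) (H01.le_normalizer_of_normal _ _)
    (by rw [Nat.card_zpowers, hx]; exact (Nat.Prime.coprime_iff_not_dvd hp.out).2 hK) (Or.inl inferInstance) q
  have h5 := card_inf_centralizer_modEq hx (h4 (mem_zpowers x))
  obtain ⟨a, h6⟩ := h2.exists_card_eq
  obtain ⟨b, h7⟩ := (h2.to_le (inf_le_left (b := centralizer ({x} : Set G)))).exists_card_eq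
  rcases a with _ | a
  · rw [← H01.card_mul_relIndex h1, h6] at hqK; exact absurd (by simpa using hqK) h3
  rcases b with _ | b
  · rw [h6, h7, pow_zero, Nat.ModEq, Nat.mod_eq_of_lt hp.out.one_lt] at h5
    exact absurd h5 (h a (h6 ▸ Q.card_subgroup_dvd_card))
  · exact (dvd_pow_self q b.succ_ne_zero).trans (h7 ▸ card_dvd_of_le inf_le_right)

theorem dvd_card_centralizer_of_burnside {P : Sylow p G} (hP : Nat.card (P : Subgroup G) = p) {x : G}
    (hx : orderOf x = p) (hN : normalizer (P : Set G) ≤ centralizer (P : Set G)) {q : ℕ} (hq : q.Prime) (hqp : q ≠ p)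
    (hqG : q ∣ Nat.card G) (h : ∀ a, q ^ (a + 1) ∣ Nat.card G → q ^ (a + 1) % p ≠ 1) :
    q ∣ Nat.card (centralizer ({x} : Set G)) := by
  have hc := MonoidHom.ker_transferSylow_isComplement' P hN
  have h1 := hc.card_mul
  refine dvd_card_centralizer_of_normal hx (K := (MonoidHom.transferSylow P hN).ker)
    (hc.index_eq_card ▸ P.not_dvd_index) hq ?_ h
  rw [← h1, hP] at hqG
  exact ((Nat.coprime_primes hq hp.out).2 hqp).dvd_of_dvd_mul_right hqG

theorem centralizer_eq_of_sylow {P : Sylow p G} (hP : Nat.card (P : Subgroup G) = p) {x : G} (hx : x ∈ (P : Subgroup G))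
    (h1 : x ≠ 1) : centralizer ({x} : Set G) = centralizer (P : Set G) := by
  rw [← centralizer_closure, ← zpowers_eq_closure, zpowers_eq_sylow hP hx h1]; rfl

theorem simple_of_normalizer {P : Sylow p G} (hP : Nat.card (P : Subgroup G) = p) {e : ℕ} (he : e.Prime)
    (hN : Nat.card (normalizer (P : Set G)) = p * e) {q : ℕ} (hq : q.Prime) (hqp : q ≠ p) (hqe : q ≠ e)
    (hqG : q ∣ Nat.card G) (h : ∀ q a, q.Prime → q ^ (a + 1) ∣ Nat.card G → q ^ (a + 1) % p ≠ 1) : IsSimpleGroup G := by
  obtain ⟨x, hx, hx1⟩ := (P : Subgroup G).nontrivial_iff_exists_ne_one.1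
    (Finite.one_lt_card_iff_nontrivial.1 (hp.out.one_lt.trans_eq hP.symm))
  have ho := orderOf_eq_of_mem_sylow hP hx hx1
  have hC := centralizer_eq_of_sylow hP hx hx1
  have hCN : centralizer ({x} : Set G) ≤ normalizer (P : Set G) := hC ▸ centralizer_le_normalizer _
  have h0 : ¬ q ∣ Nat.card (centralizer ({x} : Set G)) := fun h => by
    have := h.trans (hN ▸ card_dvd_of_le hCN)
    rcases (Nat.Prime.dvd_mul hq).1 this with h | h
    exacts [hqp ((Nat.prime_dvd_prime_iff_eq hq hp.out).1 h), hqe ((Nat.prime_dvd_prime_iff_eq hq he).1 h)]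
  have hd : ∀ L : Subgroup G, x ∈ L → L < normalizer (P : Set G) → Nat.card L = p := fun L h1 h2 => by
    obtain ⟨c, h3⟩ : p ∣ Nat.card L := ho ▸ L.orderOf_dvd_natCard h1
    have h4 := card_dvd_of_le h2.le
    rw [hN, h3] at h4
    rcases (Nat.dvd_prime he).1 (Nat.dvd_of_mul_dvd_mul_left hp.out.pos h4) with rfl | rfl
    · rw [h3, mul_one]
    · exact absurd (eq_of_le_of_card_ge h2.le (by rw [hN, h3])) h2.ne
  have : Nontrivial G := ⟨x, 1, hx1⟩
  refine ⟨fun N hNn => ?_⟩
  by_cases hpN : p ∣ Nat.card N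
  · refine Or.inr (by_contra fun hT => h0 ?_)
    have hPN : (P : Subgroup G) ≤ N := by
      obtain ⟨y, hy⟩ := exists_prime_orderOf_dvd_card' p hpN
      obtain ⟨Q, hQ⟩ := exists_sylow_eq_zpowers hP ((Subgroup.orderOf_coe y).trans hy)
      obtain ⟨g, rfl⟩ := MulAction.exists_smul_eq G Q P
      intro z hz
      rw [Sylow.coe_subgroup_smul, mem_pointwise_smul_iff_inv_smul_mem, hQ] at hz
      simpa [mul_assoc] using hNn.conj_mem _ (zpowers_le.2 y.2 hz) g
    have h1 := P.normalizer_sup_eq_top' hPN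
    have h2 : N ⊓ normalizer (P : Set G) < normalizer (P : Set G) :=
      lt_of_le_of_ne inf_le_right fun e => hT (by rw [← h1, sup_eq_right.2 (e ▸ inf_le_left)])
    have h3 := hd (N ⊓ normalizer (P : Set G)) (mem_inf.2 ⟨hPN hx, le_normalizer hx⟩) h2
    have h4 : (P : Subgroup G) = N ⊓ normalizer (P : Set G) := eq_of_le_of_card_ge (le_inf hPN le_normalizer) (by rw [h3, hP])
    have h5 : N.index = e := by
      have e1 : N.relIndex (normalizer (P : Set G)) = N.index := by
        rw [← relIndex_sup_right, h1, relIndex_top_right]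
      have e2 := H01.card_mul_relIndex h2.le
      rw [inf_relIndex_right, e1, h3, hN] at e2
      exact Nat.eq_of_mul_eq_mul_left hp.out.pos e2
    have h6 : Nat.card (P.subtype hPN : Subgroup N) = p := (H01.card_subgroupOf_of_le hPN).trans hP
    have h7 := dvd_card_centralizer_of_burnside h6 (x := ⟨x, hPN hx⟩) ((Subgroup.orderOf_mk _ _).trans ho) (fun g hg => by
      have : (g : G) ∈ (P : Subgroup G) := by
        rw [h4]; refine ⟨g.2, ?_⟩
        change g ∈ normalizer ((P : Subgroup G).subgroupOf N : Set N) at hg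
        rwa [← subgroupOf_normalizer_eq hPN] at hg
      intro y hy
      have := isCyclic_of_prime_card hP
      have e := congrArg Subtype.val (mul_comm' (⟨y, hy⟩ : (P : Subgroup G)) ⟨g, ‹_›⟩)
      exact Subtype.ext e) hq hqp
      (((Nat.coprime_primes hq he).2 hqe).dvd_of_dvd_mul_right (by rwa [← h5, N.card_mul_index]))
      fun a ha => h q a hq (ha.trans N.card_subgroup_dvd_card)
    refine h7.trans (card_dvd_of_injective ((N.subtype.comp (Subgroup.subtype _)).codRestrict _ fun g => ?_) fun a b e => ?_)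
    · exact mem_centralizer_singleton_iff.2 (congrArg Subtype.val (mem_centralizer_singleton_iff.1 g.2))
    · have := congrArg Subtype.val e
      exact Subtype.ext (Subtype.ext this)
  · refine Or.inl (by_contra fun hB => h0 ?_)
    obtain ⟨r, hr, h1⟩ := Nat.exists_prime_and_dvd (fun e => hB (card_eq_one.1 e))
    have h2 := dvd_card_centralizer_of_normal ho hpN hr h1 (h r · hr)
    refine dvd_card_centralizer_of_burnside hP ho (hC ▸ (eq_or_lt_of_le hCN).elim Eq.ge fun h3 => ?_) hq hqp hqG (h q · hq)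
    rw [hd _ (mem_centralizer_singleton_iff.2 rfl) h3, Nat.prime_dvd_prime_iff_eq hr hp.out] at h2
    exact absurd (h2 ▸ h1) hpN

theorem pow_mod_ne_one_of_list {n p B : ℕ} {qs : List ℕ} (hqs : ∀ q ∈ qs, q.Prime) (h1 : n ∣ qs.prod ^ B) (h0 : n ≠ 0)
    (h2 : n < 2 ^ B) (h3 : ∀ q ∈ qs, ∀ a < B, q ^ (a + 1) ∣ n → q ^ (a + 1) % p ≠ 1) :
    ∀ q a, q.Prime → q ^ (a + 1) ∣ n → q ^ (a + 1) % p ≠ 1 := fun q a hq h => by
  obtain ⟨r, h4, h5⟩ := (Prime.dvd_prod_iff hq.prime).1 (hq.dvd_of_dvd_pow (((dvd_pow_self q a.succ_ne_zero).trans h).trans h1))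
  obtain rfl := (Nat.prime_dvd_prime_iff_eq hq (hqs r h4)).1 h5
  refine h3 q h4 a (by_contra fun h6 => ?_) h
  have := (Nat.pow_le_pow_left hq.two_le _).trans (Nat.le_of_dvd (Nat.pos_of_ne_zero h0) h)
  have := Nat.pow_le_pow_right two_pos (show B ≤ a + 1 by omega)
  omega

theorem card_normalizer_of_selfC {x : G} (hx : orderOf x = p) (hC : Nat.card (centralizer ({x} : Set G)) = p) :
    ∃ (P : Sylow p G) (e : ℕ), Nat.card (P : Subgroup G) = p ∧ e ∣ p - 1 ∧ Nat.card (normalizer (P : Set G)) = p * e ∧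
      Nat.card (Sylow p G) * (p * e) = Nat.card G ∧ Nat.card (Sylow p G) % p = 1 := by
  obtain ⟨P, hP⟩ := (isPGroup_zpowers_of_orderOf hx).exists_le_sylow
  have hx1 : x ≠ 1 := by rintro rfl; exact hp.out.one_lt.ne (orderOf_one.symm.trans hx)
  have hZ : zpowers x = centralizer ({x} : Set G) :=
    eq_of_le_of_card_ge (zpowers_le.2 (mem_centralizer_singleton_iff.2 rfl)) (by rw [hC, Nat.card_zpowers, hx])
  have h1 : Nat.card (P : Subgroup G) = p := by
    have : Nontrivial (P : Subgroup G) := ⟨⟨x, hP (mem_zpowers x)⟩, 1, fun e => hx1 (congrArg Subtype.val e)⟩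
    have := P.2.center_nontrivial
    obtain ⟨⟨z, hz⟩, hz1⟩ := exists_ne (1 : center (P : Subgroup G))
    have h2 : (z : G) ∈ zpowers x := hZ ▸ mem_centralizer_singleton_iff.2
      (congrArg Subtype.val (mem_center_iff.1 hz ⟨x, hP (mem_zpowers x)⟩)).symm
    have h3 : zpowers (z : G) = zpowers x := by
      refine eq_of_le_of_card_ge (zpowers_le.2 h2) ?_
      have := (Nat.dvd_prime hp.out).1 (hx ▸ orderOf_dvd_of_mem_zpowers h2)
      rw [Nat.card_zpowers, Nat.card_zpowers, hx, this.resolve_left fun e => hz1 (Subtype.ext (Subtype.ext (orderOf_eq_one_iff.1 e)))]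
    refine (congrArg (fun K : Subgroup G => Nat.card K) ((le_antisymm (fun g hg => ?_) hP).trans hZ)).trans hC
    rw [hZ, ← centralizer_closure, ← zpowers_eq_closure, ← h3, zpowers_eq_closure, centralizer_closure]
    exact mem_centralizer_singleton_iff.2 (congrArg Subtype.val (mem_center_iff.1 hz ⟨g, hg⟩))
  have h2 := relIndex_centralizer_normalizer_dvd (P : Subgroup G)
  have := isCyclic_of_prime_card h1
  rw [IsCyclic.card_mulAut, h1, Nat.totient_prime hp.out] at h2
  have h3 := H01.card_mul_relIndex (centralizer_le_normalizer ((P : Subgroup G) : Set G))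
  rw [show centralizer ((P : Subgroup G) : Set G) = centralizer {x} from
    (centralizer_eq_of_sylow h1 (hP (mem_zpowers x)) hx1).symm] at h3 h2
  rw [hC] at h3
  refine ⟨P, _, h1, h2, h3.symm, by rw [h3]; exact card_sylow_mul_card_normalizer P, ?_⟩
  rw [card_sylow_modEq_one p G, Nat.mod_eq_of_lt hp.out.one_lt]

section graph
variable {H M : Type*} [Group H] [Finite H] [Group M] [Finite M] (f : {h : H // h ≠ 1} ≃ {g : M // g ≠ 1})
include f

theorem card_eq_of_commGraph : Nat.card H = Nat.card M := by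
  classical
  exact Nat.card_congr ((Equiv.optionSubtypeNe 1).symm.trans (f.optionCongr.trans (Equiv.optionSubtypeNe 1)))

variable (hf : ∀ x y : {h : H // h ≠ 1}, (x : H) * y = y * x ↔ (f x : M) * f y = f y * f x)
include hf

theorem card_centralizer_eq_of_commGraph (x : {h : H // h ≠ 1}) :
    Nat.card (centralizer ({(x : H)} : Set H)) = Nat.card (centralizer ({(f x : M)} : Set M)) :=
  card_eq_of_commGraph ⟨fun y => ⟨⟨f ⟨y.1, by simpa using y.2⟩, mem_centralizer_singleton_iff.2
      ((hf _ x).1 (mem_centralizer_singleton_iff.1 y.1.2))⟩, fun e => (f _).2 (congrArg Subtype.val e)⟩,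
    fun y => ⟨⟨f.symm ⟨y.1, by simpa using y.2⟩, mem_centralizer_singleton_iff.2
      ((hf _ x).2 (by simpa using mem_centralizer_singleton_iff.1 y.1.2))⟩, fun e => (f.symm _).2 (congrArg Subtype.val e)⟩,
    fun y => by simp, fun y => by simp⟩

theorem selfC_of_commGraph (hc : ∀ y : M, orderOf y = p → Nat.card (centralizer ({y} : Set M)) = p) {x : H}
    (hx : orderOf x = p) : Nat.card (centralizer ({x} : Set H)) = p := by
  have hx1 : x ≠ 1 := by rintro rfl; exact hp.out.one_lt.ne (orderOf_one.symm.trans hx)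
  have h1 := card_centralizer_eq_of_commGraph f hf ⟨x, hx1⟩
  obtain ⟨y, hy⟩ := exists_prime_orderOf_dvd_card' p
    (h1 ▸ hx ▸ (centralizer ({x} : Set H)).orderOf_dvd_natCard (mem_centralizer_singleton_iff.2 rfl))
  have h2 := (Subgroup.orderOf_coe y).trans hy
  have h3 := (Nat.dvd_prime hp.out).1 (hc y h2 ▸ (centralizer ({(y : M)} : Set M)).orderOf_dvd_natCard
    (mem_centralizer_singleton_iff.2 (mem_centralizer_singleton_iff.1 y.2).symm))
  exact h1.trans (hc _ (h3.resolve_left fun e => (f _).2 (orderOf_eq_one_iff.1 e)))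

end graph

theorem dvd_card_orderOf_of_selfC (hc : ∀ y : G, orderOf y = p → Nat.card (centralizer ({y} : Set G)) = p)
    (hd : p ∣ Nat.card G) {n : ℕ} (h1 : n ≠ 1) (h2 : n ≠ p) : p ∣ Nat.card {g : G // orderOf g = n} := by
  classical
  have := Fintype.ofFinite G
  obtain ⟨x, hx⟩ := exists_prime_orderOf_dvd_card' p hd
  let f : {g : G // orderOf g = n} → {g : G // orderOf g = n} := fun q => ⟨x * q * x⁻¹,
    (SemiconjBy.orderOf_eq x (by simp [SemiconjBy])).symm.trans q.2⟩
  have h3 : ∀ k q, ((f^[k] q : {g : G // orderOf g = n}) : G) = x ^ k * q * (x ^ k)⁻¹ := fun k q => by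
    induction k with
    | zero => simp
    | succ n ih => rw [Function.iterate_succ_apply', pow_succ']; simp only [f, ih]; group
  have h4 := Equiv.Perm.card_fixedPoints_modEq (p := p) (n := 1) (f := (f : Function.End _)) (by
    funext q
    refine Subtype.ext ?_
    change ((f^[p ^ 1] q : {g : G // orderOf g = n}) : G) = q
    rw [h3, pow_one, ← hx, pow_orderOf_eq_one]; simp)
  have : IsEmpty (Function.fixedPoints f) := ⟨fun q => by
    have h5 := (Nat.dvd_prime hp.out).1 (hc x hx ▸ (centralizer ({x} : Set G)).orderOf_dvd_natCard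
      (mem_centralizer_singleton_iff.2 (mul_inv_eq_iff_eq_mul.1 (congrArg Subtype.val q.2)).symm))
    rw [q.1.2] at h5; tauto⟩
  rw [Nat.card_eq_fintype_card]
  exact (Nat.modEq_zero_iff_dvd.1 (h4.trans (by rw [Fintype.card_eq_zero])))

theorem card_sylow_eq_of_nse {M : Type*} [Group M] [Finite M] (h2 : 2 < p) {P : Sylow p G}
    (hP : Nat.card (P : Subgroup G) = p) {Q : Sylow p M} (hQ : Nat.card (Q : Subgroup M) = p)
    (hc : ∀ y : M, orderOf y = p → Nat.card (centralizer ({y} : Set M)) = p)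
    (h : {c : ℕ | 0 < c ∧ ∃ n : ℕ, c = Nat.card {g : G // orderOf g = n}} =
      {c : ℕ | 0 < c ∧ ∃ n : ℕ, c = Nat.card {g : M // orderOf g = n}}) :
    Nat.card (Sylow p G) = Nat.card (Sylow p M) := by
  have h1 := card_orderOf_eq_prime hP
  obtain ⟨-, n, h3⟩ := h.le (show _ ∧ _ from ⟨Nat.mul_pos Nat.card_pos (by omega), p, h1.symm⟩)
  by_cases e1 : n = 1
  · have : Unique {g : M // orderOf g = n} := ⟨⟨⟨1, by simp [e1]⟩⟩, fun g => Subtype.ext (orderOf_eq_one_iff.1 (g.2.trans e1))⟩
    have := Nat.eq_one_of_mul_eq_one_left (h3.trans Nat.card_unique); omega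
  by_cases e2 : n = p
  · rw [e2, card_orderOf_eq_prime hQ] at h3
    exact Nat.eq_of_mul_eq_mul_right (by omega) h3
  have h4 := dvd_card_orderOf_of_selfC hc (hQ ▸ (Q : Subgroup M).card_subgroup_dvd_card) e1 e2
  rw [← h3] at h4
  rcases (Nat.Prime.dvd_mul hp.out).1 h4 with h4 | h4
  · exact absurd h4 (not_dvd_card_sylow p G)
  · exact absurd (Nat.le_of_dvd (by omega) h4) (by omega)

end H19
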