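import Mathlib
import Cfsg.Agent.H19.Frob
import Cfsg.Agent.H21.IntVec

/-!
The principal block when `[N(P) : C(P)] = 3` (namespace H19).
* `iso_pair` : arithmetic of a totally isotropic plane; `pair_zero` : class multiplication inside the principal block.
* `FDesc.swap`, `Frob.exists_desc_three` (`d = 0`), `FDesc.three` (two non-principal non-exceptional characters).
* `Frob.exists_sigma`, `Frob.sq_eq_one_of_inv`, `FDesc.invol_rel` (the three relations at an involution).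
-/

set_option linter.unusedSectionVars false

open H05 Cfsg Classical
open scoped ComplexConjugate

namespace H19

theorem isSquare_of_two_minus {a b c u v : ℤ} (hb : 0 < b) (hc : 0 < c) (h1 : a + 1 = b + c)
    (h2 : (u + v) ^ 2 * b * c = a * (u ^ 2 * c + v ^ 2 * b)) (h : u ≠ 0 ∨ v ≠ 0 ∨ u + v ≠ 0) (ha : 0 < a) :
    IsSquare (a * b * c) := by
  have h3 : u ^ 2 * c + v ^ 2 * b = (u * c - v * b) ^ 2 := by
    obtain rfl : a = b + c - 1 := by omega
    linear_combination h2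
  have h4 : u + v ≠ 0 := fun h0 => by
    rw [h0] at h2
    have h5 : u ^ 2 * c + v ^ 2 * b = 0 := (mul_eq_zero.1 (by linear_combination -h2)).resolve_left ha.ne'
    have h6 : u ^ 2 = 0 := by nlinarith [sq_nonneg u, sq_nonneg v]
    have h7 : u = 0 := by simpa using h6
    omega
  have h5 : (u + v) ^ 2 * (a * b * c) = (a * (u * c - v * b)) ^ 2 := by rw [mul_pow, ← h3]; linear_combination a * h2
  obtain ⟨k, hk⟩ := (Int.pow_dvd_pow_iff two_ne_zero).1 ⟨_, h5.symm⟩
  rw [hk, mul_pow] at h5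
  exact ⟨k, by rw [mul_left_cancel₀ (pow_ne_zero 2 h4) h5, sq]⟩

theorem false_of_one_minus {a b c u v : ℤ} (hb : 0 < b) (hc : 0 < c) (h1 : a = b + c + 1)
    (h2 : (u + v) ^ 2 * b * c = a * (u ^ 2 * c + v ^ 2 * b)) (h : u ≠ 0 ∨ v ≠ 0 ∨ u + v ≠ 0) : False := by
  have h3 : u ^ 2 * c + v ^ 2 * b + (u * c - v * b) ^ 2 = 0 := by
    subst h1
    linear_combination -h2
  have h6 : u ^ 2 = 0 := by nlinarith [sq_nonneg u, sq_nonneg v, sq_nonneg (u * c - v * b)]
  have h7 : v ^ 2 = 0 := by nlinarith [sq_nonneg u, sq_nonneg v, sq_nonneg (u * c - v * b)]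
  have h8 : u = 0 := by simpa using h6
  have h9 : v = 0 := by simpa using h7
  omega

theorem iso_pair {x y z s t r u v w : ℤ} (hx : 0 < x) (hy : 0 < y) (hz : 0 < z) (hs : s = 1 ∨ s = -1)
    (ht : t = 1 ∨ t = -1) (hr : r = 1 ∨ r = -1) (h1 : 1 + s * x + t * y + r * z = 0)
    (h2 : 1 + s * u + t * v + r * w = 0)
    (h3 : x * y * z + s * u ^ 2 * y * z + t * v ^ 2 * x * z + r * w ^ 2 * x * y = 0) (hu : u ≠ x) :
    ((if s = -1 then 1 else 0) + (if t = -1 then 1 else 0) + (if r = -1 then 1 else 0) = 2) ∧ IsSquare (x * y * z) := by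
  obtain ⟨u, rfl⟩ : ∃ u', u = u' + x := ⟨u - x, by ring⟩
  obtain ⟨v, rfl⟩ : ∃ v', v = v' + y := ⟨v - y, by ring⟩
  obtain ⟨w, rfl⟩ : ∃ w', w = w' + z := ⟨w - z, by ring⟩
  have h4 : s * u + t * v + r * w = 0 := by linear_combination h2 - h1
  have h5 : s * u ^ 2 * y * z + t * v ^ 2 * x * z + r * w ^ 2 * x * y = 0 := by
    linear_combination h3 - 2 * x * y * z * h4 - x * y * z * h1
  have h6 : u ≠ 0 := by omega
  rcases hs with rfl | rfl <;> rcases ht with rfl | rfl <;> rcases hr with rfl | rfl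
  · omega
  · obtain rfl : w = u + v := by omega
    exact (false_of_one_minus (a := z) (u := u) (v := v) hx hy (by omega) (by linear_combination -h5) (by omega)).elim
  · obtain rfl : v = u + w := by omega
    exact (false_of_one_minus (a := y) (u := u) (v := w) hx hz (by omega) (by linear_combination -h5) (by omega)).elim
  · obtain rfl : u = v + w := by omega
    exact ⟨by simp, isSquare_of_two_minus (u := v) (v := w) hy hz (by omega) (by linear_combination h5) (by omega) hx⟩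
  · obtain rfl : u = v + w := by omega
    exact (false_of_one_minus (a := x) (u := v) (v := w) hy hz (by omega) (by linear_combination -h5) (by omega)).elim
  · obtain rfl : v = u + w := by omega
    exact ⟨by simp, by
      rw [show x * y * z = y * x * z by ring]
      exact isSquare_of_two_minus (u := u) (v := w) hx hz (by omega) (by linear_combination h5) (by omega) hy⟩
  · obtain rfl : w = u + v := by omega
    exact ⟨by simp, by
      rw [show x * y * z = z * x * y by ring]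
      exact isSquare_of_two_minus (u := u) (v := v) hx hy (by omega) (by linear_combination h5) (by omega) hz⟩
  · exfalso
    have := mul_pos (mul_pos (pow_pos (abs_pos.2 h6) 2) hy) hz
    rw [sq_abs] at this
    nlinarith [mul_nonneg (mul_nonneg (sq_nonneg v) hx.le) hz.le, mul_nonneg (mul_nonneg (sq_nonneg w) hx.le) hy.le]

variable {p : ℕ} {G : Type*} [Group G] [Fintype G] [hp : Fact p.Prime] {M : Ideal AlgInt} {P : Sylow p G}

theorem charDegree_irrOne21 : charDegree (H21.irrOne G : G → ℂ) = 1 := charDegree_eq_of_apply_one (by simp)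

theorem pair_zero (hM : IsPModular p M) (t t' y : G)
    (h : ∀ s s', IsConj t s → IsConj t' s' → ¬ IsConj (H21.pPart p (s * s')) (H21.pPart p y)) :
    ∑ χ with χ ∈ principalBlock M G,
      conj ((χ : G → ℂ) y) * ((χ : G → ℂ) t * (χ : G → ℂ) t' / (χ : G → ℂ) 1) = 0 := by
  apply mul_left_cancel₀ (pow_ne_zero 2 (card_ne_zero_complex (G := G)))
  rw [Finset.mul_sum, Finset.sum_congr rfl (g := fun χ : IrrCharacter G => ∑ b : G, ∑ a : G,
    (χ : G → ℂ) (a * t * a⁻¹ * (b * t' * b⁻¹)) * conj ((χ : G → ℂ) y)) fun χ _ => by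
      rw [mul_left_comm, ← H08.pairSum_irr χ.2, H08.pairSum, mul_comm]; simp only [Finset.sum_mul],
    Finset.sum_comm, mul_zero]
  refine Finset.sum_eq_zero fun b _ => ?_
  rw [Finset.sum_comm]
  exact Finset.sum_eq_zero fun a _ => H21.sum_principal_of_ne hM (h _ _ (H08.isConj_conj _ _) (H08.isConj_conj _ _))

namespace FDesc
variable {d δ : ℤ} {a : IrrCharacter G → ℤ} {ζ : ((P : Subgroup G) →* ℂˣ) → IrrCharacter G}

theorem swap (D : FDesc M P δ δ a ζ) (h : (fY ζ).card = 2) : ∃ ζ', FDesc M P 0 (-δ) a ζ' := by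
  obtain ⟨η, η', hne, h⟩ := Finset.card_eq_two.1 h
  have h1 : ∀ ψ, ψ ≠ 1 → ζ ψ = η ∨ ζ ψ = η' := fun ψ hψ => by
    simpa [h] using (mem_fY.2 ⟨ψ, hψ, rfl⟩ : ζ ψ ∈ fY ζ)
  have h2 : ∀ ψ, ψ ≠ 1 → Equiv.swap η η' (ζ ψ) ∈ fY ζ := fun ψ hψ => by
    rcases h1 ψ hψ with e | e <;> simp [h, e]
  refine ⟨fun ψ => Equiv.swap η η' (ζ ψ), D.mod, D.frob, D.two, by have := D.sign; omega,
    fun ψ hψ => D.mem_of_Y (h2 ψ hψ), fun ψ ψ' hψ hψ' => by rw [← D.eq_iff ψ ψ' hψ hψ', Equiv.apply_eq_iff_eq],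
    fun ψ ψ' hψ hψ' => ?_, fun χ hχ hn ψ hψ => D.u_non χ hχ (fun ψ' hψ' e => ?_) ψ hψ⟩
  · rw [D.u_Y (h2 ψ' hψ') hψ]
    simp only [← D.eq_iff ψ ψ' hψ hψ']
    rcases h1 ψ hψ with e | e <;> rcases h1 ψ' hψ' with e' | e' <;> simp [e, e', hne, hne.symm]
  · obtain ⟨ψ'', h3, h4⟩ := mem_fY.1 (h2 ψ' hψ')
    exact hn ψ'' h3 (by rw [h4, e]; simp)

theorem reg_one (D : FDesc M P d δ a ζ) {η : IrrCharacter G} (h : η ∈ fY ζ) :
    ((fY ζ).card * d - δ) * charDegree (η : G → ℂ) + ∑ χ ∈ fX M ζ, a χ * charDegree (χ : G → ℂ) = 0 := by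
  have := D.reg_rel h (g := 1) (by simpa using hp.out.one_lt.ne')
  simp only [← η.2.charDegree_eq, ← IsIrrCharacter.charDegree_eq (Subtype.property (_ : IrrCharacter _))] at this
  exact_mod_cast this

theorem three (D : FDesc M P 0 δ a ζ) (h : frobIdx (P : Subgroup G) = 3) :
    ∃ χ χ', χ ≠ χ' ∧ (fX M ζ).erase (H21.irrOne G) = {χ, χ'} ∧ ∀ ξ ∈ fX M ζ, a ξ = 1 ∨ a ξ = -1 := by
  have h1 := D.norm
  rw [h, ← Finset.add_sum_erase _ _ D.one_mem_X, D.a_one] at h1
  have h2 : ∑ χ ∈ (fX M ζ).erase (H21.irrOne G), a χ * a χ = 2 := by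
    simp only [← sq]
    rcases D.sign with rfl | rfl <;> push_cast at h1 <;> linarith
  obtain ⟨χ, h3, χ', h4, h5, h6, h7, h8⟩ := H21.exists_of_norm_two h2
  have h9 : (fX M ζ).erase (H21.irrOne G) = {χ, χ'} := by
    ext ξ
    refine ⟨fun hξ => ?_, fun hξ => by rcases Finset.mem_insert.1 hξ with rfl | hξ; exacts [h3, Finset.mem_singleton.1 hξ ▸ h4]⟩
    by_contra hc
    simp only [Finset.mem_insert, Finset.mem_singleton, not_or] at hc
    exact D.a_ne_zero (Finset.mem_of_mem_erase hξ) (h8 ξ hξ hc.1 hc.2)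
  refine ⟨χ, χ', h5, h9, fun ξ hξ => ?_⟩
  by_cases h0 : ξ = H21.irrOne G
  · exact Or.inl (h0 ▸ D.a_one)
  · have : ξ ∈ ({χ, χ'} : Finset _) := h9 ▸ Finset.mem_erase.2 ⟨h0, hξ⟩
    rcases Finset.mem_insert.1 this with rfl | this
    exacts [h6, Finset.mem_singleton.1 this ▸ h7]

end FDesc

namespace Frob
variable (F : Frob P)
include F

theorem exists_desc_three (hM : IsPModular p M) (h : frobIdx (P : Subgroup G) = 3)
    (h4 : 4 < Nat.card (P : Subgroup G)) : ∃ δ a ζ, FDesc M P 0 δ a ζ := by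
  obtain ⟨d, δ, a, ζ, D⟩ := F.exists_desc hM (h ▸ h4)
  by_cases hd : d = 0
  · exact ⟨δ, a, ζ, hd ▸ D⟩
  have h1 := D.norm
  have h2 := D.card_Y
  have h3 : (2 : ℤ) ≤ (fY ζ).card := by exact_mod_cast D.two_le_card_Y
  rw [h, ← Finset.add_sum_erase _ _ D.one_mem_X, D.a_one] at h1
  have h5 : 0 ≤ ∑ χ ∈ (fX M ζ).erase (H21.irrOne G), a χ ^ 2 := Finset.sum_nonneg fun _ _ => sq_nonneg _
  have h6 : d ^ 2 ≤ 3 := by push_cast at h1; nlinarith [sq_nonneg (d - δ), sq_nonneg d]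
  have h7 : d = 1 ∨ d = -1 := by
    have : d < 2 := by nlinarith
    have : -2 < d := by nlinarith
    omega
  obtain rfl : d = δ := by
    rcases h7 with rfl | rfl <;> rcases D.sign with rfl | rfl <;> first | rfl | (push_cast at h1; nlinarith)
  have h8 : ((fY ζ).card : ℤ) + ∑ χ ∈ (fX M ζ).erase (H21.irrOne G), a χ ^ 2 = 4 := by
    rcases h7 with rfl | rfl <;> push_cast at h1 <;> linarith
  rcases (by omega : (fY ζ).card = 2 ∨ (fY ζ).card = 3 ∨ (fY ζ).card = 4) with h9 | h9 | h9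
  · obtain ⟨ζ', D'⟩ := D.swap h9
    exact ⟨_, a, ζ', D'⟩
  · obtain ⟨n, hn⟩ := P.2.exists_card_eq
    rw [h, h9, hn] at h2
    have e1 := (Nat.prime_dvd_prime_iff_eq Nat.prime_two hp.out).1 (Nat.prime_two.dvd_of_dvd_pow (n := n) (by rw [← h2]; norm_num))
    have e2 := (Nat.prime_dvd_prime_iff_eq Nat.prime_five hp.out).1 (Nat.prime_five.dvd_of_dvd_pow (n := n) (by rw [← h2]; norm_num))
    omega
  · obtain ⟨η, hη⟩ := Finset.card_pos.1 (by omega : 0 < (fY ζ).card)
    have h10 := D.reg_one hη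
    have h11 : ∑ χ ∈ (fX M ζ).erase (H21.irrOne G), a χ ^ 2 = 0 := by omega
    rw [← Finset.add_sum_erase _ _ D.one_mem_X, D.a_one, h9, Finset.sum_eq_zero fun χ hχ => by
      rw [pow_eq_zero_iff two_ne_zero |>.1 ((Finset.sum_eq_zero_iff_of_nonneg fun _ _ => sq_nonneg _).1
        h11 χ hχ), zero_mul], charDegree_irrOne21] at h10
    rcases h7 with rfl | rfl <;> push_cast at h10 <;> omega

theorem exists_sigma (h : frobIdx (P : Subgroup G) = 3) :
    ∃ g : Subgroup.normalizer ((P : Subgroup G) : Set G), (P : Subgroup G).normalizerMonoidHom g ^ 3 = 1 ∧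
      (g : G) ∉ Subgroup.centralizer ((P : Subgroup G) : Set G) ∧
      ((g * g : Subgroup.normalizer ((P : Subgroup G) : Set G)) : G) ∉ Subgroup.centralizer ((P : Subgroup G) : Set G) ∧
      ∀ n, (P : Subgroup G).normalizerMonoidHom n = 1 ∨
        (P : Subgroup G).normalizerMonoidHom n = (P : Subgroup G).normalizerMonoidHom g ∨
        (P : Subgroup G).normalizerMonoidHom n = (P : Subgroup G).normalizerMonoidHom (g * g) := by
  have h1 : Nat.card (P : Subgroup G).normalizerMonoidHom.range = 3 := by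
    rw [← Subgroup.index_ker, Subgroup.normalizerMonoidHom_ker]; exact h
  have h2 : ∀ n, (P : Subgroup G).normalizerMonoidHom n = 1 ↔
      (n : G) ∈ Subgroup.centralizer ((P : Subgroup G) : Set G) := fun n => by
    rw [← MonoidHom.mem_ker, Subgroup.normalizerMonoidHom_ker, Subgroup.mem_subgroupOf]
  have : Nontrivial (P : Subgroup G).normalizerMonoidHom.range := Finite.one_lt_card_iff_nontrivial.1 (by omega)
  obtain ⟨⟨_, g, rfl⟩, hg⟩ := exists_ne (1 : (P : Subgroup G).normalizerMonoidHom.range)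
  have h3 : (P : Subgroup G).normalizerMonoidHom g ^ 3 = 1 :=
    congrArg Subtype.val (h1 ▸ pow_card_eq_one' (x := (⟨_, g, rfl⟩ : (P : Subgroup G).normalizerMonoidHom.range)))
  have h4 : (P : Subgroup G).normalizerMonoidHom g ≠ 1 := fun e => hg (Subtype.ext e)
  refine ⟨g, h3, mt (h2 _).2 h4, fun e => h4 ?_, fun n => ?_⟩
  · rw [pow_succ, sq, ← map_mul, (h2 _).2 e, one_mul] at h3
    exact h3
  · have := Fact.mk Nat.prime_three
    obtain ⟨k, hk⟩ := mem_powers_of_prime_card h1 (g' := ⟨_, n, rfl⟩) hg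
    have h5 : (P : Subgroup G).normalizerMonoidHom n = (P : Subgroup G).normalizerMonoidHom g ^ (k % 3) := by
      rw [← pow_eq_pow_mod _ h3]; exact (congrArg Subtype.val hk).symm
    rw [h5, map_mul]
    rcases (by omega : k % 3 = 0 ∨ k % 3 = 1 ∨ k % 3 = 2) with e | e | e <;> simp [e, sq]

theorem fix {n : Subgroup.normalizer ((P : Subgroup G) : Set G)}
    (hn : (n : G) ∉ Subgroup.centralizer ((P : Subgroup G) : Set G)) {y : (P : Subgroup G)}
    (h : (P : Subgroup G).normalizerMonoidHom n y = y) : y = 1 := by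
  by_contra hy
  exact hn (F.frob _ y.2 (fun e => hy (Subtype.ext e)) ▸
    ⟨Subgroup.mem_centralizer_singleton_iff.2 (mul_inv_eq_iff_eq_mul.1 (congrArg Subtype.val h)), n.2⟩)

theorem sq_eq_one_of_inv (h : frobIdx (P : Subgroup G) = 3) {y : (P : Subgroup G)} (hy : IsConj (y : G) (y : G)⁻¹) :
    y * y = 1 := by
  obtain ⟨g, h1, h2, h3, h4⟩ := F.exists_sigma h
  obtain ⟨n, hn, e⟩ := F.exists_conj (y' := y⁻¹) hy
  have e1 : (P : Subgroup G).normalizerMonoidHom ⟨n, hn⟩ y = y⁻¹ := Subtype.ext e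
  have e2 : ((P : Subgroup G).normalizerMonoidHom ⟨n, hn⟩ ^ 3) y = y⁻¹ := by
    simp only [pow_succ, pow_zero, one_mul, MulAut.mul_apply, e1, map_inv, inv_inv]
  have e3 : (P : Subgroup G).normalizerMonoidHom ⟨n, hn⟩ ^ 3 = 1 := by
    rcases h4 ⟨n, hn⟩ with e | e | e <;> rw [e]
    exacts [one_pow _, h1, by rw [map_mul, ← sq, ← pow_mul, mul_comm, pow_mul, h1, one_pow]]
  rw [e3, MulAut.one_apply] at e2
  exact mul_eq_one_iff_eq_inv.2 e2

theorem mul_self_of_pair (h : frobIdx (P : Subgroup G) = 3) {s s' : G} (hs : s * s = 1) (hs' : s' * s' = 1)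
    {y : (P : Subgroup G)} (hy : IsConj (H21.pPart p (s * s')) y) : y * y = 1 := by
  obtain ⟨g, hg⟩ := isConj_iff.1 hy
  refine F.sq_eq_one_of_inv h (hy.symm.trans (isConj_iff.2 ⟨g * s, ?_⟩))
  have := congrArg (H21.pPart p) (H08.conj_mul_left hs hs')
  rw [H21.pPart_conj, H21.pPart_inv] at this
  rw [← hg, conj_inv, ← this]; group

theorem exists_mul_of_pair {s s' : G} (hs : orderOf s = p) (hs' : orderOf s' = p)
    {y : (P : Subgroup G)} (hy1 : y ≠ 1) (hy : H21.pPart p (s * s') = y) (h1 : Commute s y) (h2 : Commute s' y) :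
    ∃ v v' : (P : Subgroup G), IsConj s v ∧ IsConj s' v' ∧ v * v' = y := by
  have hle := F.le_centralizer y.2
  obtain ⟨K, hK, S⟩ := H21.exists_sd_of_hasNPC (H20.sylIn_of_sylow P hle) (F.hasNPC y.2 fun e => hy1 (Subtype.ext e))
  obtain ⟨k, hk, v, hv, rfl⟩ := S.gen s (Subgroup.mem_centralizer_singleton_iff.2 h1)
  obtain ⟨k', hk', v', hv', rfl⟩ := S.gen s' (Subgroup.mem_centralizer_singleton_iff.2 h2)
  obtain ⟨l, -, e⟩ := S.exists_conj_pPart hK P.2 hk hv
  obtain ⟨l', -, e'⟩ := S.exists_conj_pPart hK P.2 hk' hv'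
  obtain ⟨m, hm, e''⟩ := S.exists_conj_pPart hK P.2 (mul_mem hk (S.norm v (hle hv) k' hk')) (mul_mem hv hv')
  rw [H21.pPart_of_pow ⟨1, by rw [hs, pow_one]⟩] at e
  rw [H21.pPart_of_pow ⟨1, by rw [hs', pow_one]⟩] at e'
  rw [show k * (v * k' * v⁻¹) * (v * v') = k * v * (k' * v') by group, hy, mul_inv_eq_iff_eq_mul,
    ← Subgroup.mem_centralizer_singleton_iff.1 (S.K_le hm), mul_right_inj] at e''
  exact ⟨⟨v, hv⟩, ⟨v', hv'⟩, (isConj_iff.2 ⟨l, e⟩).symm, (isConj_iff.2 ⟨l', e'⟩).symm, Subtype.ext e''⟩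

theorem filter_rel {g : Subgroup.normalizer ((P : Subgroup G) : Set G)}
    (h4 : ∀ n, (P : Subgroup G).normalizerMonoidHom n = 1 ∨
        (P : Subgroup G).normalizerMonoidHom n = (P : Subgroup G).normalizerMonoidHom g ∨
        (P : Subgroup G).normalizerMonoidHom n = (P : Subgroup G).normalizerMonoidHom (g * g))
    (ψ : (P : Subgroup G) →* ℂˣ) :
    (Finset.univ.filter fun ψ' => DRel _ ψ ψ') = {ψ, cD _ g ψ, cD _ (g * g) ψ} := by
  ext ψ'
  simp only [Finset.mem_filter, Finset.mem_univ, true_and, Finset.mem_insert, Finset.mem_singleton]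
  refine ⟨fun e => ?_, fun e => (dRel_equivalence _).symm (dRel_iff.2 ?_)⟩
  · obtain ⟨n, rfl⟩ := dRel_iff.1 ((dRel_equivalence _).symm e)
    rcases h4 n with e | e | e
    · exact Or.inl (by rw [cD, e]; rfl)
    · exact Or.inr (Or.inl (by rw [cD, e]; rfl))
    · exact Or.inr (Or.inr (by rw [cD, e]; rfl))
  · rcases e with rfl | rfl | rfl
    exacts [⟨1, cD_one _ _⟩, ⟨g, rfl⟩, ⟨g * g, rfl⟩]

end Frob

namespace FDesc
variable {d δ : ℤ} {a : IrrCharacter G → ℤ} {ζ : ((P : Subgroup G) →* ℂˣ) → IrrCharacter G}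

theorem sum_Y (D : FDesc M P d δ a ζ) {y : (P : Subgroup G)} (hy : y ≠ 1) :
    ∑ η ∈ fY ζ, (η : G → ℂ) y = (fY ζ).card * d - δ := by
  have := D.frob.comm
  rw [Finset.sum_congr rfl fun η _ => apply_eq_sum_uu _ η hy, Finset.sum_comm,
    Finset.sum_congr rfl (g := fun ψ => (δ - (fY ζ).card * d) * hf ψ y) fun ψ hψ => by
      have h1 := (Finset.mem_erase.1 hψ).1
      rw [← Finset.sum_mul, Finset.sum_congr rfl fun η hη => by rw [D.u_Y hη h1]]
      push_cast
      rw [Finset.sum_add_distrib, Finset.sum_ite_eq, if_pos (mem_fY.2 ⟨ψ, h1, rfl⟩), Finset.sum_const, nsmul_eq_mul]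
      ring, ← Finset.mul_sum, sum_dual_erase hy]
  ring

theorem apply_X' (D : FDesc M P d δ a ζ) {χ : IrrCharacter G} (h : χ ∈ fX M ζ) {y : (P : Subgroup G)} (hy : y ≠ 1) :
    (χ : G → ℂ) y = a χ :=
  D.apply_X h (H21.isPPart_iff.2 (H21.pPart_of_pow (H21.orderOf_pow_of_mem P.2 y.2)).symm) y.2
    fun e => hy (Subtype.ext e)

theorem invol_rel (D : FDesc M P 0 δ a ζ) (h : frobIdx (P : Subgroup G) = 3) (h4 : 4 < Nat.card (P : Subgroup G))
    {χ χ' : IrrCharacter G} (hne : χ ≠ χ') (hX : (fX M ζ).erase (H21.irrOne G) = {χ, χ'}) {t : G} (ht : orderOf t = 2)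
    {η : IrrCharacter G} (hη : η ∈ fY ζ) : ∃ u v w : ℤ, (χ : G → ℂ) t = u ∧ 1 + a χ * u + a χ' * v + -δ * w = 0 ∧
      (charDegree (χ : G → ℂ) * charDegree (χ' : G → ℂ) * charDegree (η : G → ℂ) : ℤ) +
        a χ * u ^ 2 * charDegree (χ' : G → ℂ) * charDegree (η : G → ℂ) +
        a χ' * v ^ 2 * charDegree (χ : G → ℂ) * charDegree (η : G → ℂ) +
        -δ * w ^ 2 * charDegree (χ : G → ℂ) * charDegree (χ' : G → ℂ) = 0 := by
  have F := D.frob
  have hc := F.comm
  have hχ : χ ∈ fX M ζ := Finset.mem_of_mem_erase (hX ▸ Finset.mem_insert_self _ _)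
  have hχ' : χ' ∈ fX M ζ := Finset.mem_of_mem_erase (hX ▸ Finset.mem_insert_of_mem (Finset.mem_singleton_self _))
  have hS : ∀ f : IrrCharacter G → ℂ, ∑ ξ ∈ fX M ζ, f ξ = f (H21.irrOne G) + (f χ + f χ') := fun f => by
    rw [← Finset.add_sum_erase _ _ D.one_mem_X, hX, Finset.sum_pair hne]
  have h1p : ¬ p ∣ orderOf (1 : G) := by simpa using hp.out.one_lt.ne'
  have hint : ∀ ξ : IrrCharacter G, ∃ n : ℤ, (ξ : G → ℂ) t = n := fun ξ =>
    ξ.2.isGeneralizedCharacter.exists_int_of_pow_eq t fun k hk => by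
      rw [ht, Nat.coprime_two_right] at hk
      rw [← pow_mod_orderOf, ht, Nat.odd_iff.1 hk, pow_one]
  have key : ∀ (t' : G) (y : (P : Subgroup G)) (u v w : ℤ), y ≠ 1 → (χ : G → ℂ) t' = u → (χ' : G → ℂ) t' = v →
      ∑ η' ∈ fY ζ, conj ((η' : G → ℂ) y) * ((η' : G → ℂ) t' * (η' : G → ℂ) t') = -δ * w ^ 2 →
      (∀ s s', IsConj t' s → IsConj t' s' → ¬ IsConj (H21.pPart p (s * s')) y) →
      (charDegree (χ : G → ℂ) * charDegree (χ' : G → ℂ) * charDegree (η : G → ℂ) : ℤ) +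
        a χ * u ^ 2 * charDegree (χ' : G → ℂ) * charDegree (η : G → ℂ) +
        a χ' * v ^ 2 * charDegree (χ : G → ℂ) * charDegree (η : G → ℂ) +
        -δ * w ^ 2 * charDegree (χ : G → ℂ) * charDegree (χ' : G → ℂ) = 0 := fun t' y u v w hy hu hv hw hs => by
    have h1 := pair_zero D.mod t' t' y (by rwa [H21.pPart_of_pow (H21.orderOf_pow_of_mem P.2 y.2)])
    rw [D.sum_split, hS, Finset.sum_congr rfl fun η' hη' => by rw [D.reg_eq hη' hη h1p, ← mul_div_assoc],
      ← Finset.sum_div, hw, D.apply_X' hχ hy, D.apply_X' hχ' hy, hu, hv, ← χ.2.charDegree_eq, ← χ'.2.charDegree_eq,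
      ← η.2.charDegree_eq] at h1
    have e1 : (charDegree (χ : G → ℂ) : ℂ) ≠ 0 := by exact_mod_cast χ.2.charDegree_pos.ne'
    have e2 : (charDegree (χ' : G → ℂ) : ℂ) ≠ 0 := by exact_mod_cast χ'.2.charDegree_pos.ne'
    have e3 : (charDegree (η : G → ℂ) : ℂ) ≠ 0 := by exact_mod_cast η.2.charDegree_pos.ne'
    simp only [H21.irrOne_apply, map_one, map_intCast] at h1
    field_simp at h1
    have : ((charDegree (χ : G → ℂ) * charDegree (χ' : G → ℂ) * charDegree (η : G → ℂ) : ℤ) +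
        a χ * u ^ 2 * charDegree (χ' : G → ℂ) * charDegree (η : G → ℂ) +
        a χ' * v ^ 2 * charDegree (χ : G → ℂ) * charDegree (η : G → ℂ) +
        -δ * w ^ 2 * charDegree (χ : G → ℂ) * charDegree (χ' : G → ℂ) : ℂ) = 0 := by
      push_cast; linear_combination h1
    exact_mod_cast this
  have hY : ∀ y : (P : Subgroup G), y ≠ 1 → ∑ η' ∈ fY ζ, conj ((η' : G → ℂ) y) = -δ := fun y hy => by
    rw [← map_sum, D.sum_Y hy]; simp
  by_cases hp2 : p = 2
  · subst hp2
    obtain ⟨c, hc⟩ := H08.exists_conj_mem_sylow P (H08.isPGroup_zpowers_of_orderOf ht)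
    obtain ⟨t', ht'⟩ : ∃ t' : (P : Subgroup G), c * t * c⁻¹ = t' := ⟨⟨_, hc⟩, rfl⟩
    have h5 : orderOf (t' : G) = 2 := by rw [← ht', H08.orderOf_conj', ht]
    have h6 : t' ≠ 1 := fun e => H08.ne_one_of_orderOf h5 (congrArg Subtype.val e)
    have h7 : t' * t' = 1 := Subtype.ext (H08.mul_self_of_orderOf h5)
    obtain ⟨g, g1, g2, g3, g4⟩ := F.exists_sigma h
    set σ := (P : Subgroup G).normalizerMonoidHom g with hσ
    have g5 : (P : Subgroup G).normalizerMonoidHom (g * g) t' = σ (σ t') := by rw [map_mul]; rfl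
    have g6 : σ (σ (σ t')) = t' := by
      have := congrArg (· t') g1
      simpa only [pow_succ, pow_zero, one_mul, MulAut.mul_apply, MulAut.one_apply] using this
    have g7 : t' * σ t' * σ (σ t') = 1 := F.fix g2 (by
      rw [map_mul, map_mul, g6, mul_comm' _ t', mul_assoc])
    have g8 : σ t' * σ t' = 1 := by rw [← map_mul, h7, map_one]
    have g9 : σ (σ t') * σ (σ t') = 1 := by rw [← map_mul, g8, map_one]
    have m1 : t' * σ t' = σ (σ t') := by rw [← mul_left_inj (σ (σ t')), g7, g9]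
    have m2 : σ t' * σ (σ t') = t' := by rw [← mul_right_inj t', ← mul_assoc, g7, h7]
    have m3 : t' * σ (σ t') = σ t' := by rw [← m1, ← mul_assoc, h7, one_mul]
    have hO : ∀ v : (P : Subgroup G), IsConj (t' : G) v → v = t' ∨ v = σ t' ∨ v = σ (σ t') := fun v hv => by
      obtain ⟨n, hn, e⟩ := F.exists_conj hv
      have e1 : v = (P : Subgroup G).normalizerMonoidHom ⟨n, hn⟩ t' := Subtype.ext e.symm
      rcases g4 ⟨n, hn⟩ with e | e | e <;> rw [e] at e1
      exacts [Or.inl e1, Or.inr (Or.inl e1), Or.inr (Or.inr (g5 ▸ e1))]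
    obtain ⟨y, -, hy⟩ := Finset.exists_mem_notMem_of_card_lt_card (s := {1, t', σ t', σ (σ t')}) (t := Finset.univ)
      (Finset.card_le_four.trans_lt (by rwa [Finset.card_univ, ← Nat.card_eq_fintype_card]))
    simp only [Finset.mem_insert, Finset.mem_singleton, not_or] at hy
    have ha : ∀ ξ ∈ fX M ζ, a ξ * a ξ = 1 := fun ξ hξ => by
      obtain ⟨-, -, -, -, e⟩ := D.three h
      rcases e ξ hξ with e | e <;> simp [e]
    have hδ : δ * δ = 1 := by rcases D.sign with e | e <;> simp [e]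
    refine ⟨a χ, a χ', 3 * δ, by rw [← χ.2.isClassFunction t c, ht', D.apply_X' hχ h6],
      by linear_combination ha χ hχ + ha χ' hχ' - 3 * hδ,
      key t' y _ _ _ hy.1 (D.apply_X' hχ h6) (D.apply_X' hχ' h6) ?_ fun s s' hs hs' hz => ?_⟩
    · have e1 := H21.sum_principal_col_of_not D.mod (H21.orderOf_pow_of_mem P.2 t'.2) (H21.orderOf_pow_of_mem P.2 y.2)
        fun e => by have := hO y e; tauto
      rw [D.sum_split, hS, D.apply_X' hχ hy.1, D.apply_X' hχ' hy.1, D.apply_X' hχ h6, D.apply_X' hχ' h6] at e1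
      simp only [H21.irrOne_apply, map_one, map_intCast, ← Int.cast_mul, ha χ hχ, ha χ' hχ'] at e1
      rw [Finset.sum_congr rfl (g := fun η' : IrrCharacter G => 3 * conj ((η' : G → ℂ) y) +
        2 * δ * ((η' : G → ℂ) t' * conj ((η' : G → ℂ) y))) fun η' hη' => by
          obtain ⟨ψ, hψ, rfl⟩ := mem_fY.1 hη'
          have n1 : ψ ≠ cD _ g ψ := fun e => g2 (F.mem_of_cD_eq hψ e.symm)
          have n2 : ψ ≠ cD _ (g * g) ψ := fun e => g3 (F.mem_of_cD_eq hψ e.symm)
          have n3 : cD _ g ψ ≠ cD _ (g * g) ψ := fun e => g2 (F.mem_of_cD_eq (cD_ne_one g hψ) (by rw [← cD_mul, e]))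
          rw [D.apply_exc hψ (z := t') (y := t') (H21.isPPart_iff.2 (H21.pPart_of_pow ⟨1, h5⟩).symm)
            (H08.ne_one_of_orderOf h5), F.filter_rel g4, Finset.sum_insert (by simp [n1, n2]), Finset.sum_pair n3]
          simp only [hf_apply, cD_apply, g5, ← hσ]
          have k : ∀ x y z : (P : Subgroup G), x * y = z → (ψ x : ℂ) * ψ y = ψ z := fun x y z e => by
            rw [← e, map_mul, Units.val_mul]
          have k1 := k _ _ _ h7
          have k2 := k _ _ _ g8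
          have k3 := k _ _ _ g9
          have hδ' : (δ : ℂ) * δ = 1 := by exact_mod_cast hδ
          rw [map_one, Units.val_one] at k1 k2 k3
          push_cast
          linear_combination conj ((ζ ψ : G → ℂ) y) * (δ * δ * (k1 + k2 + k3 + 2 * k _ _ _ m1 + 2 * k _ _ _ m2 +
            2 * k _ _ _ m3) + 3 * hδ'),
        Finset.sum_add_distrib, ← Finset.mul_sum, ← Finset.mul_sum, hY y hy.1]
      have hδ' : (δ : ℂ) * δ = 1 := by exact_mod_cast hδ
      push_cast at e1 ⊢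
      linear_combination 2 * δ * e1 + 9 * δ * hδ'
    · have o1 := (H08.orderOf_eq_of_isConj hs).symm.trans h5
      have o2 := (H08.orderOf_eq_of_isConj hs').symm.trans h5
      have e0 := congrArg Subtype.val
        (F.mul_self_of_pair h (H08.mul_self_of_orderOf o1) (H08.mul_self_of_orderOf o2) hz)
      obtain ⟨b, hb⟩ := isConj_iff.1 hz
      rw [← H21.pPart_conj, show b * (s * s') * b⁻¹ = b * s * b⁻¹ * (b * s' * b⁻¹) by group] at hb
      have o3 := (H08.orderOf_conj' b s).trans o1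
      have o4 := (H08.orderOf_conj' b s').trans o2
      have e1 := congrArg (H21.pPart 2) (H08.conj_mul_left (H08.mul_self_of_orderOf o3) (H08.mul_self_of_orderOf o4))
      have e2 := congrArg (H21.pPart 2) (H08.conj_mul_right (H08.mul_self_of_orderOf o3) (H08.mul_self_of_orderOf o4))
      rw [H21.pPart_conj, H21.pPart_inv, hb, inv_eq_of_mul_eq_one_left e0, mul_inv_eq_iff_eq_mul] at e1 e2
      obtain ⟨v, v', e3, e4, rfl⟩ := F.exists_mul_of_pair o3 o4 hy.1 hb e1 e2
      rcases hO v (hs.trans ((H08.isConj_conj b s).trans e3)) with rfl | rfl | rfl <;>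
        rcases hO v' (hs'.trans ((H08.isConj_conj b s').trans e4)) with e | e | e <;>
        simp only [e, h7, g8, g9, m1, m2, m3, mul_comm' (σ _) _, not_true, false_and, and_false] at hy
  · obtain ⟨u, hu⟩ := hint χ
    obtain ⟨v, hv⟩ := hint χ'
    obtain ⟨w, hw⟩ := hint η
    have h5 : ¬ p ∣ orderOf t := by rwa [ht, Nat.prime_dvd_prime_iff_eq hp.out Nat.prime_two]
    obtain ⟨y, hy, hy1⟩ := D.exists_ne_one
    have hy2 : (⟨y, hy⟩ : (P : Subgroup G)) ≠ 1 := fun e => hy1 (congrArg Subtype.val e)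
    refine ⟨u, v, w, hu, ?_, key t ⟨y, hy⟩ u v w hy2 hu hv ?_ fun s s' hs hs' hz => ?_⟩
    · have e := D.reg_rel hη h5
      rw [hS, hu, hv, hw, D.a_one] at e
      have : ((1 + a χ * u + a χ' * v + -δ * w : ℤ) : ℂ) = 0 := by
        simp only [H21.irrOne_apply] at e
        push_cast at e ⊢; linear_combination e
      exact_mod_cast this
    · rw [Finset.sum_congr rfl fun η' hη' => by rw [D.reg_eq hη' hη h5], ← Finset.sum_mul, hY _ hy2, hw, sq]
    · have e := congrArg Subtype.val (F.mul_self_of_pair h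
        (H08.mul_self_of_orderOf ((H08.orderOf_eq_of_isConj hs).symm.trans ht))
        (H08.mul_self_of_orderOf ((H08.orderOf_eq_of_isConj hs').symm.trans ht)) hz)
      refine hy1 (H21.eq_one_of_pow_of_not_dvd (H21.orderOf_pow_of_mem P.2 hy) ?_)
      rwa [H08.orderOf_eq_two_iff'.2 ⟨e, hy1⟩, Nat.prime_dvd_prime_iff_eq hp.out Nat.prime_two]

end FDesc

end H19
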