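import Mathlib
import Cfsg.Agent.H19.Sieve3
import Cfsg.Agent.H19.Frob3
import Cfsg.Agent.H19.Recog
import Cfsg.Agent.H19.ClsCount
import Cfsg.Agent.H07.Glb2
import Cfsg.Agent.H07.Det

/-!
Integer character values on a principal block of defect one (namespace H19).
* `natAbs_lt_deg`, `deg_dvd_index_mul`, `four_dvd_deg_sub`, `dvd_deg_sub_of_pow`, `blk_cong`, `sum_sq_list_le`
* `card_dvd_of_vanish`, `sum_nonneg_of_char` : restriction to a subgroup
* `PB.not_isConj_inv`, `PB.quad`, `PB.vals` with the decidable search `Sv.chkv`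
-/

set_option linter.unusedSectionVars false

open H05 Cfsg Classical Subgroup
open scoped ComplexConjugate

namespace H19

section values
variable {G : Type*} [Group G] [Finite G] {χ : IrrCharacter G} {g : G} {v : ℤ}

theorem natAbs_lt_deg [IsSimpleGroup G] (hG : ¬ IsMulCommutative G) (h1 : χ ≠ irrOne G) (hg : g ≠ 1)
    (hv : (χ : G → ℂ) g = v) : v.natAbs < charDegree (χ : G → ℂ) := by
  have h2 := χ.2.isCharacter.norm_le g
  have h3 : ‖(χ : G → ℂ) g‖ ≠ charDegree (χ : G → ℂ) := fun e => hg (by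
    simpa [charCenter_eq_bot_of_simple hG h1] using χ.2.isCharacter.mem_charCenter_of_norm_eq e)
  have h4 := lt_of_le_of_ne h2 h3
  rw [hv, Complex.norm_intCast, ← Int.cast_abs, ← Int.natCast_natAbs] at h4
  exact_mod_cast h4

theorem deg_dvd_index_mul (hv : (χ : G → ℂ) g = v) :
    (charDegree (χ : G → ℂ) : ℤ) ∣ (centralizer ({g} : Set G)).index * v :=
  int_dvd_of_isIntegral_div (by exact_mod_cast χ.2.charDegree_pos.ne') (by
    simpa [centralChar, hv, χ.2.charDegree_eq] using H20.isIntegral_centralChar χ.2 g)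

theorem dvd_deg_sub_of_pow {q k : ℕ} (hq : q.Prime) (hg : g ^ q ^ k = 1) (hv : (χ : G → ℂ) g = v) :
    (q : ℤ) ∣ charDegree (χ : G → ℂ) - v :=
  dvd_sub_comm.1 (H07.dvd_sub_of_pElt χ.2.isGeneralizedCharacter hq hg (Commute.one_right g) (by rwa [mul_one])
    (by simp [χ.2.charDegree_eq]))

theorem four_dvd_deg_sub [IsSimpleGroup G] (hG : ¬ IsMulCommutative G) (hg : g ^ 2 = 1) (hv : (χ : G → ℂ) g = v) :
    (4 : ℤ) ∣ charDegree (χ : G → ℂ) - v := by
  obtain ⟨ω, h1, h2⟩ := χ.2.isCharacter.exists_roots g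
  have h3 := H07.detHom_eq_prod χ.2.isCharacter g ω h2
  rw [hom_comm_eq_one_of_simple hG, Units.val_one] at h3
  have h4 : ∀ i, ω i = 1 ∨ ω i = -1 := fun i => sq_eq_one_iff.1 (by
    obtain ⟨k, hk⟩ := orderOf_dvd_of_pow_eq_one hg
    rw [hk, pow_mul, h1, one_pow])
  set s := Finset.univ.filter fun i => ω i = -1
  have h5 : ∏ i, ω i = (-1) ^ s.card := by
    rw [← Finset.prod_const, Finset.prod_filter]
    exact Finset.prod_congr rfl fun i _ => by rcases h4 i with h | h <;> norm_num [h]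
  have h6 : ∑ i, (1 - ω i) = 2 * s.card := by
    rw [Finset.card_filter, Nat.cast_sum, Finset.mul_sum]
    exact Finset.sum_congr rfl fun i _ => by rcases h4 i with h | h <;> norm_num [h]
  have h7 := h2 1
  simp only [pow_one, hv] at h7
  obtain ⟨k, hk⟩ : Even s.card := (neg_one_pow_eq_one_iff_even (by norm_num)).1 (h5 ▸ h3.symm)
  rw [Finset.sum_sub_distrib, ← h7, hk] at h6
  refine ⟨k, ?_⟩
  simp only [Finset.sum_const, Finset.card_univ, Fintype.card_fin, nsmul_eq_mul, mul_one] at h6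
  have : ((charDegree (χ : G → ℂ) - v : ℤ) : ℂ) = (4 * k : ℤ) := by push_cast at h6 ⊢; linear_combination h6
  exact_mod_cast this

theorem blk_cong {p : ℕ} {M : Ideal AlgInt} (hM : IsPModular p M) (h : χ ∈ principalBlock M G) (hv : (χ : G → ℂ) g = v) :
    (p : ℤ) ∣ (centralizer ({g} : Set G)).index * v / charDegree (χ : G → ℂ) - (centralizer ({g} : Set G)).index := by
  obtain ⟨m, hm⟩ := deg_dvd_index_mul hv
  have h0 : (charDegree (χ : G → ℂ) : ℤ) ≠ 0 := by exact_mod_cast χ.2.charDegree_pos.ne'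
  rw [hm, Int.mul_ediv_cancel_left _ h0, dvd_sub_comm, ← H21.ideal_intCast_iff hM]
  have h1 : ((centralizer ({g} : Set G)).index * v : ℂ) = charDegree (χ : G → ℂ) * m := by exact_mod_cast hm
  have h2 : (charDegree (χ : G → ℂ) : ℂ) ≠ 0 := by exact_mod_cast h0
  simpa [centralChar, hv, ← χ.2.charDegree_eq, h1, mul_div_cancel_left₀ _ h2] using h g

theorem sum_sq_list_le {L : List (IrrCharacter G)} (hL : L.Nodup) (g : G) :
    (L.map fun χ : IrrCharacter G => ‖(χ : G → ℂ) g‖ ^ 2).sum ≤ Nat.card (centralizer ({g} : Set G)) := by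
  rw [← sum_irr_norm_sq, ← List.sum_toFinset _ hL]
  exact Finset.sum_le_sum_of_subset_of_nonneg (Finset.subset_univ _) fun _ _ _ => by positivity

theorem card_dvd_of_vanish {θ : G → ℂ} (h : IsGeneralizedCharacter G θ) (Q : Subgroup G) {m : ℤ} (h1 : θ 1 = m)
    (h2 : ∀ u ∈ Q, u ≠ 1 → θ u = 0) : (Nat.card Q : ℤ) ∣ m := by
  have := Fintype.ofFinite Q
  obtain ⟨k, hk⟩ := (h.restrict Q).exists_classInner_eq_int isGeneralizedCharacter_one
  have h3 := card_mul_classInner (φ := fun u : Q => θ u) (ψ := 1)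
  rw [Finset.sum_eq_single 1 (fun u _ h => by simp [h2 u u.2 fun e => h (Subtype.ext e)]) (by simp)] at h3
  refine ⟨k, ?_⟩
  have : (m : ℂ) = Nat.card Q * k := by rw [← hk, ← h1]; simpa using h3.symm
  exact_mod_cast this

theorem sum_nonneg_of_char {θ : G → ℂ} (h : IsCharacter G θ) (Q : Subgroup G) {d m : ℤ} (h1 : θ 1 = d)
    (h2 : ∀ u ∈ Q, u ≠ 1 → θ u = m) : 0 ≤ d + (Nat.card Q - 1) * m := by
  have := Fintype.ofFinite Q
  obtain ⟨k, hk⟩ := (h.comp Q.subtype).exists_classInner_eq_nat isCharacter_one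
  have h3 := card_mul_classInner (φ := fun u : Q => θ u) (ψ := 1)
  rw [← Finset.add_sum_erase _ _ (Finset.mem_univ 1), Finset.sum_congr rfl (g := fun _ => (m : ℂ)) (fun u h => by
    simp [h2 u u.2 fun e => (Finset.mem_erase.1 h).1 (Subtype.ext e)])] at h3
  have h4 : ((d + (Nat.card Q - 1) * m : ℤ) : ℂ) = (Nat.card Q * k : ℕ) := by
    have h5 : 1 ≤ Fintype.card Q := Fintype.card_pos
    rw [Nat.cast_mul, ← hk]
    simp only [Finset.sum_const, Finset.card_erase_of_mem (Finset.mem_univ _), Finset.card_univ, nsmul_eq_mul,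
      Nat.cast_sub h5, ← Nat.card_eq_fintype_card] at h3
    simpa [h1, Nat.cast_sub h5] using h3.symm
  have : d + (Nat.card Q - 1) * m = (Nat.card Q * k : ℕ) := by exact_mod_cast h4
  rw [this]; positivity

end values

namespace Sv

/-- Candidates for the value of a character of degree `d`. -/
def cand (p i c m d : ℕ) : List ℤ :=
  ((List.range (2 * min d (c.sqrt + 1))).map fun j : ℕ => (j : ℤ) - min d (c.sqrt + 1)).filter fun v =>
    (d - v) % m == 0 && (i * v) % d == 0 && (i * v / d - i) % p == 0 && decide (v.natAbs < d)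

theorem mem_cand {p i c m d : ℕ} {v : ℤ} (h1 : v.natAbs < d) (h2 : v.natAbs ^ 2 ≤ c) (h3 : (m : ℤ) ∣ d - v)
    (h4 : (d : ℤ) ∣ i * v) (h5 : (p : ℤ) ∣ i * v / d - i) : v ∈ cand p i c m d := by
  have := Nat.le_sqrt'.2 h2
  refine List.mem_filter.2 ⟨List.mem_map.2 ⟨(v + min d (c.sqrt + 1)).toNat, List.mem_range.2 (by omega), by omega⟩, ?_⟩
  simp [Int.emod_eq_zero_of_dvd h3, Int.emod_eq_zero_of_dvd h4, Int.emod_eq_zero_of_dvd h5, h1]

/-- Search through all value lists with bounded sum of squares. -/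
def vs (fin : List ℤ → ℕ → Bool) : List (List ℤ) → ℕ → List ℤ → Bool
  | [], b, acc => fin acc.reverse b
  | C :: E, b, acc => C.all fun v => decide (b < v.natAbs ^ 2) || vs fin E (b - v.natAbs ^ 2) (v :: acc)

theorem vs_sound {fin : List ℤ → ℕ → Bool} {E : List (List ℤ)} {b : ℕ} {acc V : List ℤ} (h : vs fin E b acc = true)
    (h1 : List.Forall₂ (· ∈ ·) V E) (h2 : (V.map fun v => v.natAbs ^ 2).sum ≤ b) :
    fin (acc.reverse ++ V) (b - (V.map fun v => v.natAbs ^ 2).sum) = true := by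
  induction h1 generalizing b acc with
  | nil => simpa [vs] using h
  | cons h3 _ ih =>
    rw [List.map_cons, List.sum_cons] at h2 ⊢
    have := List.all_eq_true.1 h _ h3
    rw [Bool.or_eq_true, decide_eq_true_eq] at this
    simpa [Nat.sub_sub] using ih (this.resolve_left (by omega)) (by omega)

/-- The final test on a list of values. -/
def finv (n p t m : ℕ) (quad : Bool) (y : ℤ) (l : List ℤ) (out : List (ℕ × ℤ × List ℤ)) (c : ℕ) (V : List ℤ) (b : ℕ) :
    Bool :=
  let w := -y.sign * (1 + (List.zipWith (fun d v : ℤ => d.sign * v) l V).sum)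
  decide (b < t * w.natAbs ^ 2) || (quad && n + y.sign * (n / y.natAbs : ℕ) * w ^ 2 +
    (List.zipWith (fun d v : ℤ => d.sign * (n / d.natAbs : ℕ) * v ^ 2) l V).sum != (0 : ℤ)) ||
    !(cand p (n / c) c m y.natAbs).contains w || out.contains (c, w, V)

/-- All value lists for centraliser orders `Q * j` dividing `N` are in `out`. -/
def chkv (n p t m : ℕ) (quad : Bool) (y : ℤ) (l : List ℤ) (N Q : ℕ) (out : List (ℕ × ℤ × List ℤ)) : Bool :=
  (List.range' 1 (N / Q)).all fun j => N % (Q * j) != 0 ||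
    vs (finv n p t m quad y l out (Q * j)) (l.map fun d => cand p (n / (Q * j)) (Q * j) m d.natAbs) (Q * j - 1) []

end Sv

namespace PB

variable {G : Type*} [Group G] [Finite G] {p r e : ℕ} {X : List (IrrCharacter G × ℤ)} {Y : List (IrrCharacter G)} {y : ℤ}
  (A : PB G p r e X Y y) (hp : p.Prime)
include A hp

theorem sign_mul_sign : y.sign * y.sign = 1 := by
  obtain ⟨χ, -, h⟩ := A.exists_deg hp.one_lt List.mem_cons_self
  have := χ.2.charDegree_pos
  rcases lt_trichotomy y 0 with h | rfl | h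
  exacts [by simp [Int.sign_eq_neg_one_of_neg h], by simp [h] at this, by simp [Int.sign_eq_one_of_pos h]]

theorem not_isConj_inv (h2 : ¬ p ^ 2 ∣ Nat.card G) (he : Odd e) (h3 : p ≠ 2) {x : G} (hx : orderOf x = p) :
    ¬ IsConj x x⁻¹ := fun h => by
  have := Fact.mk hp
  obtain ⟨g, hg⟩ := isConj_iff.1 h
  obtain ⟨P, hP⟩ := (isPGroup_zpowers_of_orderOf hx).exists_le_sylow
  have h4 : Nat.card (P : Subgroup G) = p := by
    obtain ⟨_ | _ | k, hk⟩ := P.2.exists_card_eq
    · have := card_dvd_of_le hP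
      rw [Nat.card_zpowers, hx, hk] at this
      exact absurd (Nat.dvd_one.1 this) hp.one_lt.ne'
    · simpa using hk
    · exact absurd ((pow_dvd_pow p (by omega)).trans (hk ▸ card_subgroup_dvd_card _)) h2
  have h5 : zpowers x = P := eq_of_le_of_card_ge hP (by rw [h4, Nat.card_zpowers, hx])
  have h6 : x ≠ 1 := by rintro rfl; exact hp.one_lt.ne (orderOf_one.symm.trans hx)
  have h7 : g ∈ normalizer ((P : Subgroup G) : Set G) := by
    rw [← h5, mem_normalizer_iff_map_conj_eq, MonoidHom.map_zpowers]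
    simpa [hg] using zpowers_inv (g := x)
  have h8 := A.cent x hx
  have h9 := card_sylow_mul_card_normalizer P
  have h10 := H01.card_mul_relIndex (centralizer_le_normalizer ((P : Subgroup G) : Set G))
  have h11 : centralizer {x} = centralizer ((P : Subgroup G) : Set G) := centralizer_eq_of_sylow h4 (hP (mem_zpowers x)) h6
  have h12 : (centralizer ((P : Subgroup G) : Set G)).relIndex (normalizer ((P : Subgroup G) : Set G)) = e := by
    rw [A.syl] at h9
    rw [h11, ← h9, mul_comm r, ← mul_assoc] at h8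
    have h0 : 0 < r := A.syl ▸ Nat.card_pos
    exact Nat.eq_of_mul_eq_mul_left Nat.card_pos (h10.trans (Nat.eq_of_mul_eq_mul_right h0 h8).symm)
  have h13 : orderOf ((P : Subgroup G).normalizerMonoidHom ⟨g, h7⟩) = 2 := by
    refine orderOf_eq_prime ?_ fun h => ?_
    · rw [← map_pow, ← MonoidHom.mem_ker, normalizerMonoidHom_ker, mem_subgroupOf, ← h11, mem_centralizer_singleton_iff]
      have : g * x⁻¹ * g⁻¹ = x := by rw [← conj_inv, hg, inv_inv]
      calc g ^ 2 * x = g * (g * x * g⁻¹) * g⁻¹ * g ^ 2 := by simp [pow_two, mul_assoc]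
        _ = _ := by rw [hg, this]; rfl
    · rw [← MonoidHom.mem_ker, normalizerMonoidHom_ker, mem_subgroupOf, ← h11, mem_centralizer_singleton_iff] at h
      rw [show g * x = x * g from h, mul_inv_cancel_right, eq_inv_iff_mul_eq_one, ← pow_two] at hg
      exact h3 ((Nat.prime_dvd_prime_iff_eq hp Nat.prime_two).1 (hx ▸ orderOf_dvd_of_pow_eq_one hg))
  have h14 := orderOf_dvd_natCard (s := (P : Subgroup G).normalizerMonoidHom.range) ⟨⟨g, h7⟩, rfl⟩
  rw [h13, ← index_ker, normalizerMonoidHom_ker] at h14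
  exact Nat.not_even_iff_odd.2 he (even_iff_two_dvd.2 (h12 ▸ h14))

theorem quad {x t : G} (hx : orderOf x = p) (h1 : ¬ IsConj x x⁻¹) (ht : t ^ 2 = 1) {w : ℂ} (hw : ∀ ψ ∈ Y, (ψ : G → ℂ) t = w) :
    1 + y.sign * (w ^ 2 / y.natAbs) + (X.map fun z => z.2.sign * ((z.1 : G → ℂ) t ^ 2 / z.2.natAbs)).sum = 0 := by
  have := Fintype.ofFinite G
  have := Fact.mk hp
  obtain ⟨M, hM⟩ := H21.exists_isPModular hp
  have h2 := pair_zero hM t t x fun s s' hs hs' h => h1 (by
    have e : ∀ s, IsConj t s → s * s = 1 := fun s h => by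
      obtain ⟨c, rfl⟩ := isConj_iff.1 h
      rw [← pow_two, conj_pow, ht]; simp
    rw [H21.pPart_of_pow (x := x) ⟨1, by rw [pow_one, hx]⟩] at h
    obtain ⟨k, hk⟩ := H21.pPart_mem_zpowers p (s * s')
    have e1 : s * (s * s') * s⁻¹ = (s * s')⁻¹ := by
      rw [← mul_assoc, e s hs, one_mul, mul_inv_rev, inv_eq_of_mul_eq_one_right (e s' hs')]
    have e2 : IsConj (H21.pPart p (s * s')) (H21.pPart p (s * s'))⁻¹ :=
      isConj_iff.2 ⟨s, by rw [← hk]; simp only [← conj_zpow, e1, inv_zpow]⟩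
    obtain ⟨c, hc⟩ := isConj_iff.1 h
    exact h.symm.trans (e2.trans (isConj_iff.2 ⟨c, by rw [← conj_inv, hc]⟩)))
  rw [show (Finset.univ.filter fun χ => χ ∈ principalBlock M G) = (irrOne G :: (Y ++ X.map Prod.fst)).toFinset from
    Finset.ext fun χ => by rw [Finset.mem_filter, List.mem_toFinset, A.blk M hM]; simp, List.sum_toFinset _ A.nodup,
    List.map_cons, List.sum_cons, List.map_append, List.sum_append, List.map_map,
    List.map_congr_left (l := X) (g := fun z => z.2.sign * ((z.1 : G → ℂ) t ^ 2 / z.2.natAbs)) fun z hz => by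
      simp [A.valX z hz x hx.symm.dvd, ← A.degX z hz, z.1.2.charDegree_eq, pow_two],
    List.map_congr_left (l := Y) (g := fun ψ => conj ((ψ : G → ℂ) x) * (w ^ 2 / y.natAbs)) fun ψ h => by
      simp [hw ψ h, ← A.degY ψ h, ψ.2.charDegree_eq, pow_two], List.sum_map_mul_right] at h2
  have h3 := congrArg conj (A.valY x hx.symm.dvd)
  rw [map_list_sum, List.map_map, map_intCast] at h3
  rw [show (fun ψ : IrrCharacter G => conj ((ψ : G → ℂ) x)) = conj ∘ fun ψ : IrrCharacter G => (ψ : G → ℂ) x from rfl, h3] at h2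
  simpa [add_assoc] using h2

theorem vals [IsSimpleGroup G] (hG : ¬ IsMulCommutative G) {l : List ℤ} (hl : X.map Prod.snd = l) {g : G} (hg : g ≠ 1)
    (h1 : ¬ p ∣ orderOf g) (h2 : ∀ z ∈ X, ∃ v : ℤ, (z.1 : G → ℂ) g = v) {m : ℕ}
    (h3 : ∀ (χ : IrrCharacter G) (v : ℤ), (χ : G → ℂ) g = v → (m : ℤ) ∣ charDegree (χ : G → ℂ) - v) {quad : Bool}
    (h4 : quad = true → g ^ 2 = 1 ∧ ∃ x : G, orderOf x = p ∧ ¬ IsConj x x⁻¹) {n N Q : ℕ} (hn : Nat.card G = n)
    (hN : Nat.card (centralizer ({g} : Set G)) ∣ N) (h0 : N ≠ 0) (hQ : Q ∣ Nat.card (centralizer ({g} : Set G)))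
    {out : List (ℕ × ℤ × List ℤ)} (h : Sv.chkv n p ((p - 1) / e) m quad y l N Q out = true) :
    ∃ o ∈ out, Nat.card (centralizer ({g} : Set G)) = o.1 ∧ (∀ ψ ∈ Y, (ψ : G → ℂ) g = o.2.1) ∧
      X.map (fun z => (z.1 : G → ℂ) g) = o.2.2.map (↑) := by
  obtain ⟨M, hM⟩ := H21.exists_isPModular hp
  choose! f hf using h2
  obtain ⟨j, hj⟩ := hQ
  have h5 : 0 < Q * j := hj ▸ Nat.card_pos
  have h6 := List.all_eq_true.1 h j (List.mem_range'_1.2 ⟨Nat.pos_of_mul_pos_left h5, by
    have := (Nat.le_div_iff_mul_le (Nat.pos_of_mul_pos_right h5)).2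
      (mul_comm Q j ▸ hj ▸ Nat.le_of_dvd (Nat.pos_of_ne_zero h0) hN)
    omega⟩)
  rw [← hj, Nat.mod_eq_zero_of_dvd hN] at h6
  set c := Nat.card (centralizer ({g} : Set G))
  have h7 : n / c = (centralizer ({g} : Set G)).index := by rw [← hn, ← index_mul_card, Nat.mul_div_cancel _ Nat.card_pos]
  set w := -y.sign * (1 + (X.map fun z => z.2.sign * f z).sum) with hw
  have h8 : ∀ ψ ∈ Y, (ψ : G → ℂ) g = w := fun ψ h => by
    have e1 := A.reg ψ h g h1
    have e2 : (y.sign * y.sign : ℂ) = 1 := by exact_mod_cast A.sign_mul_sign hp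
    rw [List.map_congr_left (g := fun z => ((z.2.sign * f z : ℤ) : ℂ)) fun z hz => by simp [hf z hz]] at e1
    rw [hw]; push_cast [List.map_map, Function.comp_def] at e1 ⊢
    linear_combination y.sign * e1 - (ψ : G → ℂ) g * e2
  have h9 : Y.length = (p - 1) / e := by
    rw [← A.lenY, Nat.mul_div_cancel _ (Nat.pos_of_mul_pos_left (A.lenY ▸ Nat.sub_pos_of_lt hp.one_lt))]
  have h10 := sum_sq_list_le A.nodup g
  rw [List.map_cons, List.sum_cons, List.map_append, List.sum_append, List.map_map,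
    List.map_congr_left (l := X) (g := fun z => (((f z).natAbs ^ 2 : ℕ) : ℝ)) fun z hz => by simp [hf z hz],
    List.map_congr_left (l := Y) (g := fun _ => ((w.natAbs ^ 2 : ℕ) : ℝ)) fun ψ h => by simp [h8 ψ h]] at h10
  have h11 : 1 + ((p - 1) / e * w.natAbs ^ 2 + ((X.map f).map fun v => v.natAbs ^ 2).sum) ≤ c := by
    rw [← h9, ← @Nat.cast_le ℝ]
    simpa [List.map_map, Function.comp_def] using h10
  have key : ∀ χ ∈ Y ++ X.map Prod.fst, ∀ v : ℤ, (χ : G → ℂ) g = v → v.natAbs ^ 2 ≤ c →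
      v ∈ Sv.cand p (n / c) c m (charDegree (χ : G → ℂ)) := fun χ h v hv h' =>
    Sv.mem_cand (natAbs_lt_deg hG (fun e => (List.nodup_cons.1 A.nodup).1 (e ▸ h)) hg hv) h' (h3 χ v hv)
      (h7 ▸ deg_dvd_index_mul hv) (h7 ▸ blk_cong hM ((A.blk M hM χ).2 (List.mem_cons_of_mem _ h)) hv)
  have h12 := Sv.vs_sound (V := X.map f) (by simpa using h6) (by
    rw [← hl, List.map_map, List.forall₂_map_left_iff, List.forall₂_map_right_iff, List.forall₂_same]
    exact fun z hz => by
      simpa [A.degX z hz] using key _ (List.mem_append_right _ (List.mem_map_of_mem hz)) _ (hf z hz) (le_trans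
        (List.single_le_sum (l := (X.map f).map fun v => v.natAbs ^ 2) (by simp) _
          (List.mem_map_of_mem (List.mem_map_of_mem hz))) (by omega))) (by omega)
  obtain ⟨ψ, hψ⟩ := List.exists_mem_of_length_pos (Nat.pos_of_mul_pos_right (A.lenY ▸ Nat.sub_pos_of_lt hp.one_lt))
  have h13 := key ψ (List.mem_append_left _ hψ) w (h8 ψ hψ) (by
    have := Nat.le_mul_of_pos_left (w.natAbs ^ 2) (h9 ▸ List.length_pos_of_mem hψ); omega)
  rw [A.degY ψ hψ] at h13
  simp only [Sv.finv, List.reverse_nil, List.nil_append, ← hl, List.zipWith_map, List.zipWith_self, ← hw, Bool.or_eq_true,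
    decide_eq_true_eq, Bool.and_eq_true, bne_iff_ne, Bool.not_eq_true', List.contains_eq_mem, decide_eq_false_iff_not] at h12
  rcases h12 with ((h12 | ⟨e1, e2⟩) | h12) | h12
  · omega
  · obtain ⟨e3, x, e4, e5⟩ := h4 e1
    have e6 := A.quad hp e4 e5 e3 h8
    have e7 : ∀ (χ : IrrCharacter G) (d : ℕ), charDegree (χ : G → ℂ) = d → ((n / d : ℕ) : ℂ) = n / d := fun χ d h =>
      Nat.cast_div (hn ▸ h ▸ χ.2.charDegree_dvd_card) (by rw [← h]; exact_mod_cast χ.2.charDegree_pos.ne')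
    refine absurd (Int.cast_injective (α := ℂ) ?_) e2
    rw [List.map_congr_left (g := fun z => (n : ℂ)⁻¹ * ((z.2.sign * (n / z.2.natAbs : ℕ) * f z ^ 2 : ℤ) : ℂ)) fun z hz => by
      have : (n : ℂ) ≠ 0 := hn ▸ card_ne_zero_complex
      rw [Int.cast_mul, Int.cast_mul, Int.cast_natCast, e7 _ _ (A.degX z hz), hf z hz]
      push_cast; field_simp, List.sum_map_mul_left] at e6
    have : (n : ℂ) ≠ 0 := hn ▸ card_ne_zero_complex
    rw [Int.cast_add, Int.cast_add, Int.cast_list_sum, List.map_map, Int.cast_mul, Int.cast_mul, Int.cast_natCast,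
      Int.cast_natCast, e7 _ _ (A.degY ψ hψ), Int.cast_pow, Int.cast_zero, Function.comp_def]
    linear_combination (exp := 1) n * e6 - (X.map fun z => ((z.2.sign * (n / z.2.natAbs : ℕ) * f z ^ 2 : ℤ) : ℂ)).sum *
      mul_inv_cancel₀ this
  · exact absurd h13 h12
  · exact ⟨_, h12, rfl, h8, by rw [List.map_map]; exact List.map_congr_left hf⟩

end PB

end H19
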