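import Mathlib
import Cfsg.Agent.H05.FrobeniusSchur
import Cfsg.Agent.H19.Basic

/-!
A real irreducible character with an invariant cubic form and irreducible exterior square comes from a doubly transitive
action (namespace H19).
* `avgE`, `form_eq_zero`, `form_exists`, `form_prop` : invariant linear forms from traces
* `exists_index_of_algebra` : an invariant associative structure on `ℂ × V`
* `exists_index_of_cubic` : a subgroup of index `χ(1) + 1`
-/

set_option linter.unusedSectionVars false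

open H05 Cfsg Module LinearMap
open scoped TensorProduct IsMulCommutative

namespace H19

variable {G : Type*} [Group G] [Fintype G]

section avg
variable {W : Type*} [AddCommGroup W] [Module ℂ W] [FiniteDimensional ℂ W] (σ : Representation ℂ G W) (A : End ℂ W)

/-- The projection onto the invariants in the range of `A`. -/
noncomputable def avgE : End ℂ W := (Fintype.card G : ℂ)⁻¹ • ∑ g, σ g * A

theorem comp_avgE {U : Type*} [AddCommGroup U] [Module ℂ U] {f : W →ₗ[ℂ] U} (hf : ∀ g, f ∘ₗ σ g = f) :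
    f ∘ₗ avgE σ A = f ∘ₗ A := by
  ext w
  have : ∀ g x, f (σ g x) = f x := fun g x => congr($(hf g) x)
  simp [avgE, this, ← Nat.cast_smul_eq_nsmul ℂ, smul_smul]

variable {A} (hA : A * A = A) (hc : ∀ g, A * σ g = σ g * A)
include hA hc

theorem avgE_mul (g : G) : avgE σ A ∘ₗ σ g = avgE σ A := by
  change avgE σ A * σ g = _
  rw [avgE, smul_mul_assoc, Finset.sum_mul]
  congr 1
  exact Fintype.sum_equiv (Equiv.mulRight g) _ _ fun h => by simp [mul_assoc, hc]

theorem avgE_idem : IsIdempotentElem (avgE σ A) := by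
  refine (comp_avgE σ A (avgE_mul σ hA hc)).trans ?_
  change avgE σ A * A = _
  simp [avgE, Finset.sum_mul, mul_assoc, hA]

theorem form_eq_zero (h : ∑ g, trace ℂ W (σ g * A) = 0) {f : W →ₗ[ℂ] ℂ} (hf : ∀ g, f ∘ₗ σ g = f) : f ∘ₗ A = 0 := by
  rw [← comp_avgE σ A hf, (avgE_idem σ hA hc).eq_zero_of_trace_eq_zero (by simp [avgE, h]), comp_zero]

theorem form_prop (h : ∑ g, trace ℂ W (σ g * A) = Fintype.card G) {f f' : W →ₗ[ℂ] ℂ} (hf : ∀ g, f ∘ₗ σ g = f)
    (hf' : ∀ g, f' ∘ₗ σ g = f') (h0 : f' ∘ₗ A ≠ 0) : ∃ α : ℂ, f ∘ₗ A = α • f' ∘ₗ A := by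
  have h1 := (avgE_idem σ hA hc).isProj_range.trace
  rw [show trace ℂ W (avgE σ A) = 1 by simp [avgE, h]] at h1
  obtain ⟨e, -, h2⟩ := finrank_eq_one_iff'.1 (by exact_mod_cast h1.symm : finrank ℂ (range (avgE σ A)) = 1)
  rw [← comp_avgE σ A hf, ← comp_avgE σ A hf'] at *
  have h3 : ∀ w, ∃ c : ℂ, avgE σ A w = c • e.1 := fun w =>
    (h2 ⟨_, mem_range_self _ w⟩).imp fun c h => (congrArg Subtype.val h).symm
  have h4 : f' e ≠ 0 := fun h => h0 (by ext w; obtain ⟨c, h5⟩ := h3 w; simp [h5, h])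
  refine ⟨f e / f' e, ?_⟩
  ext w
  obtain ⟨c, h5⟩ := h3 w
  simp [h5]; field_simp

omit hA hc in
theorem form_exists (h : ∑ g, trace ℂ W (σ g) ≠ 0) : ∃ f : W →ₗ[ℂ] ℂ, f ≠ 0 ∧ ∀ g, f ∘ₗ σ g = f := by
  have h1 : avgE σ 1 ≠ 0 := fun e => h (by simpa [avgE] using congrArg (trace ℂ W) e)
  obtain ⟨w, h2⟩ := DFunLike.ne_iff.1 h1
  obtain ⟨f, h3⟩ := not_forall.1 (mt (forall_dual_apply_eq_zero_iff ℂ _).1 h2)
  exact ⟨f ∘ₗ avgE σ 1, fun e => h3 congr($e w), fun g => by
    rw [comp_assoc, avgE_mul σ (by simp) (by simp)]⟩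

end avg

variable {V : Type*} [AddCommGroup V] [Module ℂ V] [FiniteDimensional ℂ V] (ρ : Representation ℂ G V)

theorem eq_bot_or_top_of_irr [ρ.IsIrreducible] (U : Submodule ℂ V) (h : ∀ g, ∀ v ∈ U, ρ g v ∈ U) : U = ⊥ ∨ U = ⊤ :=
  (eq_bot_or_eq_top (⟨U, fun g _ hv => h g _ hv⟩ : Subrepresentation ρ)).imp (congrArg Subrepresentation.toSubmodule)
    (congrArg Subrepresentation.toSubmodule)

theorem exists_hom_of_comm [Nontrivial V] {B : V →ₗ[ℂ] V →ₗ[ℂ] ℂ} {m : V →ₗ[ℂ] V →ₗ[ℂ] V} (hB : B ≠ 0)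
    (hm : Submodule.span ℂ {x | ∃ u w, m u w = x} = ⊤) {A : Type*} [CommRing A] [Algebra ℂ A] [Module.Finite ℂ A]
    {M : V →ₗ[ℂ] A} (h1 : ∀ u, M u = 0 → u = 0) {α : ℂ} (h4 : ∀ u w, M u * M w = (α * B u w) • 1 + M (m u w)) :
    ∃ f : V →ₗ[ℂ] ℂ, f ≠ 0 ∧ ∀ u w, f u * f w = α * B u w + f (m u w) := by
  obtain ⟨x, hx⟩ := exists_ne (0 : V)
  by_cases h5 : ∀ u, IsNilpotent (M u)
  · have : Nontrivial A := ⟨M x, 0, mt (h1 x) hx⟩
    obtain ⟨u, w, h7⟩ : ∃ u w, B u w ≠ 0 := by simpa [LinearMap.ext_iff] using hB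
    have h8 : IsNilpotent (algebraMap ℂ A (α * B u w)) := by
      rw [Algebra.algebraMap_eq_smul_one, ← sub_eq_iff_eq_add.2 (h4 u w)]
      exact (Commute.all _ _).isNilpotent_sub ((Commute.all _ _).isNilpotent_mul_left (h5 w)) (h5 _)
    obtain rfl : α = 0 := by simpa [h7] using ((IsNilpotent.map_iff (algebraMap ℂ A).injective).1 h8).eq_zero
    have := IsNoetherianRing.of_finite ℂ A
    obtain ⟨k, hk⟩ := IsNoetherianRing.isNilpotent_nilradical A
    have h9 : ∀ j x, M x ∈ nilradical A ^ j := fun j => by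
      induction j with
      | zero => simp
      | succ j ih =>
        intro x
        refine Submodule.span_induction (p := fun x _ => M x ∈ _) ?_ (by simp) (fun x y _ _ a b => by
          rw [map_add]; exact add_mem a b) (fun c x _ a => by rw [map_smul]; exact Submodule.smul_of_tower_mem _ c a)
          (hm ▸ Submodule.mem_top : x ∈ _)
        rintro _ ⟨u, w, rfl⟩
        have := h4 u w
        rw [zero_mul, zero_smul, zero_add] at this
        rw [← this, pow_succ]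
        exact Ideal.mul_mem_mul (ih u) (h5 w)
    exact absurd (h1 x (by simpa [hk] using h9 k x)) hx
  · obtain ⟨u, h6⟩ := not_forall.1 h5
    obtain ⟨J, hJ, h7⟩ : ∃ J : Ideal A, J.IsPrime ∧ M u ∉ J := by simpa [nilpotent_iff_mem_prime] using h6
    let e := AlgEquiv.ofBijective (Algebra.ofId ℂ (A ⧸ J)) IsAlgClosed.algebraMap_bijective_of_isIntegral
    let φ := e.symm.toAlgHom.comp (Ideal.Quotient.mkₐ ℂ J)
    refine ⟨φ.toLinearMap ∘ₗ M, fun h => h7 (Ideal.Quotient.eq_zero_iff_mem.1 (e.symm.injective ?_)), fun u w => ?_⟩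
    · rw [map_zero]; exact congr($h u)
    · change φ _ * φ _ = _ + φ _
      rw [← map_mul, h4, map_add, map_smul, map_one, smul_eq_mul, mul_one]

theorem exists_hom_of_algebra [Nontrivial V] {B : V →ₗ[ℂ] V →ₗ[ℂ] ℂ} {m : V →ₗ[ℂ] V →ₗ[ℂ] V} (hB : B ≠ 0)
    (hm : Submodule.span ℂ {x | ∃ u w, m u w = x} = ⊤) {M : V →ₗ[ℂ] End ℂ (ℂ × V)}
    (h1 : ∀ u, M u (1, 0) = (0, u)) (h2 : ∀ u w, M u * M w = M w * M u) {α : ℂ}
    (h3 : ∀ u w, M u * M w = (α * B u w) • 1 + M (m u w)) :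
    ∃ f : V →ₗ[ℂ] ℂ, f ≠ 0 ∧ ∀ u w, f u * f w = α * B u w + f (m u w) := by
  have := Algebra.isMulCommutative_adjoin ℂ (s := Set.range M) (by rintro _ ⟨u, rfl⟩ _ ⟨w, rfl⟩; exact h2 u w)
  have : Module.Finite ℂ (Algebra.adjoin ℂ (Set.range M)) :=
    .of_injective (Algebra.adjoin ℂ (Set.range M)).val.toLinearMap Subtype.val_injective
  exact exists_hom_of_comm hB hm (A := Algebra.adjoin ℂ (Set.range M))
    (M := M.codRestrict (Subalgebra.toSubmodule (Algebra.adjoin ℂ (Set.range M))) fun u =>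
      Algebra.subset_adjoin (Set.mem_range_self u))
    (fun u e => (congrArg Prod.snd (h1 u)).symm.trans (congrArg (fun s => (s.1 (1, 0)).2) e)) fun u w => Subtype.ext (h3 u w)

theorem exists_index_of_algebra [ρ.IsIrreducible] (hn : 2 ≤ finrank ℂ V) {B : V →ₗ[ℂ] V →ₗ[ℂ] ℂ} {m : V →ₗ[ℂ] V →ₗ[ℂ] V}
    (hB : B ≠ 0) (hm : m ≠ 0) (iB : ∀ g u w, B (ρ g u) (ρ g w) = B u w) (im : ∀ g u w, m (ρ g u) (ρ g w) = ρ g (m u w))
    (s0 : ∀ u w, B u w = B w u) (s1 : ∀ u w, m u w = m w u) (s2 : ∀ u w y, B u (m w y) = B w (m u y)) {α : ℂ}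
    (h : ∀ u w y, (α * B w y) • u + m u (m w y) = (α * B u y) • w + m w (m u y)) :
    ∃ M : Subgroup G, M.index = finrank ℂ V + 1 := by
  classical
  have : Nontrivial V := finrank_pos_iff.1 (by omega : 0 < finrank ℂ V)
  let M : V →ₗ[ℂ] End ℂ (ℂ × V) := LinearMap.mk₂ ℂ (fun u x => (α * B u x.2, x.1 • u + m u x.2))
    (fun _ _ _ => by ext <;> simp [mul_add, add_add_add_comm]) (fun c _ x => by ext <;> simp [mul_left_comm, smul_comm c x.1])
    (fun _ _ _ => by ext <;> simp [mul_add, add_smul, add_add_add_comm]) (fun _ _ _ => by ext <;> simp [mul_left_comm, mul_smul])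
  have hM : ∀ u x, M u x = (α * B u x.2, x.1 • u + m u x.2) := fun _ _ => rfl
  obtain ⟨f, f0, hf⟩ := exists_hom_of_algebra (m := m) hB (M := M) (α := α) ((eq_bot_or_top_of_irr ρ _ fun g v hv =>
      Submodule.span_induction (p := fun x _ => ρ g x ∈ _) (by
        rintro _ ⟨u, w, rfl⟩; exact Submodule.subset_span ⟨_, _, im g u w⟩) (by simp) (fun x y _ _ a b => by
          rw [map_add]; exact add_mem a b) (fun c x _ a => by rw [map_smul]; exact Submodule.smul_mem _ c a) hv).resolve_left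
      fun e => hm (by ext u w; exact (Submodule.span_eq_bot.1 e) _ ⟨u, w, rfl⟩)) (fun u => by simp [hM])
    (fun u w => LinearMap.ext fun x => by
      refine Prod.ext ?_ ?_
      · simp [hM, s2 u w, s0 u w]
      · simp only [End.mul_apply, hM, map_add, map_smul, s1 u w]
        linear_combination (norm := module) h u w x.2)
    (fun u w => LinearMap.ext fun x => by
      refine Prod.ext ?_ ?_
      · simp [hM, s0 (m u w), s2 x.2 u w, s1 x.2]; ring
      · have := h u x.2 w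
        rw [s0 x.2, s1 x.2 w, s1 x.2] at this
        simp only [End.mul_apply, hM, map_add, map_smul, LinearMap.add_apply, LinearMap.smul_apply, End.one_apply,
          Prod.snd_add, Prod.smul_snd]
        linear_combination (norm := module) this)
  letI : MulAction G (Dual ℂ V) := MulAction.compHom _ ρ.dual
  have ha : ∀ (g : G) (φ : Dual ℂ V) u, (g • φ) u = φ (ρ g⁻¹ u) := fun _ _ _ => rfl
  have : Finite (MulAction.orbit G f) := Set.finite_range _
  have := Fintype.ofFinite (MulAction.orbit G f)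
  refine ⟨MulAction.stabilizer G f, ?_⟩
  rw [← card_orbit_eq_index, Nat.card_eq_fintype_card]
  refine le_antisymm ?_ ?_
  · let F : MulAction.orbit G f → Dual ℂ (ℂ × V) := fun φ => (fst ℂ ℂ V) + φ.1 ∘ₗ snd ℂ ℂ V
    let T : Dual ℂ (ℂ × V) →ₗ[ℂ] FreeMonoid V → ℂ := LinearMap.pi fun l => Dual.eval ℂ _ (FreeMonoid.lift M l (1, 0))
    have h1 : T ∘ F = fun φ : MulAction.orbit G f => ⇑(FreeMonoid.lift φ.1 : FreeMonoid V →* ℂ) := by
      ext ⟨_, g, rfl⟩ l
      induction l using FreeMonoid.inductionOn' with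
      | one => simp [T, F]
      | of_mul u l ih =>
        have := hf (ρ g⁻¹ u) (ρ g⁻¹ (FreeMonoid.lift M l (1, 0)).2)
        rw [iB, im] at this
        simp [T, F, hM, ha] at ih ⊢
        rw [← ih]; linear_combination -this
    have h2 : LinearIndependent ℂ F := LinearIndependent.of_comp T (h1 ▸ (linearIndependent_monoidHom (FreeMonoid V) ℂ).comp
      (fun φ : MulAction.orbit G f => (FreeMonoid.lift φ.1 : FreeMonoid V →* ℂ)) fun a b e =>
        Subtype.ext (DFunLike.coe_injective (FreeMonoid.lift.injective e)))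
    simpa [add_comm] using h2.fintype_card_le_finrank
  · let T : V →ₗ[ℂ] MulAction.orbit G f → ℂ := LinearMap.pi fun φ => φ.1
    have h1 : ker T = ⊥ := (eq_bot_or_top_of_irr ρ _ fun g v hv => by
      ext ⟨_, k, rfl⟩
      simpa [T, ha] using congrFun hv ⟨_, g⁻¹ * k, rfl⟩).resolve_right fun e => f0 (by
        ext v; exact congrFun (e ▸ Submodule.mem_top : v ∈ ker T) ⟨f, MulAction.mem_orbit_self f⟩)
    let s : (MulAction.orbit G f → ℂ) →ₗ[ℂ] ℂ := ∑ φ, proj φ
    have h2 : ker (s ∘ₗ T) = ⊤ := (eq_bot_or_top_of_irr ρ _ fun g v hv => by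
      refine Eq.trans ?_ hv
      simp only [s, T, comp_apply, LinearMap.sum_apply, proj_apply, pi_apply]
      exact Fintype.sum_equiv (MulAction.toPerm g⁻¹) _ _ fun φ => by simp [ha]).resolve_left fun e => by
        have := finrank_le_finrank_of_injective (ker_eq_bot.1 e); simp at this; omega
    have h3 : range T < ⊤ := lt_of_le_of_lt (range_le_ker_iff.2 (ker_eq_top.1 h2)) (lt_top_iff_ne_top.2 fun e => by
      have := congr($(ker_eq_top.1 e) fun _ => 1)
      have h4 : Nonempty (MulAction.orbit G f) := ⟨f, MulAction.mem_orbit_self f⟩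
      simp only [s, LinearMap.sum_apply, proj_apply, LinearMap.zero_apply, Finset.sum_const, nsmul_one, Nat.cast_eq_zero] at this
      exact Fintype.card_ne_zero this)
    have := Submodule.finrank_lt h3.ne
    rw [finrank_range_of_inj (ker_eq_bot.1 h1), finrank_fintype_fun_eq_card] at this
    omega

/-- The antisymmetriser. -/
noncomputable def altE (V : Type*) [AddCommGroup V] [Module ℂ V] : End ℂ (V ⊗[ℂ] V) :=
  (2 : ℂ)⁻¹ • (1 - (TensorProduct.comm ℂ V V).toLinearMap)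

theorem altE_tmul (u w : V) : altE V (u ⊗ₜ w) = (2 : ℂ)⁻¹ • (u ⊗ₜ w - w ⊗ₜ u) := rfl

theorem altE_idem : altE V * altE V = altE V := by
  ext u w
  simp only [TensorProduct.AlgebraTensorModule.curry_apply, restrictScalars_self, TensorProduct.curry_apply, End.mul_apply,
    altE_tmul, map_smul, map_sub]
  module

theorem altE_comm (g : G) : altE V * (ρ.tprod ρ) g = (ρ.tprod ρ) g * altE V := by
  ext u w; simp [altE_tmul]

theorem trace_altE (g : G) : trace ℂ _ ((ρ.tprod ρ) g * altE V) = (ρ.character g ^ 2 - ρ.character (g * g)) / 2 := by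
  rw [altE, mul_smul_comm, mul_sub, mul_one, map_smul, map_sub, Representation.tprod_apply, trace_map_comp_comm,
    trace_tensorProduct', ← map_mul ρ]
  simp only [Representation.character, smul_eq_mul]
  ring

theorem exists_index_of_rep [ρ.IsIrreducible] (hn : 2 ≤ finrank ℂ V) (h2 : ∑ g, ρ.character g ^ 2 ≠ 0)
    (h3 : ∑ g, ρ.character g ^ 3 ≠ 0) (a1 : ∑ g, (ρ.character g ^ 2 - ρ.character (g * g)) / 2 = 0)
    (a2 : ∑ g, ρ.character g * ((ρ.character g ^ 2 - ρ.character (g * g)) / 2) = 0)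
    (a3 : ∑ g, ((ρ.character g ^ 2 - ρ.character (g * g)) / 2) ^ 2 = (Fintype.card G : ℂ)) :
    ∃ M : Subgroup G, M.index = finrank ℂ V + 1 := by
  obtain ⟨b, b0, hb⟩ := form_exists (ρ.tprod ρ) (by
    simpa only [Representation.tprod_apply, trace_tensorProduct', sq, Representation.character] using h2)
  obtain ⟨c, c0, hc⟩ := form_exists (ρ.tprod (ρ.tprod ρ)) (by
    simpa only [Representation.tprod_apply, trace_tensorProduct', pow_succ', pow_zero, mul_one, Representation.character] using h3)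
  let B := TensorProduct.curry b
  have iB : ∀ g u w, B (ρ g u) (ρ g w) = B u w := fun g u w => congr($(hb g) (u ⊗ₜ w))
  have s0 : ∀ u w, B u w = B w u := fun u w => by
    have := congr($(form_eq_zero (ρ.tprod ρ) altE_idem (altE_comm ρ) (by simpa only [trace_altE] using a1) hb) (u ⊗ₜ w))
    simpa [altE_tmul, sub_eq_zero, B] using this
  have hB : B ≠ 0 := fun e => b0 (TensorProduct.curry_injective (e.trans (by ext; simp)))
  have nB : LinearMap.BilinForm.Nondegenerate B := by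
    have : ker B = ⊥ := (eq_bot_or_top_of_irr ρ _ fun g v hv => by
      ext w
      rw [show w = ρ g (ρ g⁻¹ w) by simp, iB, mem_ker.1 hv]; rfl).resolve_right (mt ker_eq_top.1 hB)
    exact (LinearMap.IsRefl.nondegenerate_iff_separatingLeft fun u w h => (s0 w u).trans h).2
      (separatingLeft_iff_ker_eq_bot.2 this)
  have sy : ∀ c : V ⊗[ℂ] (V ⊗[ℂ] V) →ₗ[ℂ] ℂ, (∀ g, c ∘ₗ (ρ.tprod (ρ.tprod ρ)) g = c) →
      ∀ u w y, c (u ⊗ₜ (w ⊗ₜ y)) = c (u ⊗ₜ (y ⊗ₜ w)) := fun c hc u w y => by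
    have := congr($(form_eq_zero (ρ.tprod (ρ.tprod ρ)) (A := TensorProduct.map 1 (altE V))
      (by rw [← TensorProduct.map_mul, altE_idem, one_mul])
      (fun g => by rw [Representation.tprod_apply, ← TensorProduct.map_mul, ← TensorProduct.map_mul, altE_comm, one_mul, mul_one])
      (by simpa only [ρ.tprod_apply (ρ.tprod ρ), ← TensorProduct.map_mul, trace_tensorProduct', trace_altE, mul_one, Representation.character] using a2)
      hc) (u ⊗ₜ (w ⊗ₜ y)))
    simpa [altE_tmul, TensorProduct.tmul_sub, sub_eq_zero] using this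
  have sy1 := sy c hc
  have sy2 := sy (c ∘ₗ (TensorProduct.leftComm ℂ V V V).toLinearMap) fun g => by
    ext u w y; exact congr($(hc g) (w ⊗ₜ (u ⊗ₜ y)))
  let μ : V ⊗[ℂ] V →ₗ[ℂ] V := (LinearMap.BilinForm.toDual B nB).symm.toLinearMap ∘ₗ (TensorProduct.curry c).flip
  have hμ : ∀ t u, B (μ t) u = c (u ⊗ₜ t) := fun t u => LinearMap.BilinForm.apply_toDual_symm_apply (hB := nB) _ _
  let m := TensorProduct.curry μ
  have hm : ∀ u w y, B u (m w y) = c (u ⊗ₜ (w ⊗ₜ y)) := fun u w y => (s0 _ _).trans (hμ _ _)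
  have ext : ∀ {x y}, (∀ u, B u x = B u y) → x = y := fun h => sub_eq_zero.1 (nB.2 _ fun u => by rw [map_sub, h, sub_self])
  have im : ∀ g u w, m (ρ g u) (ρ g w) = ρ g (m u w) := fun g u w => ext fun x => by
    rw [show x = ρ g (ρ g⁻¹ x) by simp, iB, hm, hm]; exact congr($(hc g) (_ ⊗ₜ (u ⊗ₜ w)))
  have s1 : ∀ u w, m u w = m w u := fun u w => ext fun x => by rw [hm, hm, sy1]
  have s2 : ∀ u w y, B u (m w y) = B w (m u y) := fun u w y => by
    rw [hm, hm, sy1 u, sy1 w]; exact sy2 y u w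
  let τ := (TensorProduct.tensorTensorTensorComm ℂ V V V V).toLinearMap
  obtain ⟨α, hα⟩ := form_prop ((ρ.tprod ρ).tprod (ρ.tprod ρ)) (A := TensorProduct.map (altE V) (altE V))
    (by rw [← TensorProduct.map_mul, altE_idem])
    (fun g => by rw [Representation.tprod_apply, ← TensorProduct.map_mul, ← TensorProduct.map_mul, altE_comm])
    (by simpa only [(ρ.tprod ρ).tprod_apply, ← TensorProduct.map_mul, trace_tensorProduct', trace_altE, sq] using a3)
    (f := b ∘ₗ TensorProduct.map μ μ ∘ₗ τ) (f' := mul' ℂ ℂ ∘ₗ TensorProduct.map b b ∘ₗ τ)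
    (fun g => by
      ext u w x y
      exact (congrArg₂ (fun a b => B a b) (im g u x) (im g w y)).trans (iB g _ _))
    (fun g => by
      ext u w x y
      exact congrArg₂ (· * ·) (iB g u x) (iB g w y))
    (fun e => by
      obtain ⟨u, x, h⟩ : ∃ u w, B u w ≠ 0 := by simpa [LinearMap.ext_iff] using hB
      have : finrank ℂ V ≤ 1 := finrank_le_one u fun w => ⟨B w x / B u x, ext fun y => by
        have := congr($e ((u ⊗ₜ w) ⊗ₜ (x ⊗ₜ y)))
        simp [altE_tmul, τ, TensorProduct.tmul_sub, TensorProduct.sub_tmul, ← TensorProduct.smul_tmul'] at this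
        change 2⁻¹ * (B u x * B w y - B w x * B u y) - 2⁻¹ * (B u y * B w x - B w y * B u x) = 0 at this
        rw [map_smul, s0 y, s0 y, smul_eq_mul]
        field_simp
        linear_combination -this⟩
      omega)
  refine exists_index_of_algebra ρ hn hB (fun e => c0 ?_) iB im s0 s1 s2 (α := -α) fun u w y => ext fun x => ?_
  · ext u w y; simpa [e] using (hm u w y).symm
  have := congr($hα ((u ⊗ₜ w) ⊗ₜ (x ⊗ₜ y)))
  simp [altE_tmul, τ, TensorProduct.tmul_sub, TensorProduct.sub_tmul, ← TensorProduct.smul_tmul'] at this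
  change 2⁻¹ * (2⁻¹ * (B (m u x) (m w y) - B (m w x) (m u y)) - 2⁻¹ * (B (m u y) (m w x) - B (m w y) (m u x))) =
    α * (2⁻¹ * (2⁻¹ * (B u x * B w y - B w x * B u y) - 2⁻¹ * (B u y * B w x - B w y * B u x))) at this
  rw [s0 (m u x), s0 (m w x)] at this
  rw [map_add, map_add, map_smul, map_smul, smul_eq_mul, smul_eq_mul, s1 u (m w y), s1 w (m u y), s2 x, s2 x, s0 x, s0 x,
    s1 x, s1 x]
  linear_combination 2 * this

theorem exists_index_of_cubic {χ ψ : IrrCharacter G} (hr : ∀ g, ((χ : G → ℂ) g).im = 0)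
    (hψ : ∀ g, (ψ : G → ℂ) g = ((χ : G → ℂ) g ^ 2 - (χ : G → ℂ) (g * g)) / 2) (h1 : (ψ : G → ℂ) ≠ 1) (h2 : ψ ≠ χ)
    (h3 : classInner (fun g => (χ : G → ℂ) g ^ 2) (χ : G → ℂ) ≠ 0) :
    ∃ M : Subgroup G, M.index = charDegree (χ : G → ℂ) + 1 := by
  have c1 : ∀ g, (starRingEnd ℂ) ((χ : G → ℂ) g) = (χ : G → ℂ) g := fun g => Complex.conj_eq_iff_im.2 (hr g)
  have c2 : ∀ g, (starRingEnd ℂ) ((ψ : G → ℂ) g) = (ψ : G → ℂ) g := fun g => by simp [hψ, c1, map_ofNat]
  have h0 : (Nat.card G : ℂ) ≠ 0 := Nat.cast_ne_zero.2 Nat.card_pos.ne'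
  have e1 := χ.2.classInner_self
  have e2 := ψ.2.classInner_self
  have e3 := χ.2.classInner_of_ne ψ.2 fun e => h2 (Subtype.ext e.symm)
  have e4 := ψ.2.sum_eq_zero h1
  have e5 := ψ.2.charDegree_pos
  have e6 := hψ 1
  simp only [classInner, c1, c2, inv_mul_eq_one₀ h0, mul_eq_zero, inv_eq_zero, h0, false_or, ne_eq] at e1 e2 e3 h3
  rw [mul_one, ← ψ.2.charDegree_eq, ← χ.2.charDegree_eq] at e6
  have e7 := χ.2.charDegree_eq
  simp only [hψ] at e2 e3 e4
  obtain ⟨χ, n, ρ, hρ, rfl⟩ := χ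
  have e8 : charDegree ρ.character = finrank ℂ (Fin n → ℂ) := by
    simp only [Representation.char_one] at e7; exact_mod_cast e7
  simp only [e8] at e6 ⊢
  refine exists_index_of_rep ρ (by_contra fun h => ?_) (by simpa only [sq, ← e1] using h0) (by simpa only [pow_succ] using h3) e4 e3
    (by simpa only [sq, Nat.card_eq_fintype_card] using e2.symm)
  have : (charDegree (ψ : G → ℂ) : ℂ) = 0 := by
    rw [e6]; rcases (by omega : finrank ℂ (Fin n → ℂ) = 0 ∨ finrank ℂ (Fin n → ℂ) = 1) with e | e <;> simp [e]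
  exact e5.ne' (Nat.cast_eq_zero.1 this)

end H19
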