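import Mathlib
import Cfsg.Agent.H19.Ord8
import Cfsg.Agent.H19.Invol
import Cfsg.Agent.S4710
import Cfsg.Agent.S4730
import Cfsg.Agent.S0493
import Cfsg.Agent.S0997

/-!
Groups whose order has three prime divisors (namespace H19).
* `exists_pb` (principal block of defect one for a general order), `exists_deg_not_dvd`
* `card_sixty_of_dvd`, `exists_consecutive_deg`
-/

open H05 Cfsg Classical Subgroup
open scoped ComplexConjugate

namespace H19

variable {G : Type*} [Group G] [Finite G]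

theorem exists_pb [IsSimpleGroup G] (hG : ¬ IsMulCommutative G) {p : ℕ} (hp : p.Prime) (h1 : p ∣ Nat.card G)
    (h2 : ¬ p ^ 2 ∣ Nat.card G) : ∃ r e X Y y, PB G p r e X Y y ∧ 2 ≤ e ∧ X.length + 1 = e := by
  have := Fact.mk hp
  have := Fintype.ofFinite G
  obtain ⟨P, H, _, _, _, _, S, X, Y, δ, ε, D, h5⟩ := exists_desc_of_dvd h1 h2
  obtain ⟨ψ, hψ⟩ := D.Y_nonempty
  obtain ⟨X', Y', h6, h7⟩ := D.pb hG h5 (fun ψ' h => by rw [D.degY_eq h hψ]) (Multiset.coe_toList _).symm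
  have h8 := S.two_le_index (commutator_eq_top_of_simple hG)
  refine ⟨_, _, X', Y', _, h6, h8, ?_⟩
  have := congrArg List.length h7
  rw [List.length_map, Multiset.length_toList, Multiset.card_map, Finset.card_val, Finset.card_erase_of_mem h5,
    D.cardX1] at this
  omega

theorem exists_deg_not_dvd {p r : ℕ} (hp : p.Prime) (hr : r.Prime) (h1 : p ∣ Nat.card G) (h2 : ¬ p ^ 3 ∣ Nat.card G) :
    ∃ χ : IrrCharacter G, χ ≠ irrOne G ∧ ¬ p ∣ charDegree (χ : G → ℂ) ∧ ¬ r ∣ charDegree (χ : G → ℂ) := by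
  have := Fact.mk hp
  have := Fintype.ofFinite G
  obtain ⟨M, hM⟩ := H21.exists_isPModular hp
  have := hM.2.1
  obtain ⟨x, hx⟩ := exists_prime_orderOf_dvd_card' p h1
  have h3 := H21.sum_principal_of_ne hM (g := 1) (h := x) (by
    rw [H21.pPart_of_pow (x := x) ⟨1, by rw [pow_one, hx]⟩, H21.pPart_of_pow (x := 1) ⟨0, by simp⟩, isConj_one_right]
    rintro rfl
    exact hp.one_lt.ne (orderOf_one.symm.trans hx))
  by_contra! h
  have h4 : ∀ χ ∈ principalBlock M G, ¬ p ∣ charDegree (χ : G → ℂ) := fun χ hχ e => by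
    have e1 := (Cfsg.Agent.S4710.result p M hM _ H21.isPBlock_principal _ (H20.blockDefect_principal hM)).2 χ hχ
    have e2 : (Nat.card G).factorization p < 3 := not_le.1 fun e => h2 ((hp.pow_dvd_iff_le_factorization Nat.card_pos.ne').2 e)
    have e3 := (hp.dvd_iff_one_le_factorization χ.2.charDegree_pos.ne').1 e
    rw [H20.blockHeight_principal hM hχ] at e1
    omega
  rw [← Finset.add_sum_erase _ _ (Finset.mem_filter.2 ⟨Finset.mem_univ (irrOne G), H21.one_mem_principal⟩)] at h3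
  have h5 : (r : ℂ) ≠ 0 := Nat.cast_ne_zero.2 hr.ne_zero
  refine hr.not_dvd_one (Int.natCast_dvd_natCast.1 (dvd_neg.1 (int_dvd_of_isIntegral_div (Nat.cast_ne_zero.2 hr.ne_zero) ?_)))
  simp only [irrOne_apply, map_one, mul_one] at h3
  rw [Nat.cast_one, Int.cast_neg, Int.cast_one, Int.cast_natCast, neg_eq_of_add_eq_zero_right h3, Finset.sum_div]
  refine IsIntegral.sum _ fun χ hχ => ?_
  obtain ⟨k, hk⟩ := h χ (Finset.mem_erase.1 hχ).1 (h4 χ (Finset.mem_filter.1 (Finset.mem_erase.1 hχ).2).2)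
  rw [← χ.2.charDegree_eq, hk, Nat.cast_mul, mul_assoc, mul_div_cancel_left₀ _ h5]
  exact (isIntegral_natCast k).mul (χ.2.isCharacter.conj.isIntegral x)

theorem card_sixty_of_dvd [IsSimpleGroup G] (hG : ¬ IsMulCommutative G) {p q a b : ℕ} (hp : p.Prime) (hq : q.Prime)
    (hp2 : p ≠ 2) (hq2 : q ≠ 2) (h : Nat.card G ∣ 4 * p ^ a * q ^ b) : Nat.card G = 60 := by
  have h0 : Odd (p ^ a * q ^ b) := ((hp.odd_of_ne_two hp2).pow).mul (hq.odd_of_ne_two hq2).pow
  have h1 : ¬ 8 ∣ Nat.card G := fun e => by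
    have := e.trans h
    obtain ⟨k, hk⟩ := h0
    rw [mul_assoc, hk] at this
    omega
  rcases ord8 hG (by omega) with ⟨F, _, _, ⟨k, hk⟩, h2, -⟩ | ⟨h2, -⟩ | ⟨S, h2, -⟩
  · refine Cfsg.Agent.S0493.result (fun e => hG inferInstance) (not_lt.1 fun h3 => ?_)
    have h4 : Nat.card G = 2 * ((2 * k + 1) * k * (k + 1)) := by
      rw [hk, show (2 * k + 1) ^ 2 - 1 = 4 * k * (k + 1) from Nat.sub_eq_of_eq_add (by ring)] at h2
      linarith
    have h5 : 3 ≤ k := not_lt.1 fun e => by interval_cases k <;> omega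
    have h6 : (2 * k + 1) * k * (k + 1) ∣ 2 * (p ^ a * q ^ b) :=
      Nat.dvd_of_mul_dvd_mul_left two_pos (h4 ▸ h.trans (by ring_nf; rfl))
    have key : ∀ n, 3 ≤ n → n ∣ 2 * (p ^ a * q ^ b) → p ∣ n ∨ q ∣ n := fun n e1 e2 => by
      by_contra! e
      have := Nat.le_of_dvd two_pos (Nat.Coprime.dvd_of_dvd_mul_right (Nat.Coprime.mul_right
        ((hp.coprime_iff_not_dvd.2 e.1).symm.pow_right a) ((hq.coprime_iff_not_dvd.2 e.2).symm.pow_right b)) e2)
      omega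
    have c : ∀ r : ℕ, r.Prime → ¬ (r ∣ k ∧ r ∣ k + 1) ∧ ¬ (r ∣ 2 * k + 1 ∧ r ∣ k) ∧ ¬ (r ∣ 2 * k + 1 ∧ r ∣ k + 1) :=
      fun r hr => ⟨fun e => hr.not_dvd_one ((Nat.dvd_add_right e.1).1 e.2),
        fun e => hr.not_dvd_one ((Nat.dvd_add_right (e.2.mul_left 2)).1 e.1),
        fun e => hr.not_dvd_one ((Nat.dvd_add_right e.1).1 (by simpa [mul_add] using e.2.mul_left 2))⟩
    have := key (2 * k + 1) (by omega) (((dvd_mul_right _ _).trans (dvd_mul_right _ _)).trans h6)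
    have := key k h5 (((dvd_mul_left _ _).trans (dvd_mul_right _ _)).trans h6)
    have := key (k + 1) (by omega) ((dvd_mul_left _ _).trans h6)
    have := c p hp
    have := c q hq
    tauto
  · omega
  · exact absurd (h2 ▸ card_subgroup_dvd_card (S : Subgroup G)) h1

theorem exists_consecutive_deg [IsSimpleGroup G] (hG : ¬ IsMulCommutative G) (h1 : 3 ∣ Nat.card G) (h2 : ¬ 3 ^ 2 ∣ Nat.card G) :
    ∃ χ ψ : IrrCharacter G, χ ≠ irrOne G ∧ ψ ≠ irrOne G ∧ charDegree (ψ : G → ℂ) = charDegree (χ : G → ℂ) + 1 ∧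
      ¬ 3 ∣ charDegree (χ : G → ℂ) ∧ ¬ 3 ∣ charDegree (ψ : G → ℂ) := by
  obtain ⟨r, e, X, Y, y, A, h3, h4⟩ := exists_pb hG Nat.prime_three h1 h2
  have h5 := A.lenY
  obtain ⟨rfl, h6⟩ : e = 2 ∧ Y.length = 1 := by
    have : e ≤ 2 := Nat.le_of_dvd two_pos (Dvd.intro_left _ h5)
    obtain rfl : e = 2 := by omega
    omega
  obtain ⟨ψ, rfl⟩ := List.length_eq_one_iff.1 h6
  obtain ⟨⟨χ, d⟩, rfl⟩ := List.length_eq_one_iff.1 (show X.length = 1 by omega)
  have := Fact.mk Nat.prime_three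
  obtain ⟨x, hx⟩ := exists_prime_orderOf_dvd_card' 3 h1
  have e1 := A.reg ψ (by simp) 1 (by simp)
  have e2 := A.degX _ (List.mem_singleton_self _)
  have e3 := A.degY _ (List.mem_singleton_self _)
  have e4 := A.valX _ (List.mem_singleton_self _) x hx.symm.dvd
  have e5 := A.valY x hx.symm.dvd
  have e6 := A.nodup
  have e7 := χ.2.charDegree_pos
  have e8 := ψ.2.charDegree_pos
  simp [← (Subtype.property (_ : IrrCharacter _)).charDegree_eq, e2, e3] at e1 e5 e6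
  have e9 : ¬ 3 ∣ charDegree (χ : G → ℂ) := fun h => by
    rw [A.val0 χ h x hx.symm.dvd, eq_comm, Int.cast_eq_zero, Int.sign_eq_zero_iff_zero] at e4
    simp only at e2 e4; omega
  have e10 : ¬ 3 ∣ charDegree (ψ : G → ℂ) := fun h => by
    rw [A.val0 ψ h x hx.symm.dvd, eq_comm, Int.cast_eq_zero, Int.sign_eq_zero_iff_zero] at e5
    omega
  have e11 : 1 + y + d = 0 := by
    rw [← Int.sign_mul_natAbs y, ← Int.sign_mul_natAbs d]
    exact_mod_cast e1
  have e12 := mt (eq_irrOne_of_perfect (commutator_eq_top_of_simple hG) (χ := χ)) (Ne.symm e6.1.2)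
  have e13 := mt (eq_irrOne_of_perfect (commutator_eq_top_of_simple hG) (χ := ψ)) (Ne.symm e6.1.1)
  simp only at e2
  by_cases h : 0 < d
  · exact ⟨χ, ψ, Ne.symm e6.1.2, Ne.symm e6.1.1, by omega, e9, e10⟩
  · exact ⟨ψ, χ, Ne.symm e6.1.1, Ne.symm e6.1.2, by omega, e10, e9⟩

end H19
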