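import Mathlib
import Cfsg.Agent.H19.Invol
import Cfsg.Agent.H19.ThreeP

/-!
Simple groups of order 95040: the principal 11-block (namespace H19).
* `PB.exists_int`, `PB.coprime_cent`, `PB.vals_inv` : tools for blocks of defect one
* `exists_pb_95040` : the degrees are `1, 16, 16, 45, 54, 120, 144`
-/

set_option linter.unusedSectionVars false

open H05 Cfsg Classical Subgroup

namespace H19

variable {G : Type*} [Group G] [Finite G]

namespace PB

variable {p r e : ℕ} {X : List (IrrCharacter G × ℤ)} {Y : List (IrrCharacter G)} {y : ℤ} (A : PB G p r e X Y y)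
include A

theorem eq_of_deg (hn : Nat.card G = p * e * r) {z : IrrCharacter G × ℤ} (hz : z ∈ X) (h1 : ¬ p ∣ z.2.natAbs)
    (h2 : (1 :: y :: X.map Prod.snd).countP (fun v => v.natAbs = z.2.natAbs) ≤ 1) (ψ : IrrCharacter G)
    (h : charDegree (ψ : G → ℂ) = charDegree (z.1 : G → ℂ)) : ψ = z.1 := by
  rw [A.degX z hz] at h
  have h3 : 0 < X.countP fun z' => z'.2.natAbs = z.2.natAbs := List.countP_pos_iff.2 ⟨z, hz, by simp⟩
  simp only [List.countP_cons, List.countP_map, Function.comp_def, decide_eq_true_eq] at h2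
  rcases List.mem_cons.1 (A.all hn ψ (h ▸ h1)) with rfl | h4
  · rw [charDegree_irrOne] at h
    rw [if_pos (show (1 : ℤ).natAbs = _ from h)] at h2
    omega
  rcases List.mem_append.1 h4 with h4 | h4
  · rw [if_pos ((A.degY ψ h4).symm.trans h)] at h2
    omega
  obtain ⟨z', h5, rfl⟩ := List.mem_map.1 h4
  by_contra h6
  have := (List.subperm_of_subset (l₁ := [z, z']) (l₂ := X.filter fun z' => z'.2.natAbs = z.2.natAbs)
    (by simpa using fun e : z = z' => h6 (e ▸ rfl)) (by simp [hz, h5, ← A.degX z' h5, h])).length_le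
  rw [← List.countP_eq_length_filter] at this
  simp only [List.length_cons, List.length_nil] at this
  omega

theorem exists_int (hn : Nat.card G = p * e * r) {l : List ℤ} (hl : X.map Prod.snd = l) {d : ℤ} (hd : d ∈ l)
    (h1 : ¬ p ∣ d.natAbs) (h2 : (1 :: y :: l).countP (fun v => v.natAbs = d.natAbs) ≤ 1) :
    ∃ χ : IrrCharacter G, χ ≠ irrOne G ∧ charDegree (χ : G → ℂ) = d.natAbs ∧ ∀ g, ∃ m : ℤ, (χ : G → ℂ) g = m := by
  subst hl
  obtain ⟨z, hz, rfl⟩ := List.mem_map.1 hd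
  exact ⟨z.1, fun e => (List.nodup_cons.1 A.nodup).1 (e ▸ List.mem_append_right _ (List.mem_map_of_mem hz)), A.degX z hz,
    exists_int_of_unique (A.eq_of_deg hn hz h1 h2)⟩

theorem coprime_cent (hp : p.Prime) (hn : Nat.card G = p * e * r) {g : G} (h1 : g ≠ 1) (h2 : ¬ p ∣ orderOf g) :
    p.Coprime (Nat.card (centralizer ({g} : Set G))) := hp.coprime_iff_not_dvd.2 fun h => by
  have := Fact.mk hp
  obtain ⟨w, hw⟩ := exists_prime_orderOf_dvd_card' p h
  rw [← orderOf_coe] at hw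
  exact h2 (((Nat.dvd_prime hp).1 ((A.cent' hp hn hw.symm.dvd).2 ▸ orderOf_dvd_natCard _ (mem_centralizer_singleton_iff.2
    (mem_centralizer_singleton_iff.1 w.2).symm))).resolve_left (mt orderOf_eq_one_iff.1 h1)).symm.dvd

theorem cent_dvd (hp : p.Prime) (hn : Nat.card G = p * e * r) {g : G} (h1 : g ≠ 1) (h2 : ¬ p ∣ orderOf g) :
    Nat.card (centralizer ({g} : Set G)) ∣ e * r :=
  (A.coprime_cent hp hn h1 h2).symm.dvd_of_dvd_mul_left (mul_assoc p e r ▸ hn ▸ card_subgroup_dvd_card _)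

theorem vals_inv [IsSimpleGroup G] (hG : ¬ IsMulCommutative G) (hp : p.Prime) (hp2 : p ≠ 2) (h0 : ¬ p ^ 2 ∣ p * e * r)
    (he : Odd e) (hn : Nat.card G = p * e * r) {l : List ℤ} (hl : X.map Prod.snd = l) {t : G} (ht : orderOf t = 2) {Q : ℕ}
    (hQ : Q ∣ Nat.card (centralizer ({t} : Set G))) {out : List (ℕ × ℤ × List ℤ)}
    (h : Sv.chkv (p * e * r) p ((p - 1) / e) 4 true y l (e * r) Q out = true) :
    ∃ o ∈ out, Nat.card (centralizer ({t} : Set G)) = o.1 ∧ (∀ ψ ∈ Y, (ψ : G → ℂ) t = o.2.1) ∧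
      X.map (fun z => (z.1 : G → ℂ) t) = o.2.2.map (↑) := by
  have := Fact.mk hp
  have h1 : t ≠ 1 := by rintro rfl; simp at ht
  have h2 : t ^ 2 = 1 := ht ▸ pow_orderOf_eq_one t
  have h3 : ¬ p ∣ orderOf t := fun h => hp2 ((Nat.prime_dvd_prime_iff_eq hp Nat.prime_two).1 (ht ▸ h))
  obtain ⟨x, hx⟩ := exists_prime_orderOf_dvd_card' (G := G) p (hn ▸ mul_assoc p e r ▸ dvd_mul_right _ _)
  exact A.vals hp hG hl h1 h3 (fun z _ => z.1.2.isGeneralizedCharacter.exists_int_of_sq_eq_one h2)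
    (fun χ v hv => four_dvd_deg_sub hG h2 hv) (fun _ => ⟨h2, x, hx, A.not_isConj_inv hp (hn ▸ h0) he hp2 hx⟩) hn
    (A.cent_dvd hp hn h1 h3) (Nat.pos_of_mul_pos_left (by rw [← mul_assoc, ← hn]; exact Nat.card_pos)).ne' hQ h

end PB

theorem mul_dvd_card_centralizer {a b : ℕ} {x t : G} (hx : orderOf x = a) (ht : orderOf t = b) (h : a.Coprime b)
    (hc : t ∈ centralizer ({x} : Set G)) : a * b ∣ Nat.card (centralizer ({t} : Set G)) :=
  h.mul_dvd_of_dvd_of_dvd (hx ▸ orderOf_dvd_natCard _ (mem_centralizer_singleton_iff.2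
    (mem_centralizer_singleton_iff.1 hc).symm)) (ht ▸ orderOf_dvd_natCard _ (mem_centralizer_singleton_iff.2 rfl))

variable [IsSimpleGroup G] (hn : Nat.card G = 95040)
include hn

theorem five_95040 : ∃ r e X Y y, PB G 5 r e X Y y ∧ (e = 2 ∨ e = 4) ∧ r % 5 = 1 := by
  obtain ⟨r, e, X, Y, y, B, h1, -⟩ := exists_pb (not_comm_of_simple_card (G := G) (by rw [hn]; norm_num)) Nat.prime_five
    (by rw [hn]; norm_num) (by rw [hn]; norm_num)
  have := Fact.mk Nat.prime_five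
  have h2 : e ∣ 4 := Dvd.intro_left _ B.lenY
  have h3 := Nat.le_of_dvd (by norm_num) h2
  exact ⟨r, e, X, Y, y, B, by interval_cases e <;> omega, B.syl ▸ card_sylow_modEq_one 5 G⟩

theorem deg_ne_five (χ : IrrCharacter G) : charDegree (χ : G → ℂ) ≠ 5 := fun h => by
  obtain ⟨r, e, X, Y, y, B, h1, h2⟩ := five_95040 hn
  have := B.bot χ (by rintro rfl; simp [charDegree_irrOne] at h) h
  rcases h1 with rfl | rfl <;> omega

theorem not_int_ten (h11 : ∀ w : G, orderOf w = 5 → Nat.card (centralizer ({w} : Set G)) ∣ 8640) {χ : IrrCharacter G}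
    (h : charDegree (χ : G → ℂ) = 10) (hi : ∀ g, ∃ m : ℤ, (χ : G → ℂ) g = m) : False := by
  have hG : ¬ IsMulCommutative G := not_comm_of_simple_card (by rw [hn]; norm_num)
  obtain ⟨r, e, X, Y, y, B, h1, h2⟩ := five_95040 hn
  obtain ⟨w, hw⟩ := exists_prime_orderOf_dvd_card' (G := G) 5 (hp := ⟨Nat.prime_five⟩) (by omega)
  have key : ∀ u ∈ centralizer ({w} : Set G), u ≠ 1 → (orderOf u).Coprime 5 → ∀ m : ℤ, (χ : G → ℂ) u = m →
      (5 : ℤ) ∣ m ∧ m.natAbs < 10 := fun u hu h3 h4 m hm => by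
    have hc : Commute w u := (mem_centralizer_singleton_iff.1 hu).symm
    refine ⟨?_, h ▸ natAbs_lt_deg hG (by rintro rfl; simp [charDegree_irrOne] at h) h3 hm⟩
    have := H07.dvd_sub_of_pElt χ.2.isGeneralizedCharacter (k := 1) Nat.prime_five (z := w)
      (by rw [pow_one, ← hw, pow_orderOf_eq_one]) hc (a := 0) (by
        rw [Int.cast_zero]
        refine B.val0 χ (by omega) _ ?_
        rw [hc.orderOf_mul_eq_mul_orderOf_of_coprime (hw ▸ h4.symm), hw]
        exact dvd_mul_right _ _) hm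
    omega
  have h3 := B.cent w hw
  have h4 : 5 ∣ Nat.card (centralizer ({w} : Set G)) := hw ▸ orderOf_dvd_natCard _ (mem_centralizer_singleton_iff.2 rfl)
  rcases (by decide +kernel : ∀ c ∈ Nat.divisors 8640, 5 ∣ c → 2 ∣ c ∨ 3 ^ 2 ∣ c ∨ c = 5 ∨ c = 15) _
    (Nat.mem_divisors.2 ⟨h11 w hw, by norm_num⟩) h4 with h5 | h5 | h5 | h5
  · obtain ⟨t, ht⟩ := exists_prime_orderOf_dvd_card' 2 h5
    rw [← orderOf_coe] at ht
    obtain ⟨m, hm⟩ := hi t
    have := key t t.2 (by rw [Ne, ← orderOf_eq_one_iff, ht]; norm_num) (by rw [ht]; norm_num) m hm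
    have := four_dvd_deg_sub hG (ht ▸ pow_orderOf_eq_one (t : G)) hm
    omega
  · have := Fact.mk Nat.prime_three
    obtain ⟨Q, hQ⟩ := Sylow.exists_subgroup_card_pow_prime 3 h5
    have h6 : Nat.card (Q.map (centralizer ({w} : Set G)).subtype) = 3 ^ 2 := by rw [card_subtype, hQ]
    have := sum_nonneg_of_char χ.2.isCharacter (Q.map (centralizer ({w} : Set G)).subtype) (d := 10) (m := -5)
      (by simp [← χ.2.charDegree_eq, h]) fun u hu h7 => by
        obtain ⟨m, hm⟩ := hi u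
        have h8 := h6 ▸ orderOf_dvd_natCard _ hu
        have := key u (map_subtype_le _ hu) h7 (Nat.Coprime.coprime_dvd_left h8 (by norm_num)) m hm
        have := dvd_deg_sub_of_pow Nat.prime_three (orderOf_dvd_iff_pow_eq_one.1 h8) hm
        rw [hm, show m = -5 by omega]
    rw [h6] at this
    norm_num at this
  all_goals rw [h5, hn] at h3; rcases h1 with rfl | rfl <;> omega

theorem exists_pb_95040 : ∃ X Y, PB G 11 1728 5 X Y (-16) ∧ X.map Prod.snd = [144, -120, -54, 45] := by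
  have hG : ¬ IsMulCommutative G := not_comm_of_simple_card (by rw [hn]; norm_num)
  have p11 : Nat.Prime 11 := by norm_num
  obtain ⟨σ, h1, X, Y, A, h2⟩ := sieve_pb hG (B := 309) (p := 11) (allow := fun _ _ => true) (qs := [2, 3, 5])
    (sols := [(144, 10, -32, [144, 144, -120, -120, -120, 45, 45, 45, -32]),
      (144, 10, -32, [144, -120, 45, 45, 45, -32, -32, -32, -32]),
      (144, 10, 45, [144, 144, -120, -120, -120, 45, 45, -32, -32]),
      (144, 10, 45, [144, -120, 45, 45, -32, -32, -32, -32, -32]),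
      (144, 10, -120, [144, 144, -120, -120, 45, 45, 45, -32, -32]),
      (144, 10, -120, [144, 45, 45, 45, -32, -32, -32, -32, -32]),
      (144, 10, 144, [144, -120, -120, -120, 45, 45, 45, -32, -32]),
      (144, 10, 144, [-120, 45, 45, 45, -32, -32, -32, -32, -32])] ++ ([(1728, 5, 6, [45, -32, -32, 12]),
      (1728, 5, 6, [-54, 45, 12, -10]), (1728, 5, -27, [144, -54, -32, -32]), (1728, 5, -27, [45, 45, -32, -32]),
      (1728, 5, -27, [144, -54, -54, -10]), (1728, 5, -27, [144, -120, 12, -10]), (1728, 5, -27, [12, 12, 12, -10]),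
      (1728, 5, 72, [-54, 45, -32, -32]), (1728, 5, 72, [-54, -54, 45, -10])] ++ ([(1728, 5, -27, [-54, 45, 45, -10]),
      (1728, 5, -60, [144, -120, 45, -10]), (1728, 5, -60, [45, 12, 12, -10]), (1728, 5, 72, [-120, 45, 12, -10])] ++
      [(1728, 5, -5, [144, -120, -10, -10]), (1728, 5, -5, [12, 12, -10, -10]), (1728, 5, 160, [-120, -54, 45, -32]),
      (1728, 5, -16, [144, -120, -54, 45])]))) p11 hn (by norm_num) (by norm_num) (by norm_num) (by decide)
    (fun _ _ _ _ _ _ _ => rfl) (by decide +kernel)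
  obtain ⟨r, e, y, l⟩ := σ
  simp only [List.mem_append] at h1 A h2
  rcases h1 with h1 | h1 | h1 | h1
  · obtain ⟨rfl, rfl, h3⟩ : r = 144 ∧ e = 10 ∧ Sv.chkv 95040 11 1 4 false y l 95040 22 [] = true :=
      (by decide +kernel : ∀ σ ∈ _, σ.1 = 144 ∧ σ.2.1 = 10 ∧
        Sv.chkv 95040 11 1 4 false σ.2.2.1 σ.2.2.2 95040 22 [] = true) _ h1
    obtain ⟨x, hx⟩ := exists_prime_orderOf_dvd_card' (G := G) 11 (hp := ⟨p11⟩) (by omega)
    have := A.cent x hx
    obtain ⟨t, ht⟩ := exists_prime_orderOf_dvd_card' (G := centralizer ({x} : Set G)) 2 (by omega)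
    rw [← orderOf_coe] at ht
    have h4 : (t : G) ^ 2 = 1 := ht ▸ pow_orderOf_eq_one (t : G)
    obtain ⟨_, ⟨⟩, -⟩ := A.vals p11 hG h2 (g := t) (by rw [Ne, ← orderOf_eq_one_iff, ht]; norm_num) (by rw [ht]; norm_num)
      (fun z _ => z.1.2.isGeneralizedCharacter.exists_int_of_sq_eq_one h4) (fun χ v hv => four_dvd_deg_sub hG h4 hv)
      (quad := false) (by simp) hn (hn ▸ card_subgroup_dvd_card _) (by norm_num)
      (mul_dvd_card_centralizer hx ht (by norm_num) t.2) h3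
  · obtain ⟨rfl, rfl, h3⟩ : r = 1728 ∧ e = 5 ∧ Sv.chkv 95040 11 2 4 true y l 8640 64 [] = true :=
      (by decide +kernel : ∀ σ ∈ _, σ.1 = 1728 ∧ σ.2.1 = 5 ∧
        Sv.chkv 95040 11 2 4 true σ.2.2.1 σ.2.2.2 8640 64 [] = true) _ h1
    obtain ⟨z, -, oz, hz⟩ := exists_central_elt (k := 5) Nat.prime_two (H := (⊤ : Subgroup G)) (by rw [card_top]; omega)
    rw [inf_top_eq] at hz
    obtain ⟨_, ⟨⟩, -⟩ := A.vals_inv hG p11 (by norm_num) (by norm_num) (by decide) hn h2 oz hz h3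
  · obtain ⟨rfl, rfl, h3, h4⟩ : r = 1728 ∧ e = 5 ∧ -10 ∈ l ∧ (1 :: y :: l).countP (fun v => v.natAbs = 10) ≤ 1 :=
      (by decide : ∀ σ ∈ (_ : List (ℕ × ℕ × ℤ × List ℤ)), σ.1 = 1728 ∧ σ.2.1 = 5 ∧ -10 ∈ σ.2.2.2 ∧
        ((1 : ℤ) :: σ.2.2.1 :: σ.2.2.2).countP (fun v => v.natAbs = 10) ≤ 1) _ h1
    obtain ⟨χ, -, h5, h6⟩ := A.exists_int hn h2 h3 (by norm_num) h4
    exact (not_int_ten hn (fun w hw => A.cent_dvd p11 hn (by rw [Ne, ← orderOf_eq_one_iff, hw]; norm_num)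
      (by rw [hw]; norm_num)) h5 h6).elim
  simp only [List.mem_cons, List.not_mem_nil, or_false, Prod.mk.injEq] at h1
  rcases h1 with ⟨rfl, rfl, rfl, rfl⟩ | ⟨rfl, rfl, rfl, rfl⟩ | ⟨rfl, rfl, rfl, rfl⟩ | ⟨rfl, rfl, rfl, rfl⟩
  · obtain ⟨χ, -, h⟩ := A.exists_deg p11.one_lt List.mem_cons_self
    exact absurd h (deg_ne_five hn χ)
  · obtain ⟨χ, -, h⟩ := A.exists_deg p11.one_lt List.mem_cons_self
    exact absurd h (deg_ne_five hn χ)
  · obtain ⟨_, ⟨⟩, -⟩ := sieve_pb hG (B := 309) (p := 5) (qs := [2, 3, 11]) (sols := []) (by norm_num) hn (by norm_num)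
      (by norm_num) (by norm_num) (by decide) (A.allow h2 _) (by decide +kernel)
  · exact ⟨X, Y, A, h2⟩

end H19
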