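import Mathlib
import Cfsg.Agent.H19.M12a
import Cfsg.Agent.H05.FrobeniusSchur

/-!
Simple groups of order 95040: elements of order 5 and 10 (namespace H19).
* `sum_int_mul_eq_zero`, `sum_int_sq`, `PU.eq_or_neg`, `card_sqrt_one_ge`
* `M12S G` (values at an element `w` of order 5 and an involution `t` commuting with it), `exists_m12S`
-/

set_option linter.unusedSectionVars false

open H05 Cfsg Classical Subgroup
open scoped ComplexConjugate

namespace H19

variable {G : Type*} [Group G] [Finite G]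

theorem sum_int_mul_eq_zero {g h : G} {a b : IrrCharacter G → ℤ} (ha : ∀ χ : IrrCharacter G, (χ : G → ℂ) g = a χ)
    (hb : ∀ χ : IrrCharacter G, (χ : G → ℂ) h = b χ) (hc : ¬ IsConj g h) : ∑ χ, a χ * b χ = 0 := by
  have := sum_irr_mul_conj_of_not_isConj hc
  simp only [ha, hb, map_intCast] at this
  exact_mod_cast this

theorem sum_int_sq {g : G} {a : IrrCharacter G → ℤ} (ha : ∀ χ : IrrCharacter G, (χ : G → ℂ) g = a χ) :
    ∑ χ, a χ ^ 2 = Nat.card (centralizer ({g} : Set G)) := by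
  have := sum_irr_norm_sq g
  simp only [ha, Complex.norm_intCast, sq_abs] at this
  exact_mod_cast this

theorem PU.eq_or_neg {p : ℕ} {Z : List (IrrCharacter G × ℤ)} (C : PU G p Z) (hZ : Z.length + 1 = p) {w g : G}
    (hw : p ∣ orderOf w) (hg : p ∣ orderOf g) (h1 : Nat.card (centralizer ({w} : Set G)) = 2 * p)
    (h2 : Nat.card (centralizer ({g} : Set G)) = 2 * p) (h3 : ¬ IsConj w g) (χ : IrrCharacter G) :
    (χ : G → ℂ) g = (χ : G → ℂ) w ∨ (χ : G → ℂ) g = -(χ : G → ℂ) w := by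
  by_cases h : χ ∈ irrOne G :: Z.map Prod.fst
  · rcases List.mem_cons.1 h with rfl | h
    · exact Or.inl rfl
    · obtain ⟨z, hz, rfl⟩ := List.mem_map.1 h
      exact Or.inl ((C.val z hz g hg).trans (C.val z hz w hw).symm)
  have e1 := congrArg Complex.re (sum_irr_mul_conj_of_not_isConj h3)
  have e2 : ∑ ψ : IrrCharacter G, ‖(ψ : G → ℂ) w + (ψ : G → ℂ) g‖ ^ 2 = 4 * p := by
    simp only [← Complex.normSq_eq_norm_sq, Complex.normSq_add]
    simp only [Complex.normSq_eq_norm_sq, Finset.sum_add_distrib, sum_irr_norm_sq, h1, h2, ← Finset.mul_sum,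
      ← Complex.re_sum, e1]
    simp; ring
  have e3 := List.sum_toFinset (fun ψ : IrrCharacter G => ‖(ψ : G → ℂ) w + (ψ : G → ℂ) g‖ ^ 2) C.nodup
  rw [List.map_cons, List.sum_cons, List.map_map, List.map_congr_left (l := Z) (g := fun _ => (4 : ℝ)) fun z hz => by
    have := C.deg z hz ▸ z.1.2.charDegree_pos
    simp only [Function.comp_apply, C.val z hz g hg, C.val z hz w hw]
    rcases lt_trichotomy z.2 0 with h | h | h
    · norm_num [Int.sign_eq_neg_one_of_neg h]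
    · simp [h] at this
    · norm_num [Int.sign_eq_one_of_pos h]] at e3
  rw [← Finset.sum_add_sum_compl (irrOne G :: Z.map Prod.fst).toFinset, e3, ← hZ] at e2
  have e4 := (Finset.sum_eq_zero_iff_of_nonneg fun _ _ => by positivity).1 (show ∑ ψ ∈ (irrOne G :: Z.map Prod.fst).toFinsetᶜ,
    ‖(ψ : G → ℂ) w + (ψ : G → ℂ) g‖ ^ 2 = 0 by norm_num at e2 ⊢; linarith) χ (by simpa using h)
  exact Or.inr (eq_neg_of_add_eq_zero_right (by simpa using e4))

theorem card_sqrt_one_ge {t z : G} (ht : orderOf t = 2) (hz : orderOf z = 2) (h : ¬ IsConj t z) :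
    1 + (centralizer ({t} : Set G)).index + (centralizer ({z} : Set G)).index ≤ Nat.card {s : G // s * s = 1} := by
  have := Fintype.ofFinite G
  have key : ∀ {a y : G}, orderOf a = 2 → IsConj a y → y * y = 1 ∧ y ≠ 1 := fun {a y} ha h => by
    obtain ⟨c, e⟩ := h
    have := e.orderOf_eq
    rw [← sq, ← orderOf_dvd_iff_pow_eq_one, Ne, ← orderOf_eq_one_iff, ← this, ha]
    omega
  rw [← card_filter_isConj, ← card_filter_isConj, Nat.card_eq_fintype_card, Fintype.card_subtype, add_assoc,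
    ← Finset.card_union_of_disjoint (Finset.disjoint_filter.2 fun y _ h1 h2 => h (h1.trans h2.symm)), add_comm,
    ← Finset.card_insert_of_notMem (a := 1) (by simpa using ⟨fun e => (key ht (by rw [e])).2 e, fun e => (key hz (by rw [e])).2 e⟩)]
  refine Finset.card_le_card fun y hy => ?_
  simp only [Finset.mem_insert, Finset.mem_union, Finset.mem_filter, Finset.mem_univ, true_and] at hy ⊢
  rcases hy with rfl | hy | hy
  exacts [mul_one 1, (key ht hy).1, (key hz hy).1]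

theorem PB.isConj_of_order {p r : ℕ} {X : List (IrrCharacter G × ℤ)} {Y : List (IrrCharacter G)} {y : ℤ}
    (B : PB G p r (p - 1) X Y y) (hp : 1 < p) {w w' : G} (hw : orderOf w = p) (hw' : orderOf w' = p) : IsConj w w' := by
  have := (Nat.card_eq_one_iff_unique.1 (Nat.eq_of_mul_eq_mul_right (Nat.sub_pos_of_lt hp)
    (B.cls.trans (one_mul _).symm))).1
  exact ConjClasses.mk_eq_mk_iff_isConj.1 (congrArg Subtype.val (this.elim ⟨_, w, ConjClasses.mem_carrier_mk, hw⟩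
    ⟨_, w', ConjClasses.mem_carrier_mk, hw'⟩))

/-- Character values of a simple group of order 95040 on `w`, `w * t`, `t`. -/
structure M12S (G : Type*) [Group G] [Finite G] where
  /-- degrees 16, 16, 144, 120, 54, 45 -/
  (s s' m k c b : IrrCharacter G)
  /-- elements of orders 5, 2, 2 -/
  (w t z : G)
  /-- values on `w`, `w * t`, `t` -/
  (v u τ : IrrCharacter G → ℤ)
  nodup : [irrOne G, s, s', m, k, c, b].Nodup
  all : ∀ χ : IrrCharacter G, ¬ 11 ∣ charDegree (χ : G → ℂ) → χ ∈ [irrOne G, s, s', m, k, c, b]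
  deg : charDegree (s : G → ℂ) = 16 ∧ charDegree (s' : G → ℂ) = 16 ∧ charDegree (m : G → ℂ) = 144 ∧
    charDegree (k : G → ℂ) = 120 ∧ charDegree (c : G → ℂ) = 54 ∧ charDegree (b : G → ℂ) = 45
  c11 : ∀ g : G, 11 ∣ orderOf g → orderOf g = 11 ∧ Nat.card (centralizer ({g} : Set G)) = 11
  ord : orderOf w = 5 ∧ orderOf t = 2 ∧ orderOf z = 2 ∧ orderOf (w * t) = 10
  hv : ∀ χ : IrrCharacter G, (χ : G → ℂ) w = v χ
  hv' : ∀ χ : IrrCharacter G, (χ : G → ℂ) (w * w) = v χ
  hu : ∀ χ : IrrCharacter G, (χ : G → ℂ) (w * t) = u χ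
  hτ : ∀ χ : IrrCharacter G, (χ : G → ℂ) t = τ χ
  uv : ∀ χ, u χ = v χ ∨ u χ = -v χ
  uτ : ∀ χ, 5 ∣ u χ - τ χ
  v0 : ∀ χ : IrrCharacter G, 5 ∣ charDegree (χ : G → ℂ) → v χ = 0
  cent : Nat.card (centralizer ({w} : Set G)) = 10 ∧ Nat.card (centralizer ({t} : Set G)) ∣ 240 ∧
    Nat.card (centralizer ({z} : Set G)) = 192
  vv : v s = 1 ∧ v s' = 1 ∧ v m = -1 ∧ v k = 0 ∧ v c = -1 ∧ v b = 0
  vτ : (τ s = 4 ∨ τ s = -4) ∧ τ s' = τ s ∧ τ m = τ s ∧ τ k = 0 ∧ τ c = 6 ∧ τ b = 5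
  nr : (∃ g, ((s : G → ℂ) g).im ≠ 0) ∧ ∃ g, ((s' : G → ℂ) g).im ≠ 0

theorem exists_m12S [IsSimpleGroup G] (hn : Nat.card G = 95040) : Nonempty (M12S G) := by
  have hG : ¬ IsMulCommutative G := not_comm_of_simple_card (by rw [hn]; norm_num)
  have p11 : Nat.Prime 11 := by norm_num
  obtain ⟨X, Y, A, h2⟩ := exists_pb_95040 hn
  obtain ⟨⟨r, e, y, l⟩, h3, X', Y', B, h4⟩ := sieve_pb hG (B := 309) (p := 5) (qs := [2, 3, 11])
    (sols := [(396, 4, 11, [-144, 66, 66]), (396, 4, 11, [176, -144, -44]), (396, 4, 11, [-44, 16, 16]),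
      (396, 4, 16, [-99, 66, 16]), (396, 4, 16, [-44, 16, 11]), (396, 4, -44, [176, -144, 11]), (396, 4, -44, [16, 16, 11]),
      (396, 4, 66, [176, -144, -99]), (396, 4, 66, [-99, 16, 16]), (396, 4, 66, [-144, 66, 11]),
      (396, 4, -99, [176, -144, 66]), (396, 4, -99, [66, 16, 16]), (396, 4, -144, [176, -99, 66]),
      (396, 4, -144, [66, 66, 11]), (396, 4, -144, [176, -44, 11]), (396, 4, 176, [-144, -99, 66]),
      (396, 4, 176, [-144, -44, 11]), (2376, 4, 11, [-144, 66, 66]), (2376, 4, 11, [176, -144, -44]),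
      (2376, 4, 11, [-144, 96, 36]), (2376, 4, 11, [-44, 16, 16]), (2376, 4, 16, [-99, 66, 16]),
      (2376, 4, 16, [-44, 16, 11]), (2376, 4, 36, [-144, 96, 11]), (2376, 4, -44, [176, -144, 11]),
      (2376, 4, -44, [16, 16, 11]), (2376, 4, 66, [176, -144, -99]), (2376, 4, 66, [-99, 16, 16]),
      (2376, 4, 66, [-144, 66, 11]), (2376, 4, 96, [-144, 36, 11]), (2376, 4, -99, [176, -144, 66]),
      (2376, 4, -99, [66, 16, 16]), (2376, 4, -144, [176, -99, 66]), (2376, 4, -144, [66, 66, 11]),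
      (2376, 4, -144, [176, -44, 11]), (2376, 4, -144, [96, 36, 11]), (2376, 4, 176, [-144, -99, 66]),
      (2376, 4, 176, [-144, -44, 11])]) (by norm_num) hn (by norm_num)
    (by norm_num) (by norm_num) (by decide) (A.allow h2 _) (by decide +kernel)
  obtain ⟨h5, rfl, h6⟩ : (r = 396 ∨ r = 2376) ∧ e = 4 ∧ l.length = 3 := (by decide : ∀ σ ∈ (_ : List (ℕ × ℕ × ℤ × List ℤ)),
    (σ.1 = 396 ∨ σ.1 = 2376) ∧ σ.2.1 = 4 ∧ σ.2.2.2.length = 3) _ h3
  simp only at B h4
  clear h3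
  obtain ⟨Z, C, h7, -⟩ := B.one rfl (by norm_num) (List.Perm.refl _)
  have h8 : Z.length + 1 = 5 := by simpa [h4, h6] using congrArg List.length h7
  obtain ⟨w, hw⟩ := exists_prime_orderOf_dvd_card' (G := G) 5 (hp := ⟨Nat.prime_five⟩) (by omega)
  have w1 : w ≠ 1 := by rintro rfl; simp at hw
  have h9 : ∀ k : ℕ, k.Coprime (orderOf w) → IsConj w (w ^ k) := fun k h =>
    B.isConj_of_order (by norm_num) hw (h.symm.orderOf_pow.trans hw)
  choose v hv using fun χ : IrrCharacter G => χ.2.isGeneralizedCharacter.exists_int_of_rational_class w h9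
  obtain ⟨o, h10, h11, h12, h13⟩ := A.vals p11 hG h2 w1 (by rw [hw]; norm_num) (fun z _ => ⟨_, hv z.1⟩) (m := 5)
    (fun χ v h => dvd_deg_sub_of_pow Nat.prime_five (k := 1) (by rw [pow_one, ← hw, pow_orderOf_eq_one]) h) (quad := false)
    (by simp) hn (A.cent_dvd p11 hn w1 (by rw [hw]; norm_num)) (by norm_num)
    (hw ▸ orderOf_dvd_natCard _ (mem_centralizer_singleton_iff.2 rfl)) (out := [(5, 1, [-1, 0, -1, 0]),
      (10, 1, [-1, 0, -1, 0]), (20, 1, [-1, 0, -1, 0]), (180, 1, [9, 0, 9, 0]), (240, -4, [4, 0, 9, 0]),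
      (240, -4, [4, 10, -6, -5]), (360, -4, [-6, -10, 9, 0])]) (by decide +kernel)
  have h14 := B.cent w hw
  obtain rfl : o = (10, 1, [-1, 0, -1, 0]) := (by decide : ∀ o ∈ (_ : List (ℕ × ℤ × List ℤ)), o.1 = 10 ∨ o.1 = 60 → o = _) o h10
    (by rcases h5 with rfl | rfl <;> omega)
  simp only at h11 h12 h13
  obtain ⟨⟨t, ht⟩, ot⟩ := exists_prime_orderOf_dvd_card' (G := centralizer ({w} : Set G)) 2 (by omega)
  rw [orderOf_mk] at ot
  have hc : Commute w t := (mem_centralizer_singleton_iff.1 ht).symm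
  have owt : orderOf (w * t) = 10 := by rw [hc.orderOf_mul_eq_mul_orderOf_of_coprime (by rw [hw, ot]; norm_num), hw, ot]
  have h15 : Nat.card (centralizer ({w * t} : Set G)) = 10 := by
    refine Nat.dvd_antisymm (h11 ▸ card_dvd_of_le fun g hg => mem_centralizer_singleton_iff.2 ?_)
      (owt ▸ orderOf_dvd_natCard _ (mem_centralizer_singleton_iff.2 rfl))
    have := (show Commute g (w * t) from mem_centralizer_singleton_iff.1 hg).pow_right 6
    rwa [hc.mul_pow, ← pow_mod_orderOf w, ← pow_mod_orderOf t, hw, ot, pow_one, pow_zero, mul_one] at this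
  have h16 := C.eq_or_neg h8 hw.symm.dvd (by rw [owt]; norm_num) h11 h15 fun ⟨c, e⟩ => by have := e.orderOf_eq; omega
  choose u hu using fun χ : IrrCharacter G => show ∃ m : ℤ, (χ : G → ℂ) (w * t) = m from
    (h16 χ).elim (fun h => ⟨_, h.trans (hv χ)⟩) fun h => ⟨-v χ, by rw [h, hv, Int.cast_neg]⟩
  choose τ hτ using fun χ : IrrCharacter G => χ.2.isGeneralizedCharacter.exists_int_of_sq_eq_one (ot ▸ pow_orderOf_eq_one t)
  have uv : ∀ χ, u χ = v χ ∨ u χ = -v χ := fun χ => by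
    have := h16 χ
    rw [hu, hv] at this
    exact_mod_cast this
  have uτ : ∀ χ, 5 ∣ u χ - τ χ := fun χ => H07.dvd_sub_of_pElt χ.2.isGeneralizedCharacter (k := 1) Nat.prime_five
    (by rw [pow_one, ← hw, pow_orderOf_eq_one]) hc (hu χ) (hτ χ)
  obtain ⟨o, h17, h18, h19, h20⟩ := A.vals_inv hG p11 (by norm_num) (by norm_num) (by decide) hn h2 ot
    (mul_dvd_card_centralizer hw ot (by norm_num) ht) (out := [(120, -4, [-4, 0, 6, 5]), (120, 4, [4, 0, 6, 5]),
      (240, -4, [-4, 0, 6, 5]), (240, 4, [4, 0, 6, 5]), (1440, -8, [24, 0, 18, -15])]) (by decide +kernel)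
  obtain ⟨z, -, oz, hz⟩ := exists_central_elt (k := 5) Nat.prime_two (H := (⊤ : Subgroup G)) (by rw [card_top]; omega)
  rw [inf_top_eq] at hz
  obtain ⟨_, h21, h22, -⟩ := A.vals_inv hG p11 (by norm_num) (by norm_num) (by decide) hn h2 oz hz
    (out := [(192, 0, [0, -8, 6, -3])]) (by decide +kernel)
  obtain rfl := List.mem_singleton.1 h21
  obtain ⟨x, hx⟩ := exists_prime_orderOf_dvd_card' (G := G) 11 (hp := ⟨p11⟩) (by omega)
  have h23 := sum_irr_mul_conj_of_not_isConj (A.not_isConj_inv p11 (by omega) (by decide) (by norm_num) hx)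
  obtain ⟨s, s', rfl⟩ := List.length_eq_two.1 (show Y.length = 2 by have := A.lenY; omega)
  match X, h2 with
  | [(m, _), (k, _), (c, _), (b, _)], rfl =>
  have n1 : [irrOne G, s, s', m, k, c, b].Nodup := A.nodup
  have al : ∀ χ : IrrCharacter G, ¬ 11 ∣ charDegree (χ : G → ℂ) → χ ∈ [irrOne G, s, s', m, k, c, b] := A.all hn
  have e1 := A.degX
  have e2 := A.degY
  have e3 := fun z hz => A.valX z hz x hx.symm.dvd
  have e4 := A.valY x hx.symm.dvd
  simp [hv, hτ, Int.sign_eq_one_of_pos] at e1 e2 e3 e4 h12 h13 h19 h20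
  have h24 : v m = -1 ∧ v k = 0 ∧ v c = -1 ∧ v b = 0 := by exact_mod_cast h13
  have h25 : [τ m, τ k, τ c, τ b] = o.2.2 := List.map_injective_iff.2 (Int.cast_injective (α := ℂ)) h20
  rw [← Finset.sum_subset (Finset.subset_univ [irrOne G, s, s', m, k, c, b].toFinset) fun χ _ h => by
    rw [A.val0 χ (by_contra fun e => h (List.mem_toFinset.2 (al χ e))) x hx.symm.dvd, zero_mul], List.sum_toFinset _ n1] at h23
  simp [(Subtype.property (_ : IrrCharacter G)).isCharacter.apply_inv, e3] at h23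
  have e5 := congrArg Complex.re h23
  have e6 := congrArg Complex.im e4
  simp at e5 e6
  obtain ⟨e7, e8, e9⟩ : o.1 ∣ 240 ∧ (o.2.1 = 4 ∨ o.2.1 = -4) ∧ o.2.2 = [o.2.1, 0, 6, 5] :=
    (by decide : ∀ o ∈ (_ : List (ℕ × ℤ × List ℤ)), o.2.2.getD 2 0 ≠ 18 → o.1 ∣ 240 ∧ (o.2.1 = 4 ∨ o.2.1 = -4) ∧
      o.2.2 = [o.2.1, 0, 6, 5]) o h17 (by
        rw [← h25]; have := uv c; have := uτ c; simp only [List.getD_cons_succ, List.getD_cons_zero]; omega)
  simp only [e9, List.cons.injEq, and_true] at h25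
  refine ⟨⟨s, s', m, k, c, b, w, t, z, v, u, τ, n1, al, by tauto, fun g => A.cent' p11 hn, ⟨hw, ot, oz, owt⟩, hv,
    fun χ => by rw [← sq, ← hv, χ.2.isClassFunction.isConj (h9 2 (by rw [hw]; norm_num))], hu, hτ, uv, uτ,
    fun χ h => by exact_mod_cast (hv χ).symm.trans (B.val0 χ h w hw.symm.dvd), ⟨h11, h18 ▸ e7, h22⟩,
    by norm_cast at h12; tauto, by norm_cast at h19; omega, ⟨x, fun h => ?_⟩, x, fun h => ?_⟩⟩
  · rw [h, zero_add] at e6
    rw [h, e6] at e5
    nlinarith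
  · rw [h, add_zero] at e6
    rw [h, e6] at e5
    nlinarith

end H19
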