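import Mathlib
import Cfsg.Agent.H19.M12b

/-!
The character degrees of a simple group of order 95040 (namespace H19).
* `M12T G` (the fifteen characters), `M12S.exists_m12T`
-/

set_option linter.unusedSectionVars false

namespace H19

theorem exists_of_length_five {α : Type*} {l : List α} (h : l.length = 5) : ∃ a b c d e, l = [a, b, c, d, e] :=
  match l, h with
  | [a, b, c, d, e], _ => ⟨a, b, c, d, e, rfl⟩

theorem eq_of_mul_sign {d : ℕ} {v x : ℤ} (h0 : x ≠ 0) (h : v = 1 ∨ v = -1) (h1 : d * v = x) : d = x.natAbs ∧ v = x.sign := by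
  have : d ≠ 0 := by rintro rfl; simp [← h1] at h0
  rcases h with rfl | rfl <;> simp [← h1, Int.sign_natCast_of_ne_zero this]

theorem m12_tuples {T : List (ℤ × ℤ × ℤ)} (h : T.length = 5) (h1 : ∀ x ∈ T, x ∈ [(11, -9, 81), (11, 1, 1), (-44, -4, 16),
      (66, 6, 36), (-99, 1, 1), (-99, -9, 81), (-99, 11, 121), (176, -4, 16)]) : (T.map Prod.fst).sum = 165 →
    (T.map fun x => x.2.1).sum = 5 → (T.map fun x => x.2.2).sum ≤ 130 → (T.map fun x => x.1 ^ 2).sum ≤ 54450 →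
    (T.map Prod.fst).Perm [11, 11, 66, -99, 176] ∧ (∀ x ∈ T, x.1 = 11 ∨ x.1 = -99 → x.2.2 = 1) ∨
      (T.map Prod.fst).Perm [-44, 66, 66, -99, 176] := by
  obtain ⟨a, b, c, d, e, rfl⟩ := exists_of_length_five h
  simp only [List.forall_mem_cons] at h1
  obtain ⟨ha, hb, hc, hd, he, -⟩ := h1
  clear h
  revert e; revert d; revert c; revert b; revert a
  decide +kernel

set_option synthInstance.maxSize 1000 in
theorem m12_mem {d : ℕ} {v u τ : ℤ} (h1 : 11 ∣ d) (h2 : d ∣ 95040) (h3 : (d : ℤ) ^ 2 ≤ 54450) (h4 : τ ^ 2 ≤ 130)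
    (h5 : v = 1 ∨ v = -1) (h6 : u = v ∨ u = -v) (h7 : 5 ∣ d - v) (h8 : 5 ∣ u - τ) (h9 : 4 ∣ d - τ) (h10 : τ.natAbs < d) :
    (d * v, τ * u, τ ^ 2) ∈ [(11, -9, 81), (11, 1, 1), (-44, -4, 16), (66, 6, 36), (-99, 1, 1), (-99, -9, 81),
      (-99, 11, 121), (176, -4, 16)] := by
  have a1 := abs_lt.1 (abs_lt_of_sq_lt_sq (show τ ^ 2 < 12 ^ 2 by linarith) (by norm_num))
  have a2 := abs_lt.1 (abs_lt_of_sq_lt_sq (show (d : ℤ) ^ 2 < 234 ^ 2 by linarith) (by norm_num))
  refine (by decide +kernel : ∀ d ∈ List.range 234, 11 ∣ d → d ∣ 95040 → ∀ v ∈ [1, -1], (5 : ℤ) ∣ d - v → ∀ u ∈ [v, -v],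
    ∀ j ∈ List.range 23, 5 ∣ u - (j - 11 : ℤ) → 4 ∣ d - (j - 11 : ℤ) → (j - 11 : ℤ).natAbs < d → ∀ τ ∈ [(j - 11 : ℤ)],
      (d * v, τ * u, τ ^ 2) ∈ [(11, -9, 81), (11, 1, 1), (-44, -4, 16), (66, 6, 36), (-99, 1, 1), (-99, -9, 81),
      (-99, 11, 121), (176, -4, 16)]) d (List.mem_range.2 (by omega)) h1 h2 v (by simpa using h5) h7 u (by simpa using h6)
    (τ + 11).toNat (List.mem_range.2 (by omega)) ?_ ?_ ?_ τ (List.mem_singleton.2 ?_) <;> omega

theorem sq_le_of_sums {ι : Type*} {R : Finset ι} {v u : ι → ℤ} (h : ∀ i, u i = v i ∨ u i = -v i) {a b : ℤ}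
    (h1 : ∑ i ∈ R, v i ^ 2 = a) (h2 : ∑ i ∈ R, v i * u i = b) {i : ι} (hi : i ∈ R) : 2 * v i ^ 2 ≤ a + |b| := by
  have a1 := Finset.single_le_sum (f := fun i => v i ^ 2 + v i * u i)
    (fun i _ => by rcases h i with e | e <;> rw [e] <;> nlinarith) hi
  have a2 := Finset.single_le_sum (f := fun i => v i ^ 2 - v i * u i)
    (fun i _ => by rcases h i with e | e <;> rw [e] <;> nlinarith) hi
  rw [Finset.sum_add_distrib, h1, h2] at a1
  rw [Finset.sum_sub_distrib, h1, h2] at a2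
  rcases h i with e | e <;> rw [e] at a1 a2 <;> nlinarith [le_abs_self b, neg_abs_le b]

open H05 Cfsg Classical Subgroup

/-- The irreducible characters of a simple group of order 95040. -/
structure M12T (G : Type*) [Group G] [Fintype G] extends M12S G where
  /-- degrees 11, 11, 66, 99, 176, 55, 55, 55 -/
  (a a' d e q h₁ h₂ h₃ : IrrCharacter G)
  sum : ∀ {M : Type} [AddCommMonoid M] (F : IrrCharacter G → M), ∑ χ, F χ = F (irrOne G) + F s + F s' + F m + F k +
    F c + F b + F a + F a' + F d + F e + F q + F h₁ + F h₂ + F h₃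
  ne : a ≠ a'
  deg' : charDegree (a : G → ℂ) = 11 ∧ charDegree (a' : G → ℂ) = 11 ∧ charDegree (d : G → ℂ) = 66 ∧
    charDegree (e : G → ℂ) = 99 ∧ charDegree (q : G → ℂ) = 176 ∧ charDegree (h₁ : G → ℂ) = 55 ∧
    charDegree (h₂ : G → ℂ) = 55 ∧ charDegree (h₃ : G → ℂ) = 55
  vv' : v a = 1 ∧ v a' = 1 ∧ v d = 1 ∧ v e = -1
  vτ' : τ a = -1 ∧ τ a' = -1 ∧ τ e = -1
  fs : fsIndicator (a : G → ℂ) = 1 ∧ fsIndicator (a' : G → ℂ) = 1

theorem M12S.exists_m12T {G : Type*} [Group G] [Fintype G] [IsSimpleGroup G] (hn : Nat.card G = 95040) (S : M12S G) :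
    Nonempty (M12T G) := by
  have hG : ¬ IsMulCommutative G := not_comm_of_simple_card (by rw [hn]; norm_num)
  obtain ⟨ow, ot, oz, owt⟩ := S.ord
  obtain ⟨cw, ct, cz⟩ := S.cent
  obtain ⟨ds, ds', dm, dk, dc, db⟩ := S.deg
  obtain ⟨vs, vs', vm, vk, vc, vb⟩ := S.vv
  obtain ⟨τs, τs', τm, τk, τc, τb⟩ := S.vτ
  have nc : ∀ {g h : G}, orderOf g ≠ orderOf h → ¬ IsConj g h := fun h ⟨_, e⟩ => h e.orderOf_eq
  have hD : ∀ χ : IrrCharacter G, (χ : G → ℂ) 1 = (charDegree (χ : G → ℂ) : ℤ) := fun χ => by simp [χ.2.charDegree_eq]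
  obtain ⟨R, Q, hR, hQ, split⟩ : ∃ R Q : Finset (IrrCharacter G),
      (∀ χ ∈ R, χ ≠ irrOne G ∧ 11 ∣ charDegree (χ : G → ℂ) ∧ ¬ 5 ∣ charDegree (χ : G → ℂ)) ∧
      (∀ χ ∈ Q, S.v χ = 0 ∧ S.u χ = 0 ∧ 55 ∣ charDegree (χ : G → ℂ) ∧ (55 : ℤ) ≤ charDegree (χ : G → ℂ)) ∧
      ∀ {M : Type} [AddCommMonoid M] (F : IrrCharacter G → M), ∑ χ, F χ = F (irrOne G) + F S.s + F S.s' +
        F S.m + F S.k + F S.c + F S.b + (R.toList.map F).sum + ∑ χ ∈ Q, F χ := by
    let K := [irrOne G, S.s, S.s', S.m, S.k, S.c, S.b]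
    have h11 : ∀ χ : IrrCharacter G, χ ∈ K.toFinsetᶜ → 11 ∣ charDegree (χ : G → ℂ) := fun χ h =>
      by_contra fun e => Finset.mem_compl.1 h (List.mem_toFinset.2 (S.all χ e))
    refine ⟨K.toFinsetᶜ.filter fun χ : IrrCharacter G => ¬ 5 ∣ charDegree (χ : G → ℂ),
      K.toFinsetᶜ.filter fun χ : IrrCharacter G => 5 ∣ charDegree (χ : G → ℂ), fun χ h => ⟨fun e => by simp [e, K] at h,
        h11 χ (Finset.mem_filter.1 h).1, (Finset.mem_filter.1 h).2⟩, fun χ h => ?_, fun F => ?_⟩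
    · have := S.v0 χ (Finset.mem_filter.1 h).2
      have := S.uv χ
      have := h11 χ (Finset.mem_filter.1 h).1
      have := (Finset.mem_filter.1 h).2
      have := χ.2.charDegree_pos
      omega
    · rw [← Finset.sum_add_sum_compl K.toFinset, List.sum_toFinset _ S.nodup, Finset.sum_map_toList,
        ← Finset.sum_filter_add_sum_filter_not K.toFinsetᶜ fun χ : IrrCharacter G => 5 ∣ charDegree (χ : G → ℂ)]
      simp only [List.map_cons, List.map_nil, List.sum_cons, List.sum_nil]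
      abel
  have v1 : S.v (irrOne G) = 1 := Int.cast_eq_one.1 (S.hv _).symm
  have u1 : S.u (irrOne G) = 1 := Int.cast_eq_one.1 (S.hu _).symm
  have τ1 : S.τ (irrOne G) = 1 := Int.cast_eq_one.1 (S.hτ _).symm
  obtain ⟨us, us', um, uk, uc, ub⟩ : 4 * S.u S.s = -S.τ S.s ∧ S.u S.s' = S.u S.s ∧ S.u S.m = S.u S.s ∧ S.u S.k = 0 ∧
      S.u S.c = 1 ∧ S.u S.b = 0 := by
    have := S.uv S.s; have := S.uv S.s'; have := S.uv S.m; have := S.uv S.k; have := S.uv S.c; have := S.uv S.b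
    have := S.uτ S.s; have := S.uτ S.s'; have := S.uτ S.m; have := S.uτ S.c
    omega
  have e1 := cw ▸ sum_int_sq S.hv
  have e2 := sum_int_mul_eq_zero S.hv S.hu (nc (by omega))
  have e3 := sum_int_mul_eq_zero hD S.hv (nc (by rw [orderOf_one]; omega))
  have e4 := sum_int_mul_eq_zero S.hτ S.hu (nc (by omega))
  have e5 := (sum_int_sq S.hτ).trans_le (Int.ofNat_le.2 (Nat.le_of_dvd (by norm_num) ct))
  have e6 : ∑ χ : IrrCharacter G, (charDegree (χ : G → ℂ) : ℤ) ^ 2 = 95040 := by exact_mod_cast hn ▸ sum_charDegree_sq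
  rw [split] at e1 e2 e3 e4 e5 e6
  rw [Finset.sum_eq_zero fun χ h => by simp [hQ χ h]] at e1 e2 e3 e4
  have e7 : 0 ≤ ∑ χ ∈ Q, S.τ χ ^ 2 := Finset.sum_nonneg fun _ _ => sq_nonneg _
  have e8 : 55 * ∑ χ ∈ Q, (charDegree (χ : G → ℂ) : ℤ) ≤ ∑ χ ∈ Q, (charDegree (χ : G → ℂ) : ℤ) ^ 2 := by
    rw [Finset.mul_sum]
    exact Finset.sum_le_sum fun χ h => sq (charDegree (χ : G → ℂ) : ℤ) ▸ mul_le_mul_of_nonneg_right (hQ χ h).2.2.2 (by positivity)
  have e9 : 0 ≤ ∑ χ ∈ Q, (charDegree (χ : G → ℂ) : ℤ) := Finset.sum_nonneg fun _ _ => by positivity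
  have τ2 : S.τ S.s ^ 2 = 16 ∧ S.τ S.s * S.u S.s = -4 ∧ (S.u S.s = 1 ∨ S.u S.s = -1) := by
    rcases τs with h | h <;> rw [h] at us ⊢ <;> omega
  simp only [charDegree_irrOne, ds, ds', dm, dk, dc, db, v1, u1, τ1, vs, vs', vm, vk, vc, vb, us', um, uk, uc, ub,
    τs', τm, τk, τc, τb, τ2] at e1 e2 e3 e4 e5 e6
  have h5 := fun χ => dvd_deg_sub_of_pow Nat.prime_five (k := 1) (by rw [pow_one, ← ow, pow_orderOf_eq_one]) (S.hv χ)
  have hv : ∀ χ ∈ R, S.v χ = 1 ∨ S.v χ = -1 := fun χ h => by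
    rw [Finset.sum_map_toList] at e1 e2
    have := sq_le_of_sums S.uv (a := 5) (b := -S.u S.s) (by omega) (by omega) h
    have := abs_lt.1 (abs_lt_of_sq_lt_sq (show S.v χ ^ 2 < 2 ^ 2 by
      rcases τ2.2.2 with e | e <;> rw [e] at this <;> norm_num at this ⊢ <;> omega) (by norm_num))
    have := h5 χ
    have := hR χ h
    omega
  have hv' : ∀ χ ∈ R.toList, S.v χ ^ 2 = 1 := fun χ h => by rcases hv χ (Finset.mem_toList.1 h) with e | e <;> simp [e]
  have hl : R.toList.length = 5 := by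
    rw [List.map_congr_left hv'] at e1
    simp only [List.map_const', List.sum_replicate, nsmul_eq_mul] at e1
    omega
  have e10 : (R.toList.map fun χ : IrrCharacter G => ((charDegree (χ : G → ℂ) : ℤ) * S.v χ) ^ 2) =
      R.toList.map fun χ : IrrCharacter G => (charDegree (χ : G → ℂ) : ℤ) ^ 2 :=
    List.map_congr_left fun χ h => by rw [mul_pow, hv' χ h, mul_one]
  have h4 := fun χ => four_dvd_deg_sub hG (ot ▸ pow_orderOf_eq_one S.t) (S.hτ χ)
  have key := m12_tuples (T := R.toList.map fun χ : IrrCharacter G =>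
    (charDegree (χ : G → ℂ) * S.v χ, S.τ χ * S.u χ, S.τ χ ^ 2)) (by simpa using hl) (by
      simp only [List.forall_mem_map]
      intro χ h
      have a1 := List.single_le_sum (l := R.toList.map fun χ => S.τ χ ^ 2) (List.forall_mem_map.2 fun _ _ => sq_nonneg _) _
        (List.mem_map_of_mem h)
      have a2 := List.single_le_sum (l := R.toList.map fun χ : IrrCharacter G => (charDegree (χ : G → ℂ) : ℤ) ^ 2)
        (List.forall_mem_map.2 fun _ _ => sq_nonneg _) _ (List.mem_map_of_mem h)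
      rw [Finset.mem_toList] at h
      exact m12_mem (hR χ h).2.1 (hn ▸ χ.2.charDegree_dvd_card) (by omega) (by omega) (hv χ h) (S.uv χ) (h5 χ) (S.uτ χ) (h4 χ)
        (natAbs_lt_deg hG (hR χ h).1 (by rintro e; simp [e] at ot) (S.hτ χ)))
  simp only [List.map_map, Function.comp_def, List.forall_mem_map, e10] at key
  choose ν hν using fun χ : IrrCharacter G => show ∃ m : ℤ, fsIndicator (χ : G → ℂ) = m ∧ m ≤ 1 by
    rcases χ.2.fsIndicator_cases with h | h | h
    exacts [⟨0, by simp [h], by simp⟩, ⟨1, by simp [h], by simp⟩, ⟨-1, by simp [h], by simp⟩]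
  have f1 : ν S.s = 0 := by exact_mod_cast (hν _).1.symm.trans (S.s.2.fsIndicator_of_not_real S.nr.1)
  have f2 : ν S.s' = 0 := by exact_mod_cast (hν _).1.symm.trans (S.s'.2.fsIndicator_of_not_real S.nr.2)
  have f3 : 892 ≤ ∑ χ, ν χ * charDegree (χ : G → ℂ) := by
    have a1 := card_sqrt_eq_sum (1 : G)
    have a2 := card_sqrt_one_ge ot oz fun h => by
      rw [card_centralizer_eq_of_isConj h, cz] at ct; omega
    have a3 := (centralizer ({S.t} : Set G)).card_mul_index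
    have a4 := (centralizer ({S.z} : Set G)).card_mul_index
    have a5 := Nat.mul_le_mul_right (centralizer ({S.t} : Set G)).index (Nat.le_of_dvd (by norm_num) ct)
    simp only [hν, hD] at a1
    have a6 : (Nat.card {s : G // s * s = 1} : ℤ) = ∑ χ, ν χ * charDegree (χ : G → ℂ) := by exact_mod_cast a1
    rw [cz] at a4
    omega
  have f4 : ∀ χ, ν χ * charDegree (χ : G → ℂ) ≤ charDegree (χ : G → ℂ) := fun χ =>
    mul_le_of_le_one_left (by positivity) (hν χ).2
  rcases key (by omega) (by omega) (by omega) (by omega) with ⟨h1, h2⟩ | h1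
  · obtain ⟨l, h3, h6⟩ := exists_perm_map _ h1
    have h7 : ∑ χ ∈ Q, (charDegree (χ : G → ℂ) : ℤ) ^ 2 = 9075 := by
      have := ((h1.map (· ^ 2)).sum_eq)
      simp only [List.map_map, Function.comp_def, e10] at this
      norm_num at this e6; omega
    have h8 : ∀ χ ∈ Q, charDegree (χ : G → ℂ) = 55 := fun χ h => by
      have := abs_lt.1 (abs_lt_of_sq_lt_sq ((h7 ▸ Finset.single_le_sum (f := fun χ : IrrCharacter G =>
        (charDegree (χ : G → ℂ) : ℤ) ^ 2) (fun _ _ => sq_nonneg _) h).trans_lt (show 9075 < 110 ^ 2 by norm_num)) (by norm_num))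
      have := hQ χ h
      omega
    rw [Finset.sum_congr rfl fun χ h => by rw [h8 χ h], Finset.sum_const, nsmul_eq_mul] at h7
    obtain ⟨h₁, h₂, h₃, n1, n2, n3, rfl⟩ := Finset.card_eq_three.1 (show Q.card = 3 by omega)
    have h9 := h3.nodup_iff.2 R.nodup_toList
    obtain ⟨a, a', d, e, q, rfl⟩ := exists_of_length_five (h3.length_eq.trans hl)
    have split' : ∀ {M : Type} [AddCommMonoid M] (F : IrrCharacter G → M), ∑ χ, F χ = F (irrOne G) + F S.s + F S.s' +
        F S.m + F S.k + F S.c + F S.b + F a + F a' + F d + F e + F q + F h₁ + F h₂ + F h₃ := fun F => by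
      rw [split, ← (h3.map F).sum_eq, Finset.sum_insert (by simp [n1, n2]), Finset.sum_pair n3]
      simp [add_assoc]
    have h10 := fun χ h => h2 χ (h3.subset h)
    have h11 := fun χ h => hv χ (Finset.mem_toList.1 (h3.subset h))
    simp only [List.map_cons, List.map_nil, List.cons.injEq, List.forall_mem_cons, Finset.mem_insert,
      Finset.mem_singleton, forall_eq_or_imp, forall_eq, sq_eq_one_iff] at h6 h8 h10 h11
    obtain ⟨da, va⟩ := eq_of_mul_sign (by norm_num) h11.1 h6.1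
    obtain ⟨da', va'⟩ := eq_of_mul_sign (by norm_num) h11.2.1 h6.2.1
    obtain ⟨dd, vd⟩ := eq_of_mul_sign (by norm_num) h11.2.2.1 h6.2.2.1
    obtain ⟨de, ve⟩ := eq_of_mul_sign (by norm_num) h11.2.2.2.1 h6.2.2.2.1
    obtain ⟨dq, -⟩ := eq_of_mul_sign (by norm_num) h11.2.2.2.2.1 h6.2.2.2.2.1
    simp only [split', charDegree_irrOne, ds, ds', dm, dk, dc, db, f1, f2, da, da', dd, de, dq, h8, Int.reduceAbs,
      Int.natAbs_neg] at f3
    have h12 : ν a = 1 ∧ ν a' = 1 := by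
      have g := fun χ => (hν χ).2
      clear * - f3 g
      have := g (irrOne G); have := g S.m; have := g S.k; have := g S.c; have := g S.b; have := g a; have := g a'
      have := g d; have := g e; have := g q; have := g h₁; have := g h₂; have := g h₃
      omega
    have h13 : ∀ χ : IrrCharacter G, charDegree (χ : G → ℂ) % 4 = 3 → S.τ χ = 1 ∨ S.τ χ = -1 → S.τ χ = -1 := fun χ e e' => by
      have := h4 χ
      clear * - e e' this
      omega
    exact ⟨⟨S, a, a', d, e, q, h₁, h₂, h₃, split', fun e => by simp [e] at h9, ⟨da, da', dd, de, dq, h8⟩, ⟨va, va', vd, ve⟩,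
      ⟨h13 a (by rw [da]; rfl) (h10.1 (Or.inl h6.1)), h13 a' (by rw [da']; rfl) (h10.2.1 (Or.inl h6.2.1)),
        h13 e (by rw [de]; rfl) (h10.2.2.2.1 (Or.inr h6.2.2.2.1))⟩, by rw [(hν a).1, h12.1]; simp,
      by rw [(hν a').1, h12.2]; simp⟩⟩
  · have a1 := (h1.map (· ^ 2)).sum_eq
    have a2 := (h1.map (|·|)).sum_eq
    have a3 := List.sum_le_sum (l := R.toList) fun χ _ => f4 χ
    have a4 := Finset.sum_le_sum (s := Q) fun χ _ => f4 χ
    have := f4 (irrOne G); have := f4 S.m; have := f4 S.k; have := f4 S.c; have := f4 S.b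
    rw [List.map_map, List.map_congr_left (g := fun χ : IrrCharacter G => (charDegree (χ : G → ℂ) : ℤ)) fun χ h => by
      rcases hv χ (Finset.mem_toList.1 h) with e | e <;> simp [e]] at a2
    simp only [List.map_map, Function.comp_def, e10] at a1
    rw [split, f1, f2] at f3
    norm_num only [List.map_cons, List.map_nil, List.sum_cons, List.sum_nil] at a1 a2
    have := charDegree_irrOne G
    omega

end H19
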