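import Mathlib
import Cfsg.Agent.H19.Invol
import Cfsg.Agent.H14.Sharp

/-!
Sharp transitivity from fixed point counts (namespace H19).
* `sharp_of_prime`, `dvd_card_sub_fixedBy`, `card_fixedBy_lt`, `exists_isConj_mem_sylow`
-/

open H05 Cfsg MulAction

namespace H19

variable {G α : Type*} [Group G] [Finite G] [MulAction G α] [Fintype α]

theorem sharp_of_free {k : ℕ} (h : Nat.card G = (Fintype.card α).descFactorial k) (h1 : ∀ x : Fin k ↪ α, stabilizer G x = ⊥) :
    H14.Sharp G α k := by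
  refine ⟨⟨fun y z => ?_⟩, h1⟩
  have := (stabilizer G y).index_mul_card
  rw [h1, Subgroup.card_bot, ← h1 y, index_stabilizer, h, mul_one] at this
  exact ((Set.eq_univ_iff_ncard (orbit G y)).2 (by
    rw [this, Nat.card_eq_fintype_card, Fintype.card_embedding_eq, Fintype.card_fin])).ge (Set.mem_univ z)

theorem sharp_of_prime {k : ℕ} (h : Nat.card G = (Fintype.card α).descFactorial k)
    (hf : ∀ g : G, (orderOf g).Prime → Nat.card (fixedBy α g) < k) : H14.Sharp G α k := by
  refine sharp_of_free h fun x => by_contra fun e => ?_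
  obtain ⟨q, hq, h2⟩ := Nat.exists_prime_and_dvd (mt Subgroup.card_eq_one.1 e)
  have := Fact.mk hq
  obtain ⟨⟨g, h3⟩, h4⟩ := exists_prime_orderOf_dvd_card' q h2
  rw [Subgroup.orderOf_mk] at h4
  simpa using (Nat.card_le_card_of_injective (β := fixedBy α g) (fun i => ⟨x i, DFunLike.congr_fun h3 i⟩)
    fun i j e => x.injective (congrArg Subtype.val e)).trans_lt (hf g (h4 ▸ hq))

theorem dvd_card_sub_fixedBy {q k : ℕ} (hq : q.Prime) {g : G} (hg : g ^ q ^ k = 1) :
    (q : ℤ) ∣ Nat.card (fixedBy α g) - Fintype.card α :=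
  H07.dvd_sub_of_pElt (isCharacter_perm (G := G) α).isGeneralizedCharacter hq hg (Commute.one_right g) (by simp) (by simp)

theorem card_fixedBy_lt [IsSimpleGroup G] (h : ∃ (g : G) (x : α), g • x ≠ x) {g : G} (hg : g ≠ 1) :
    Nat.card (fixedBy α g) < Fintype.card α := by
  refine lt_of_le_of_ne (Nat.card_eq_fintype_card (α := α) ▸ Nat.card_le_card_of_injective _ Subtype.val_injective) fun e => ?_
  have := (Set.eq_univ_iff_ncard _).2 (e.trans Nat.card_eq_fintype_card.symm)
  exact hg (toPermHom_injective_of_simple h (Equiv.ext fun x => by simpa using this.ge (Set.mem_univ x)))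

theorem exists_isConj_mem_sylow {p : ℕ} [Fact p.Prime] (P : Sylow p G) {g : G} {k : ℕ} (hg : g ^ p ^ k = 1) :
    ∃ u ∈ (P : Subgroup G), IsConj g u := by
  obtain ⟨j, -, hj⟩ := (Nat.dvd_prime_pow Fact.out).1 (orderOf_dvd_of_pow_eq_one hg)
  obtain ⟨Q, hQ⟩ := (IsPGroup.of_card ((Nat.card_zpowers g).trans hj)).exists_le_sylow
  obtain ⟨c, rfl⟩ := exists_smul_eq G Q P
  exact ⟨_, ⟨g, hQ (Subgroup.mem_zpowers g), rfl⟩, isConj_iff.2 ⟨c, rfl⟩⟩

end H19
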