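import Mathlib
import Cfsg.Agent.H19.M12c
import Cfsg.Agent.H19.Cubic
import Cfsg.Agent.H19.SharpF
import Cfsg.Agent.H19.SharpU
import Cfsg.Agent.H19.RecM11

/-!
A simple group of order 95040 is sharply 5-transitive on 12 points (namespace H19).
* `classInner_sq_one`, `M12T.sq`, `M12T.exists_index`, `exists_m12T`, `exists_sharp12`, `isoM12_of_simple`
-/

set_option linter.unusedSectionVars false

open H05 Cfsg Classical Subgroup MulAction
open scoped ComplexConjugate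

namespace H19

theorem classInner_sq_one {G : Type*} [Group G] [Fintype G] {χ : IrrCharacter G} (h : fsIndicator (χ : G → ℂ) = 1) :
    (∀ g, ((χ : G → ℂ) g).im = 0) ∧ classInner (fun g => ((χ : G → ℂ) g ^ 2 + (χ : G → ℂ) (g * g)) / 2) 1 = 1 ∧
      classInner (fun g => ((χ : G → ℂ) g ^ 2 - (χ : G → ℂ) (g * g)) / 2) 1 = 0 := by
  have h1 : ∀ g, ((χ : G → ℂ) g).im = 0 := fun g => by_contra fun e => by
    simpa [h] using χ.2.fsIndicator_of_not_real ⟨g, e⟩
  have h2 := χ.2.classInner_self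
  simp only [classInner_def, fun g => Complex.conj_eq_iff_im.2 (h1 g), ← sq] at h2
  simp only [classInner_one_right, ← Finset.sum_div, Finset.sum_add_distrib, Finset.sum_sub_distrib]
  rw [fsIndicator] at h
  exact ⟨h1, by linear_combination h / 2 + h2 / 2, by linear_combination h2 / 2 - h / 2⟩

theorem m12_ar1 {s s' m k c b a a' d e q h₁ h₂ h₃ : ℕ} (h1 : (55 : ℤ) = (0 : ℕ) + 16 * s + 16 * s' + 144 * m + 120 * k + 54 * c +
    45 * b + 11 * a + 11 * a' + 66 * d + 99 * e + 176 * q + 55 * h₁ + 55 * h₂ + 55 * h₃)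
    (h2 : q = 0 → (0 : ℤ) = (0 : ℕ) + s + s' - m - c + a + a' + d - e) : s = 0 ∧ s' = 0 ∧ m = 0 ∧ k = 0 ∧ c = 0 ∧ b = 0 ∧ a = 0 ∧
      a' = 0 ∧ d = 0 ∧ e = 0 ∧ q = 0 ∧ h₁ + h₂ + h₃ = 1 := by
  obtain ⟨rfl, rfl, rfl, rfl, rfl, h⟩ : m = 0 ∧ k = 0 ∧ d = 0 ∧ e = 0 ∧ q = 0 ∧ c ≤ 1 := by
    replace h1 := h1.ge; clear h2; omega
  have := h2 rfl
  interval_cases c
  · obtain ⟨rfl, rfl, rfl, rfl⟩ : s = 0 ∧ s' = 0 ∧ a = 0 ∧ a' = 0 := by clear h1; omega
    omega
  · replace h1 := h1.ge; omega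

theorem m12_ar2 {s s' m k c b a a' d e q h₁ h₂ h₃ : ℕ} (h1 : (66 : ℤ) = (1 : ℕ) + 16 * s + 16 * s' + 144 * m + 120 * k + 54 * c +
    45 * b + 11 * a + 11 * a' + 66 * d + 99 * e + 176 * q + 55 * h₁ + 55 * h₂ + 55 * h₃)
    (h2 : q = 0 → (1 : ℤ) = (1 : ℕ) + s + s' - m - c + a + a' + d - e) : a + a' = 1 := by
  obtain ⟨rfl, rfl, rfl, rfl, rfl, h⟩ : m = 0 ∧ k = 0 ∧ d = 0 ∧ e = 0 ∧ q = 0 ∧ c ≤ 1 := by
    replace h1 := h1.ge; clear h2; omega
  have := h2 rfl
  interval_cases c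
  · obtain ⟨rfl, rfl, rfl, rfl⟩ : s = 0 ∧ s' = 0 ∧ a = 0 ∧ a' = 0 := by clear h1; omega
    omega
  · obtain ⟨rfl, rfl⟩ : s = 0 ∧ s' = 0 := by replace h1 := h1.ge; omega
    omega

theorem m12_ar3 {s s' m k c b d e q h₁ h₂ h₃ : ℕ} (h1 : (121 : ℤ) = (0 : ℕ) + 16 * s + 16 * s' + 144 * m + 120 * k + 54 * c +
    45 * b + 11 * (1 : ℕ) + 11 * (1 : ℕ) + 66 * d + 99 * e + 176 * q + 55 * h₁ + 55 * h₂ + 55 * h₃)
    (h2 : q = 0 → (1 : ℤ) = (0 : ℕ) + s + s' - m - c + (1 : ℕ) + (1 : ℕ) + d - e)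
    (h3 : s + s' + m + d + q + h₁ + h₂ + h₃ = 0 → (1 : ℤ) = (0 : ℕ) + 6 * c + 5 * b - (1 : ℕ) - (1 : ℕ) - e) : False := by
  obtain ⟨rfl, rfl, rfl, h⟩ : m = 0 ∧ k = 0 ∧ q = 0 ∧ c + e ≤ 1 := by
    replace h1 := h1.ge; clear h2 h3; omega
  have := h2 rfl
  obtain ⟨rfl, rfl, rfl, h'⟩ : s = 0 ∧ s' = 0 ∧ d = 0 ∧ c + e = 1 := by clear h1 h3; omega
  obtain ⟨rfl, rfl, rfl⟩ : h₁ = 0 ∧ h₂ = 0 ∧ h₃ = 0 := by replace h1 := h1.ge; clear h3; omega
  omega

theorem isPretransitive_of_prime {H β : Type*} [Group H] [Finite H] [MulAction H β] [Fintype β] {p : ℕ} (hp : p.Prime)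
    (hβ : Fintype.card β = p) {y : H} (hy : orderOf y = p) {b : β} (hb : y • b ≠ b) : IsPretransitive H β := by
  have h1 := (stabilizer (zpowers y) b).index_dvd_card
  rw [Nat.card_zpowers, hy, Nat.dvd_prime hp, index_eq_one, index_stabilizer] at h1
  have h2 := (Set.eq_univ_iff_ncard _).2 ((h1.resolve_left fun e => hb (e.ge (mem_top ⟨y, mem_zpowers y⟩))).trans
    (hβ.symm.trans Nat.card_eq_fintype_card.symm))
  exact (isPretransitive_iff_orbit_eq_univ b).2 (Set.eq_univ_of_univ_subset (h2.ge.trans (orbit_subgroup_subset _ _)))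

namespace M12T

variable {G : Type*} [Group G] [Fintype G] (T : M12T G)

/-- Interchange the two characters of degree 11. -/
def swap : M12T G :=
  { T with
    a := T.a', a' := T.a, sum := fun F => by rw [T.sum]; abel, ne := T.ne.symm
    deg' := ⟨T.deg'.2.1, T.deg'.1, T.deg'.2.2⟩, vv' := ⟨T.vv'.2.1, T.vv'.1, T.vv'.2.2⟩
    vτ' := ⟨T.vτ'.2.1, T.vτ'.1, T.vτ'.2.2⟩, fs := T.fs.symm }

theorem dec {θ : G → ℂ} (h : IsCharacter G θ) {n x y : ℤ} (h1 : θ 1 = n) (h2 : θ T.w = x) (h3 : θ T.t = y) :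
    ∃ m : IrrCharacter G → ℕ, (∀ ψ : IrrCharacter G, classInner θ ψ = m ψ) ∧
      (∀ g, θ g = ∑ ψ : IrrCharacter G, m ψ * (ψ : G → ℂ) g) ∧
      n = m (irrOne G) + 16 * m T.s + 16 * m T.s' + 144 * m T.m + 120 * m T.k + 54 * m T.c + 45 * m T.b + 11 * m T.a +
        11 * m T.a' + 66 * m T.d + 99 * m T.e + 176 * m T.q + 55 * m T.h₁ + 55 * m T.h₂ + 55 * m T.h₃ ∧
      (m T.q = 0 → x = m (irrOne G) + m T.s + m T.s' - m T.m - m T.c + m T.a + m T.a' + m T.d - m T.e) ∧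
      (m T.s + m T.s' + m T.m + m T.d + m T.q + m T.h₁ + m T.h₂ + m T.h₃ = 0 →
        y = m (irrOne G) + 6 * m T.c + 5 * m T.b - m T.a - m T.a' - m T.e) := by
  obtain ⟨m, h4, h5⟩ := h.exists_nat_coeff
  have h6 : ∀ g, θ g = ∑ ψ : IrrCharacter G, m ψ * (ψ : G → ℂ) g := fun g => by simpa using congrFun h5 g
  refine ⟨m, h4, h6, ?_, fun e => ?_, fun e => ?_⟩
  · have := h1.symm.trans (h6 1)
    simp only [T.sum, ← (Subtype.property (_ : IrrCharacter _)).charDegree_eq, T.deg, T.deg', charDegree_irrOne] at this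
    exact Int.cast_injective (α := ℂ) (by push_cast at this ⊢; linear_combination this)
  · have := h2.symm.trans (h6 _)
    have h7 : ∀ χ : IrrCharacter G, charDegree (χ : G → ℂ) = 55 → T.v χ = 0 := fun χ h => T.v0 χ (by omega)
    simp only [T.sum, irrOne_apply] at this
    simp only [T.hv, T.vv, T.vv', e, h7, T.deg'] at this
    exact Int.cast_injective (α := ℂ) (by push_cast at this ⊢; linear_combination this)
  · have := h3.symm.trans (h6 _)
    simp only [Nat.add_eq_zero_iff] at e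
    simp only [T.sum, irrOne_apply] at this
    simp only [T.hτ, T.vτ, T.vτ', e] at this
    exact Int.cast_injective (α := ℂ) (by push_cast at this ⊢; linear_combination this)

include T

theorem sq : (∃ M : Subgroup G, M.index = 12) ∨ classInner (fun g => (T.a : G → ℂ) g ^ 2) T.a' = 1 := by
  obtain ⟨h1, h2, h3⟩ := classInner_sq_one T.fs.1
  have h4 : T.t * T.t = 1 := by rw [← _root_.sq, ← T.ord.2.1, pow_orderOf_eq_one]
  have h5 : (T.a : G → ℂ) 1 = 11 := by rw [← T.a.2.charDegree_eq, T.deg'.1]; norm_num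
  obtain ⟨m, e1, -, e2, e3, -⟩ := T.dec T.a.2.isCharacter.symSq (n := 66) (x := 1) (y := 6)
    (by simp only [mul_one, h5]; norm_num) (by simp only [T.hv, T.hv', T.vv'.1]; norm_num)
    (by simp only [h4, h5, T.hτ, T.vτ'.1]; norm_num)
  obtain ⟨k, f1, f4, f2, f3, -⟩ := T.dec T.a.2.isCharacter.altSq (n := 55) (x := 0) (y := -5)
    (by simp only [mul_one, h5]; norm_num) (by simp only [T.hv, T.hv', T.vv'.1]; norm_num)
    (by simp only [h4, h5, T.hτ, T.vτ'.1]; norm_num)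
  have e4 : m (irrOne G) = 1 := Nat.cast_eq_one.1 ((e1 (irrOne G)).symm.trans h2)
  have f5 : k (irrOne G) = 0 := Nat.cast_eq_zero.1 ((f1 (irrOne G)).symm.trans h3)
  have h6 : ∀ ψ : IrrCharacter G, classInner (fun g => (T.a : G → ℂ) g ^ 2) ψ = m ψ + k ψ := fun ψ => by
    rw [← e1, ← f1, ← classInner_add_left]
    exact congrArg (classInner · _) (funext fun g => by simp; ring)
  rw [e4] at e2 e3
  rw [f5] at f2 f3
  have e5 := m12_ar2 e2 e3
  obtain ⟨f6, f7, f8, f9, f10, f11, f12, f13, f14, f15, f16, f17⟩ := m12_ar1 f2 f3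
  simp only [T.sum, f5, f6, f7, f8, f9, f10, f11, f12, f13, f14, f15, f16, Nat.cast_zero, zero_mul, zero_add] at f4
  obtain ⟨ψ, h7, h8⟩ : ∃ ψ : IrrCharacter G, charDegree (ψ : G → ℂ) = 55 ∧
      ∀ g, (ψ : G → ℂ) g = ((T.a : G → ℂ) g ^ 2 - (T.a : G → ℂ) (g * g)) / 2 := by
    rcases (by clear * - f17; omega : k T.h₁ = 1 ∧ k T.h₂ = 0 ∧ k T.h₃ = 0 ∨ k T.h₁ = 0 ∧ k T.h₂ = 1 ∧ k T.h₃ = 0 ∨
      k T.h₁ = 0 ∧ k T.h₂ = 0 ∧ k T.h₃ = 1) with h | h | h
    exacts [⟨T.h₁, by simp [T.deg'], fun g => by simp [f4, h]⟩, ⟨T.h₂, by simp [T.deg'], fun g => by simp [f4, h]⟩,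
      ⟨T.h₃, by simp [T.deg'], fun g => by simp [f4, h]⟩]
  rcases (by clear * - e5; omega : m T.a = 1 ∨ m T.a' = 1) with h | h
  · have := exists_index_of_cubic h1 h8 (fun e => by
      simp [e, charDegree_eq_of_apply_one (χ := (1 : G → ℂ)) (n := 1)] at h7) (fun e => by simp [e, T.deg'] at h7)
      (by simp [h6, h, f12])
    exact Or.inl (by rwa [T.deg'.1] at this)
  · exact Or.inr (by simp [h6, h, f13])

theorem exists_index : ∃ M : Subgroup G, M.index = 12 := by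
  refine T.sq.elim id fun h1 => T.swap.sq.elim id fun h2 => ?_
  change classInner (fun g => (T.a' : G → ℂ) g ^ 2) T.a = 1 at h2
  have c1 := fun g => Complex.conj_eq_iff_im.2 ((classInner_sq_one T.fs.1).1 g)
  have c2 := fun g => Complex.conj_eq_iff_im.2 ((classInner_sq_one T.fs.2).1 g)
  obtain ⟨m, e1, -, e2, e3, e4⟩ := T.dec (T.a.2.isCharacter.mul T.a'.2.isCharacter) (n := 121) (x := 1) (y := 1)
    (by simp only [Pi.mul_apply, ← (Subtype.property (_ : IrrCharacter _)).charDegree_eq, T.deg']; norm_num)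
    (by simp only [Pi.mul_apply, T.hv, T.vv']; norm_num) (by simp only [Pi.mul_apply, T.hτ, T.vτ']; norm_num)
  have e5 : m (irrOne G) = 0 := by
    have := classInner_irr T.a T.a'
    rw [if_neg T.ne] at this
    exact Nat.cast_eq_zero.1 ((e1 (irrOne G)).symm.trans (by simpa [classInner_def, c2] using this))
  have e6 : m T.a = 1 := Nat.cast_eq_one.1 ((e1 T.a).symm.trans (by
    simpa only [classInner_def, c1, c2, _root_.sq, Pi.mul_apply, mul_right_comm] using h1))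
  have e7 : m T.a' = 1 := Nat.cast_eq_one.1 ((e1 T.a').symm.trans (by
    simpa only [classInner_def, c1, c2, _root_.sq, Pi.mul_apply, mul_comm, mul_left_comm] using h2))
  rw [e5, e6, e7] at e2 e3 e4
  exact (m12_ar3 e2 e3 e4).elim

end M12T

variable {G : Type*} [Group G] [Finite G] [IsSimpleGroup G] (hn : Nat.card G = 95040)
include hn

theorem sharp_95040 {α : Type*} [Fintype α] [MulAction G α] [IsPretransitive G α] (hα : Fintype.card α = 12) :
    H14.Sharp G α 5 := by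
  obtain ⟨S⟩ := exists_m12S hn
  have p11 := Fact.mk (by norm_num : Nat.Prime 11)
  refine sharp_of_free (by rw [hn, hα]; rfl) fun x => ?_
  have h1 : Nat.card (stabilizer G (x 0)) = 7920 := by
    have := (stabilizer G (x 0)).index_mul_card
    rw [index_stabilizer_of_transitive, Nat.card_eq_fintype_card, hα] at this
    omega
  obtain ⟨y, hy⟩ := exists_prime_orderOf_dvd_card' (G := stabilizer G (x 0)) 11 (by omega)
  have h2 : Nat.card (centralizer ({y} : Set (stabilizer G (x 0)))) = 11 := by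
    refine Nat.dvd_antisymm ?_ (hy ▸ orderOf_dvd_natCard _ (mem_centralizer_singleton_iff.2 rfl))
    rw [← (S.c11 y (by rw [orderOf_coe, hy])).2, ← card_subtype]
    exact card_dvd_of_le (by
      rintro _ ⟨g, hg, rfl⟩
      exact mem_centralizer_singleton_iff.2 (congrArg Subtype.val (mem_centralizer_singleton_iff.1 hg)))
  have := simple_7920 h1 (sylow_of_selfC_7920 h1 hy h2)
  obtain ⟨T⟩ := exists_m11T h1
  have h3 := H14.Sharp.card_ofStab (G := G) (x 0)
  have : IsPretransitive (stabilizer G (x 0)) (SubMulAction.ofStabilizer G (x 0)) := by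
    have : Nontrivial α := Fintype.one_lt_card_iff_nontrivial.1 (by omega)
    obtain ⟨b, hb⟩ := exists_ne (x 0)
    obtain ⟨g, rfl⟩ := exists_smul_eq G (x 0) b
    obtain ⟨b, hb⟩ : ∃ b, (y : G) • b ≠ b := by
      by_contra! h
      have := toPermHom_injective_of_simple ⟨g, _, hb⟩ ((Equiv.ext h : toPermHom G α y = 1).trans (map_one _).symm)
      simp [show y = 1 from Subtype.ext this] at hy
    exact isPretransitive_of_prime p11.out (by omega) hy (b := ⟨b, by rintro rfl; exact hb y.2⟩)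
      fun e => hb (congrArg Subtype.val e)
  have h4 := (T.sharp h1 (α := SubMulAction.ofStabilizer G (x 0)) (by omega)).2
    ⟨fun i => ⟨x i.succ, x.injective.ne i.succ_ne_zero⟩, fun i j e => Fin.succ_injective _ (x.injective (congrArg Subtype.val e))⟩
  refine eq_bot_iff.2 fun g hg => ?_
  exact congrArg Subtype.val (mem_bot.1 (h4.le (show (⟨g, DFunLike.congr_fun hg 0⟩ : stabilizer G (x 0)) ∈ _ from
    Function.Embedding.ext fun i => Subtype.ext (DFunLike.congr_fun hg i.succ))))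

theorem exists_sharp12 : ∃ (M : Subgroup G) (_ : Fintype (G ⧸ M)), Fintype.card (G ⧸ M) = 12 ∧ H14.Sharp G (G ⧸ M) 5 := by
  have := Fintype.ofFinite G
  obtain ⟨S⟩ := exists_m12S hn
  obtain ⟨T⟩ := S.exists_m12T hn
  obtain ⟨M, hM⟩ := T.exists_index
  have := Fintype.ofFinite (G ⧸ M)
  exact ⟨M, this, Nat.card_eq_fintype_card.symm.trans hM, sharp_95040 hn (Nat.card_eq_fintype_card.symm.trans hM)⟩

theorem isoM12_of_simple : Spor.IsoM12 G := by
  have := H14.simple_M12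
  obtain ⟨M, _, h1, h2⟩ := exists_sharp12 hn
  obtain ⟨M', _, h1', h2'⟩ := exists_sharp12 H14.card_M12
  exact sharp12_equiv h2 h1 h2' h1'

end H19
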