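import Mathlib
import Cfsg.Agent.H19.Invol
import Cfsg.Agent.H06.Degree
import Cfsg.Agent.H06.Clifford
import Cfsg.Prelude.Def_KGroupFacts

/-!
The normal closure of a Sylow subgroup of prime order (namespace H19).
* `le_centralizer_of_normal`, `le_center_of_normalClosure`, `simple_quot_normalClosure`
* `dvd_deg_of_normal`, `exists_comp_of_deg`
* `center_eq_bot_of_mult`, `prod_of_out`, `A4_of_deg`
-/

open H05 Cfsg Classical Subgroup

namespace H19

variable {G : Type*} [Group G] [Finite G] {p : ℕ} [hp : Fact p.Prime]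

theorem le_centralizer_of_normal {x : G} (hx : orderOf x = p) {K : Subgroup G} [K.Normal] (hK : ¬ p ∣ Nat.card K)
    (h : ∀ q a, q.Prime → q ^ (a + 1) ∣ Nat.card K → q ^ (a + 1) % p ≠ 1) : K ≤ centralizer {x} := by
  rw [← inf_eq_left, eq_comm]
  refine le_antisymm (relIndex_eq_one.1 (by_contra fun e => ?_)) inf_le_left
  obtain ⟨q, hq, h0⟩ := Nat.exists_prime_and_dvd e
  have := Fact.mk hq
  obtain ⟨Q, h1, h2, h3, h4⟩ := H01.exists_invariant_sylow (A := zpowers x) (K := K) (H01.le_normalizer_of_normal _ _)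
    (by rw [Nat.card_zpowers, hx]; exact (Nat.Prime.coprime_iff_not_dvd hp.out).2 hK) (Or.inl inferInstance) q
  have h5 := card_inf_centralizer_modEq hx (h4 (mem_zpowers x))
  obtain ⟨c, h6⟩ := card_dvd_of_le (inf_le_left (a := Q) (b := centralizer ({x} : Set G)))
  obtain ⟨a, h7⟩ := h2.exists_card_eq
  obtain ⟨_ | b, -, rfl⟩ := (Nat.dvd_prime_pow hq).1 (h7 ▸ Dvd.intro_left _ h6.symm)
  · have := eq_of_le_of_card_ge (inf_le_left (a := Q) (b := centralizer ({x} : Set G))) (by rw [h6]; simp)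
    exact h3 (h0.trans (relIndex_dvd_of_le_left _ (le_inf h1 (this.ge.trans inf_le_right))))
  · rw [h6, ← mul_one (Nat.card _), mul_assoc, one_mul] at h5
    have := Nat.ModEq.cancel_left_of_coprime ((Nat.Prime.coprime_iff_not_dvd hp.out).2 fun e =>
      hK (e.trans (card_dvd_of_le (inf_le_left.trans h1)))) h5
    exact h q b hq ((Dvd.intro_left _ h6.symm).trans (card_dvd_of_le h1)) (Eq.trans this (Nat.mod_eq_of_lt hp.out.one_lt))

theorem mem_of_dvd_card (h2 : ¬ p ^ 2 ∣ Nat.card G) {M : Subgroup G} [M.Normal] (hM : p ∣ Nat.card M) {y : G}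
    (hy : orderOf y = p) : y ∈ M := by
  rw [← QuotientGroup.eq_one_iff, ← orderOf_eq_one_iff]
  refine ((Nat.dvd_prime hp.out).1 (hy ▸ orderOf_map_dvd (QuotientGroup.mk' M) y)).resolve_right fun e => h2 ?_
  rw [← M.card_mul_index, sq]
  exact mul_dvd_mul hM (e ▸ orderOf_dvd_natCard _)

theorem le_center_of_normalClosure {x : G} (hx : orderOf x = p) (h2 : ¬ p ^ 2 ∣ Nat.card G)
    (h : ∀ q a, q.Prime → q ^ (a + 1) ∣ Nat.card G → q ^ (a + 1) % p ≠ 1) (M : Subgroup (normalClosure ({x} : Set G)))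
    [M.Normal] (hM : M ≠ ⊤) : M ≤ center _ ∧ ¬ p ∣ Nat.card M := by
  have key : ∀ L : Subgroup (normalClosure ({x} : Set G)), (∀ y : normalClosure ({x} : Set G), orderOf y = p → y ∈ L) →
      L = ⊤ := fun L hL => eq_top_iff.2 fun y _ => by
    have : normalClosure {x} ≤ L.map (normalClosure ({x} : Set G)).subtype := (closure_le _).2 fun z hz => by
      obtain ⟨_, rfl, c, e⟩ := Group.mem_conjugatesOfSet_iff.1 hz
      exact ⟨⟨z, conjugatesOfSet_subset_normalClosure hz⟩, hL _ (by rw [orderOf_mk, ← e.orderOf_eq, hx]), rfl⟩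
    obtain ⟨z, hz, e⟩ := this y.2
    exact Subtype.ext e ▸ hz
  have h3 : ¬ p ∣ Nat.card M := fun e => hM (key M fun y =>
    mem_of_dvd_card (fun e => h2 (e.trans (card_subgroup_dvd_card _))) e)
  refine ⟨centralizer_eq_top_iff_subset.1 (key _ fun y hy m hm => ?_), h3⟩
  exact mem_centralizer_singleton_iff.1 (le_centralizer_of_normal hy h3 (fun q a hq e =>
    h q a hq (e.trans ((card_subgroup_dvd_card _).trans (card_subgroup_dvd_card _)))) hm)

theorem simple_quot_of_le_center {E : Type*} [Group E] (hE : ¬ IsMulCommutative E)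
    (h : ∀ M : Subgroup E, M.Normal → M ≠ ⊤ → M ≤ center E) :
    IsSimpleGroup (E ⧸ center E) ∧ ¬ IsMulCommutative (E ⧸ center E) ∧ commutator E = ⊤ := by
  have h1 : center E ≠ ⊤ := fun e => hE ⟨⟨fun a b => (mem_center_iff.1 (e.ge (mem_top b)) a)⟩⟩
  have := QuotientGroup.nontrivial_iff.2 h1
  have h2 : IsSimpleGroup (E ⧸ center E) := ⟨fun N hN => by
    by_cases e : N.comap (QuotientGroup.mk' _) = ⊤
    · exact Or.inr (comap_injective (QuotientGroup.mk'_surjective _) (e.trans (comap_top _).symm))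
    · refine Or.inl (eq_bot_iff.2 fun y hy => ?_)
      obtain ⟨y, rfl⟩ := QuotientGroup.mk'_surjective _ y
      exact (QuotientGroup.eq_one_iff y).2 (h _ (hN.comap _) e hy)⟩
  have h3 : ¬ IsMulCommutative (E ⧸ center E) := fun h3 => by
    have : IsCyclic (E ⧸ center E) := by
      open scoped IsMulCommutative in exact IsSimpleGroup.isCyclic
    exact hE (isMulCommutative_of_isCyclic_quotient_center_self E)
  exact ⟨h2, h3, by_contra fun e => h3 (Subgroup.Normal.quotient_commutative_iff_commutator_le.2 (h _ inferInstance e))⟩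

theorem dvd_deg_of_normal (h2 : ¬ p ^ 2 ∣ Nat.card G) {N : Subgroup G} [N.Normal] [Fintype N] (hN : p ∣ Nat.card N)
    {χ : G → ℂ} (hχ : IsIrrCharacter G χ) (hd : p ∣ charDegree χ) {θ : N → ℂ} (hθ : IsIrrCharacter N θ)
    (h : classInner (fun n : N => χ n) θ ≠ 0) : p ∣ charDegree θ := by
  have := Fintype.ofFinite G
  obtain ⟨x, hx⟩ := exists_prime_orderOf_dvd_card' p hN
  have h3 := congrFun (H06.clifford_finset N hχ hθ h) x
  rw [hχ.apply_eq_zero_of_defect_zero hp.out (not_dvd_div_of_pow_dvd (n := 1) h2 (by rwa [pow_one]) hχ.charDegree_dvd_card)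
    (by rw [orderOf_coe, hx])] at h3
  have h4 := H07.dvd_sub_of_pElt (α := ∑ ψ ∈ Finset.univ.image (fun g => H06.conjFun N g θ), ψ)
    (IsGeneralizedCharacter.sum _ fun ψ hψ => by
      obtain ⟨g, -, rfl⟩ := Finset.mem_image.1 hψ
      exact (H06.isIrr_conjFun N hθ g).isGeneralizedCharacter) (k := 1) hp.out (by rw [pow_one, ← hx, pow_orderOf_eq_one])
    (Commute.one_right x) (a := 0) (b := (H06.inertia N θ).index * charDegree θ) (by simpa [h] using h3.symm) (by
      rw [Finset.sum_apply, Finset.sum_congr rfl (g := fun _ => θ 1) fun ψ hψ => by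
        obtain ⟨g, -, rfl⟩ := Finset.mem_image.1 hψ
        exact H06.conjFun_apply_one N g θ]
      simp [H06.card_image_conjFun, hθ.charDegree_eq])
  rw [zero_sub, dvd_neg] at h4
  refine ((Nat.Prime.dvd_mul hp.out).1 (by exact_mod_cast h4)).resolve_left fun e => h2 ?_
  rw [← N.card_mul_index, sq]
  exact mul_dvd_mul hN (e.trans (index_dvd_of_le (H06.le_inertia N hθ.isClassFunction)))

theorem exists_comp_of_deg (h2 : ¬ p ^ 2 ∣ Nat.card G)
    (h : ∀ q a, q.Prime → q ^ (a + 1) ∣ Nat.card G → q ^ (a + 1) % p ≠ 1) {χ : G → ℂ} (hχ : IsIrrCharacter G χ)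
    (hd : p ∣ charDegree χ) : ∃ E : Subgroup G, E.Normal ∧ IsSimpleGroup (E ⧸ center E) ∧
      ¬ IsMulCommutative (E ⧸ center E) ∧ commutator E = ⊤ ∧ p ∣ Nat.card (E ⧸ center E) := by
  obtain ⟨x, hx⟩ := exists_prime_orderOf_dvd_card' p (hd.trans hχ.charDegree_dvd_card)
  have h3 : p ∣ Nat.card (normalClosure ({x} : Set G)) := hx ▸ orderOf_dvd_natCard _ (subset_normalClosure rfl)
  have h4 : ¬ IsMulCommutative (normalClosure ({x} : Set G)) := fun _ => h2 (by
    rw [← (normalClosure ({x} : Set G)).card_mul_index, sq]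
    exact mul_dvd_mul h3 (hd.trans (H06.ito_charDegree_dvd_index hχ _)))
  obtain ⟨h5, h6, h7⟩ := simple_quot_of_le_center h4 fun M _ e => (le_center_of_normalClosure hx h2 h M e).1
  refine ⟨_, inferInstance, h5, h6, h7, ((Nat.Prime.dvd_mul hp.out).1 ((center (normalClosure ({x} : Set G))).card_mul_index ▸ h3)).resolve_left
    (le_center_of_normalClosure hx h2 h _ fun e => h4 ⟨⟨fun a b => (mem_center_iff.1 (e.ge (mem_top b)) a)⟩⟩).2⟩

theorem center_eq_bot_of_mult {E : Type*} [Group E] [Finite E] {M : Type} [Group M] (hM : HasCyclicSchurMultiplier M 1)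
    (e : E ⧸ center E ≃* M) (h : commutator E = ⊤) : center E = ⊥ := by
  let f : Shrink.{0} E ≃* E := Shrink.mulEquiv
  have := Finite.of_equiv _ f.symm.toEquiv
  let σ := (e.toMonoidHom.comp (QuotientGroup.mk' _)).comp f.toMonoidHom
  have h1 : ∀ y, y ∈ σ.ker ↔ f y ∈ center E := fun y => e.map_eq_one_iff.trans (QuotientGroup.eq_one_iff _)
  obtain ⟨π, hπ⟩ := hM.2 _ σ ⟨(e.surjective.comp (QuotientGroup.mk'_surjective _)).comp f.surjective, fun y hy =>
    mem_center_iff.2 fun z => f.injective (by simpa using mem_center_iff.1 ((h1 y).1 hy) (f z)), by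
      have := congrArg (map f.symm.toMonoidHom) h
      rw [_root_.commutator, map_commutator, map_top_of_surjective _ f.symm.surjective] at this
      exact le_top.trans this.ge⟩
  have := hπ.subsingleton
  exact eq_bot_iff.2 fun y hy => f.symm.injective (by
    simpa using congrArg Subtype.val (Subsingleton.elim (⟨f.symm y, (h1 _).2 (by simpa)⟩ : σ.ker) 1))

theorem prod_of_out {E : Subgroup G} [E.Normal] (h1 : center E = ⊥) (h2 : Nat.card (Out E) = 1) :
    Nonempty (G ≃* centralizer (E : Set G) × E) := by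
  have hc : ∀ c y, Commute ((centralizer (E : Set G)).subtype c) (E.subtype y) := fun c y => (c.2 y y.2).symm
  refine ⟨(MulEquiv.ofBijective (MonoidHom.noncommCoprod (Subgroup.subtype _) E.subtype hc) ⟨?_, fun g => ?_⟩).symm⟩
  · rw [MonoidHom.noncommCoprod_injective, range_subtype, range_subtype, disjoint_iff, eq_bot_iff]
    exact ⟨subtype_injective _, subtype_injective _, fun y hy => congrArg Subtype.val (mem_bot.1 (h1.le
      (show (⟨y, hy.2⟩ : E) ∈ center E from mem_center_iff.2 fun z => Subtype.ext (hy.1 z z.2))))⟩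
  · have := (Nat.card_eq_one_iff_unique.1 h2).1
    obtain ⟨y, hy⟩ := (QuotientGroup.eq_one_iff (N := Inn E) (MulAut.conjNormal g)).1 (Subsingleton.elim _ _)
    refine ⟨(⟨g * (y : G)⁻¹, fun z hz => ?_⟩, y), by simp⟩
    have := congrArg Subtype.val (DFunLike.congr_fun hy (y⁻¹ * ⟨z, hz⟩ * y))
    simp only [MulAut.conj_apply, MulAut.conjNormal_apply, coe_mul, coe_inv] at this
    calc z * (g * (y : G)⁻¹) = y * ((y : G)⁻¹ * z * y) * (y : G)⁻¹ * (g * (y : G)⁻¹) := by group
      _ = _ := by rw [this]; group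

theorem A4_of_deg (h : Nat.card G = 12) {χ : G → ℂ} (hχ : IsIrrCharacter G χ) (hd : 3 ∣ charDegree χ) :
    Nonempty (G ≃* alternatingGroup (Fin 4)) := by
  have := Fact.mk Nat.prime_three
  obtain ⟨x, hx⟩ := exists_prime_orderOf_dvd_card' (G := G) 3 (by omega)
  have h1 := (zpowers x).card_mul_index
  rw [Nat.card_zpowers, hx] at h1
  have h2 : (zpowers x).normalCore = ⊥ := by
    rcases (Nat.dvd_prime Nat.prime_three).1 (hx ▸ Nat.card_zpowers x ▸ card_dvd_of_le (zpowers x).normalCore_le) with e | e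
    · exact card_eq_one.1 e
    · have : IsMulCommutative (zpowers x).normalCore := ⟨⟨fun a b => Subtype.ext
        (mul_comm_of_mem_isMulCommutative _ ((zpowers x).normalCore_le a.2) ((zpowers x).normalCore_le b.2))⟩⟩
      have := hd.trans (H06.ito_charDegree_dvd_index hχ (zpowers x).normalCore)
      have := (zpowers x).normalCore.card_mul_index
      rw [e] at this
      omega
  obtain ⟨e⟩ : Nonempty (G ⧸ zpowers x ≃ Fin 4) := ⟨Finite.equivFinOfCardEq (show (zpowers x).index = 4 by omega)⟩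
  let f := e.permCongrHom.toMonoidHom.comp (MulAction.toPermHom G (G ⧸ zpowers x))
  have h3 : Function.Injective f := e.permCongrHom.injective.comp
    ((MonoidHom.ker_eq_bot_iff _).1 ((normalCore_eq_ker _).symm.trans h2))
  have h4 := f.range.card_mul_index
  rw [← Nat.card_congr (MonoidHom.ofInjective h3).toEquiv, h, Nat.card_perm, Nat.card_fin] at h4
  exact ⟨(MonoidHom.ofInjective h3).trans (MulEquiv.subgroupCongr (Equiv.Perm.eq_alternatingGroup_of_index_eq_two (by
    norm_num [Nat.factorial] at h4; omega)))⟩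

end H19
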