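import Mathlib
import Cfsg.Agent.H19.M12b

/-!
The multiset of character degrees and searches through principal blocks of defect one (namespace H19).
* `degs G`, `Sv.bl`, `PB.bl_le`, `PB.filter_degs`, `PB.search`
* `PB.exc_sq`, `PB.two_re`, `PB.val_bmod` : values on elements of order `p`
* `exists_parts` : degrees of the constituents of a character
-/

set_option linter.unusedSectionVars false

open H05 Cfsg Classical Subgroup
open scoped ComplexConjugate

namespace H19

/-- The multiset of the degrees of the irreducible characters. -/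
noncomputable def degs (G : Type*) [Group G] [Finite G] : Multiset ℕ :=
  (Finset.univ : Finset (IrrCharacter G)).val.map fun χ : IrrCharacter G => charDegree (χ : G → ℂ)

namespace Sv

/-- The degrees in a block. -/
def bl (t : ℕ) (y : ℤ) (l : List ℤ) : List ℕ := 1 :: (List.replicate t y.natAbs ++ l.map Int.natAbs)

/-- All solutions of the degree equation with degrees in `D` pass the test `fin`. -/
def chk2 (D : List ℕ) (b p e : ℕ) (fin : ℤ → List ℤ → Bool) : Bool :=
  let C := D.flatMap fun d : ℕ => [(d : ℤ), -(d : ℤ)]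
  let X := C.filter fun s : ℤ => (s - 1) % p == 0
  (C.filter fun s : ℤ => (s + e) % p == 0).all fun y => decide (b < 1 + (p - 1) / e * y.natAbs ^ 2) ||
    srch (fun l => !(1 + y + l.sum == 0) || fin y l) (X.length + e) X (e - 1) (b - (1 + (p - 1) / e * y.natAbs ^ 2)) []

/-- The divisors of `n` with prescribed residues are listed in `D`. -/
def degChk (n B : ℕ) (R : List (ℕ × List ℕ)) (D : List ℕ) : Bool :=
  (List.range B).all fun d => decide (d < 2) || n % d != 0 || (R.any fun q => !q.2.contains (d % q.1)) || D.contains d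

theorem degChk_sound {n B : ℕ} {R : List (ℕ × List ℕ)} {D : List ℕ} (h : degChk n B R D = true) {d : ℕ}
    (h1 : d < B ∧ 2 ≤ d ∧ n % d = 0) (h2 : ∀ q ∈ R, d % q.1 ∈ q.2) : d ∈ D := by
  have := List.all_eq_true.1 h d (List.mem_range.2 h1.1)
  simp only [Bool.or_eq_true, decide_eq_true_eq, bne_iff_ne, List.any_eq_true, Bool.not_eq_true', List.contains_eq_mem,
    decide_eq_false_iff_not] at this
  rcases this with ((h | h) | ⟨q, h, h'⟩) | h
  exacts [by omega, absurd h1.2.2 h, absurd (h2 q h) h', h]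

/-- Twice the real part of the value on an element of order `p`. -/
def rv (p d : ℕ) : ℤ := (2 * d + 2) % p - 2

theorem rv_eq {p d : ℕ} {v : ℤ} (h : (p : ℤ) ∣ 2 * d - v) (h1 : -2 ≤ v) (h2 : v ≤ 2) (hp : 5 ≤ p) : rv p d = v := by
  obtain ⟨k, hk⟩ := h
  rw [rv, show 2 * (d : ℤ) + 2 = v + 2 + p * k by omega, Int.add_mul_emod_self_left, Int.emod_eq_of_lt (by omega) (by omega)]
  ring

/-- Search through all multisets with given sum. -/
def parts (fin : List ℕ → Bool) : ℕ → List ℕ → ℕ → List ℕ → Bool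
  | _, _, 0, acc => fin acc
  | _, [], _ + 1, _ => true
  | 0, _ :: _, _ + 1, _ => false
  | f + 1, c :: cs, n + 1, acc => parts fin f cs (n + 1) acc &&
      (decide (n + 1 < c) || parts fin f (c :: cs) (n + 1 - c) (c :: acc))

theorem parts_sound {fin : List ℕ → Bool} {f : ℕ} {cs : List ℕ} {n : ℕ} {acc : List ℕ} (h : parts fin f cs n acc = true)
    {l : Multiset ℕ} (h1 : l.sum = n) (h2 : ∀ s ∈ l, s ∈ cs ∧ 0 < s) :
    ∃ l' : List ℕ, (l' : Multiset ℕ) = l + acc ∧ fin l' = true := by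
  have h0 : ∀ {cs : List ℕ} {l : Multiset ℕ}, l.sum = 0 → (∀ s ∈ l, s ∈ cs ∧ 0 < s) → l = 0 := fun h1 h2 =>
    Multiset.eq_zero_of_forall_notMem fun s hs => (h2 s hs).2.ne' (Multiset.sum_eq_zero_iff.1 h1 s hs)
  have h3 : ∀ {l : Multiset ℕ} {n}, l.sum = n + 1 → ∃ s, s ∈ l := fun h1 =>
    Multiset.exists_mem_of_ne_zero (by rintro rfl; simp at h1)
  induction f generalizing cs n acc l with
  | zero =>
    rcases n with _ | n
    · exact ⟨acc, by simp [h0 h1 h2], by simpa [parts] using h⟩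
    obtain ⟨s, hs⟩ := h3 h1
    rcases cs with _ | ⟨c, cs⟩
    · simpa using (h2 s hs).1
    · simp [parts] at h
  | succ f ih =>
    rcases n with _ | n
    · exact ⟨acc, by simp [h0 h1 h2], by simpa [parts] using h⟩
    obtain ⟨s, hs⟩ := h3 h1
    rcases cs with _ | ⟨c, cs⟩
    · simpa using (h2 s hs).1
    rw [parts, Bool.and_eq_true, Bool.or_eq_true, decide_eq_true_eq] at h
    by_cases hc : c ∈ l
    · obtain ⟨l, rfl⟩ := Multiset.exists_cons_of_mem hc
      rw [Multiset.sum_cons] at h1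
      obtain ⟨l', e, h4⟩ := ih (h.2.resolve_left (by omega)) (l := l) (by omega)
        (fun t ht => h2 t (Multiset.mem_cons_of_mem ht))
      exact ⟨l', by rw [e, ← Multiset.cons_coe, Multiset.add_cons, Multiset.cons_add], h4⟩
    · exact ih h.1 h1 fun t ht => ⟨(List.mem_cons.1 (h2 t ht).1).resolve_left fun e => hc (e ▸ ht), (h2 t ht).2⟩

end Sv

variable {G : Type*} [Group G] [Finite G]

theorem map_deg_le_degs {L : List (IrrCharacter G)} (hL : L.Nodup) :
    ((L.map fun χ : IrrCharacter G => charDegree (χ : G → ℂ) : List ℕ) : Multiset ℕ) ≤ degs G := by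
  rw [← Multiset.map_coe]
  exact Multiset.map_le_map ((Multiset.le_iff_subset (Multiset.coe_nodup.2 hL)).2 fun χ _ => Finset.mem_univ χ)

theorem mem_degs {d : ℕ} : d ∈ degs G ↔ ∃ χ : IrrCharacter G, charDegree (χ : G → ℂ) = d := by simp [degs]

theorem sum_sq_le_of_le_degs {M : List ℕ} (h : (M : Multiset ℕ) ≤ degs G) : (M.map (· ^ 2)).sum ≤ Nat.card G := by
  obtain ⟨u, hu⟩ := Multiset.le_iff_exists_add.1 h
  have : ((degs G).map (· ^ 2)).sum = Nat.card G := by
    rw [← sum_charDegree_sq, degs, Multiset.map_map]; rfl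
  rw [← this, hu, Multiset.map_add, Multiset.sum_add, Multiset.map_coe, Multiset.sum_coe]
  exact Nat.le_add_right _ _

theorem eq_of_count_degs {d : ℕ} (h : (degs G).count d ≤ 1) {χ ψ : IrrCharacter G} (h1 : charDegree (χ : G → ℂ) = d)
    (h2 : charDegree (ψ : G → ℂ) = d) : ψ = χ := by_contra fun e => by
  have := Multiset.count_le_of_le d (map_deg_le_degs (L := [ψ, χ]) (by simpa using e))
  simp [h1, h2] at this
  omega

theorem add_filter_le_degs {p : ℕ} {B M : List ℕ} (h1 : (B : Multiset ℕ) ≤ degs G) (h2 : ∀ d ∈ B, ¬ p ∣ d)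
    (h3 : (M : Multiset ℕ) ≤ degs G) : ((B ++ M.filter fun d => d % p == 0 : List ℕ) : Multiset ℕ) ≤ degs G := by
  rw [← Multiset.coe_add, ← Multiset.filter_add_not (fun d => ¬ p ∣ d) (degs G)]
  refine add_le_add (Multiset.le_filter.2 ⟨h1, h2⟩) (Multiset.le_filter.2 ⟨(Multiset.coe_le.2 ?_).trans h3, ?_⟩)
  · exact List.filter_sublist.subperm
  · simp [Nat.dvd_iff_mod_eq_zero]

theorem exists_list_of_char {θ : G → ℂ} (h : IsCharacter G θ) :
    ∃ L : List (IrrCharacter G), ∀ g, θ g = (L.map fun ψ : IrrCharacter G => (ψ : G → ℂ) g).sum := by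
  have := Fintype.ofFinite G
  obtain ⟨m, -, h1⟩ := h.exists_nat_coeff
  refine ⟨Finset.univ.toList.flatMap fun ψ => List.replicate (m ψ) ψ, fun g => ?_⟩
  simp [h1, List.map_flatMap, List.flatMap, List.sum_flatten, Function.comp_def, Finset.sum_map_toList]

theorem classInner_list [Fintype G] [BEq (IrrCharacter G)] [LawfulBEq (IrrCharacter G)] (L : List (IrrCharacter G)) (χ : IrrCharacter G) :
    classInner (fun g => (L.map fun ψ : IrrCharacter G => (ψ : G → ℂ) g).sum) χ = L.count χ := by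
  induction L with
  | nil => simp [classInner_def]
  | cons ψ L ih =>
    simp only [List.map_cons, List.sum_cons, List.count_cons, beq_iff_eq, Nat.cast_add, Nat.cast_ite, ← ih]
    rw [add_comm, Nat.cast_one, Nat.cast_zero, ← classInner_irr, ← classInner_add_left]
    rfl

theorem exists_parts {θ : G → ℂ} (h : IsCharacter G θ) {N : ℕ} (h1 : θ 1 = N) {D : List ℕ}
    (hD : ∀ χ : IrrCharacter G, charDegree (χ : G → ℂ) ≤ N → charDegree (χ : G → ℂ) ∈ D) {fin : List ℕ → Bool} {f : ℕ}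
    (hf : Sv.parts fin f D N [] = true) : ∃ L : List (IrrCharacter G),
      (∀ g, θ g = (L.map fun ψ : IrrCharacter G => (ψ : G → ℂ) g).sum) ∧
        fin (L.map fun ψ : IrrCharacter G => charDegree (ψ : G → ℂ)) = true := by
  obtain ⟨L, hL⟩ := exists_list_of_char h
  have h2 : (L.map fun ψ : IrrCharacter G => charDegree (ψ : G → ℂ)).sum = N := by
    have := h1.symm.trans (hL 1)
    simp only [← (Subtype.property (_ : IrrCharacter _)).charDegree_eq] at this
    exact Nat.cast_injective (R := ℂ) (by rw [Nat.cast_list_sum, List.map_map]; exact this.symm)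
  obtain ⟨l, h3, h4⟩ := Sv.parts_sound hf (l := (L.map fun ψ : IrrCharacter G => charDegree (ψ : G → ℂ) : List ℕ)) h2
    fun s hs => by
      obtain ⟨χ, e, rfl⟩ := List.mem_map.1 hs
      exact ⟨hD χ (h2 ▸ List.single_le_sum (by simp) _ hs), χ.2.charDegree_pos⟩
  obtain ⟨L', h5, rfl⟩ := exists_perm_map (fun ψ : IrrCharacter G => charDegree (ψ : G → ℂ)) (l := L) (m := l)
    (Multiset.coe_eq_coe.1 (by simpa using h3.symm))
  exact ⟨L', fun g => by rw [hL, (h5.map _).sum_eq], h4⟩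

theorem count_deg_list [BEq (IrrCharacter G)] [LawfulBEq (IrrCharacter G)] {χ : IrrCharacter G} {d : ℕ} (h1 : charDegree (χ : G → ℂ) = d)
    (h2 : ∀ ψ : IrrCharacter G, charDegree (ψ : G → ℂ) = d → ψ = χ) (L : List (IrrCharacter G)) :
    (L.map fun ψ : IrrCharacter G => charDegree (ψ : G → ℂ)).count d = L.count χ := by
  rw [List.count_eq_countP, List.count_eq_countP, List.countP_map]
  exact List.countP_congr fun ψ _ => by
    simp only [Function.comp_apply, beq_iff_eq]; exact ⟨h2 ψ, fun e => e ▸ h1⟩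

theorem classInner_list_deg [Fintype G] {θ : G → ℂ} {L : List (IrrCharacter G)}
    (h : ∀ g, θ g = (L.map fun ψ : IrrCharacter G => (ψ : G → ℂ) g).sum) {χ : IrrCharacter G} {d : ℕ}
    (h1 : charDegree (χ : G → ℂ) = d) (h2 : ∀ ψ : IrrCharacter G, charDegree (ψ : G → ℂ) = d → ψ = χ) :
    classInner θ χ = (L.map fun ψ : IrrCharacter G => charDegree (ψ : G → ℂ)).count d := by
  rw [count_deg_list h1 h2, ← classInner_list, funext h]

theorem deg_facts [IsSimpleGroup G] (hG : ¬ IsMulCommutative G) {n B : ℕ} (hn : Nat.card G = n) (hB : n < B ^ 2)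
    {χ : IrrCharacter G} (h : χ ≠ irrOne G) :
    charDegree (χ : G → ℂ) < B ∧ 2 ≤ charDegree (χ : G → ℂ) ∧ n % charDegree (χ : G → ℂ) = 0 := by
  have h1 := sum_sq_le_of_le_degs (map_deg_le_degs (List.nodup_singleton χ))
  have := mt (eq_irrOne_of_perfect (commutator_eq_top_of_simple hG)) h
  have := χ.2.charDegree_pos
  exact ⟨lt_of_pow_lt_pow_left₀ 2 B.zero_le (lt_of_le_of_lt (by simpa [hn] using h1) hB), by omega,
    Nat.mod_eq_zero_of_dvd (hn ▸ χ.2.charDegree_dvd_card)⟩

theorem exists_pb_of_syl [IsSimpleGroup G] (hG : ¬ IsMulCommutative G) {p : ℕ} (hp : p.Prime) (h1 : p ∣ Nat.card G)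
    (h2 : ¬ p ^ 2 ∣ Nat.card G) : ∃ r e X Y y, PB G p r e X Y y ∧ X.length + 1 = e ∧ 2 ≤ e ∧ e ∣ p - 1 ∧ r % p = 1 ∧
      Nat.card (Sylow p G) = r ∧ ∃ k, p * k * (e * r) = Nat.card G := by
  have := Fact.mk hp
  obtain ⟨r, e, X, Y, y, A, h3, h4⟩ := exists_pb hG hp h1 h2
  obtain ⟨x, hx⟩ := exists_prime_orderOf_dvd_card' p h1
  obtain ⟨k, hk⟩ : p ∣ Nat.card (centralizer ({x} : Set G)) :=
    hx ▸ orderOf_dvd_natCard _ (mem_centralizer_singleton_iff.2 rfl)
  exact ⟨r, e, X, Y, y, A, h4, h3, Dvd.intro_left _ A.lenY, A.syl ▸ Eq.trans (card_sylow_modEq_one p G) (Nat.mod_eq_of_lt hp.one_lt),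
    A.syl, k, hk ▸ A.cent x hx⟩

theorem re_of_sq {z : ℂ} {p : ℕ} (h : z ^ 2 = -p) (hp : 0 < p) : z.re = 0 := by
  have h6 := congrArg Complex.re h
  have h7 := congrArg Complex.im h
  simp only [sq, Complex.mul_re, Complex.mul_im, Complex.neg_re, Complex.neg_im, Complex.natCast_re, Complex.natCast_im,
    neg_zero, mul_comm (Complex.im _), ← two_mul, mul_eq_zero] at h6 h7
  have h8 : (0 : ℝ) < p := by exact_mod_cast hp
  rcases h7 with h7 | h7 | h7
  · norm_num at h7
  · exact h7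
  · rw [h7] at h6; nlinarith

namespace PB

variable {p r e : ℕ} {X : List (IrrCharacter G × ℤ)} {Y : List (IrrCharacter G)} {y : ℤ} (A : PB G p r e X Y y)
include A

theorem perm {X' : List (IrrCharacter G × ℤ)} (h : X'.Perm X) : PB G p r e X' Y y :=
  have h1 := ((h.map Prod.fst).append_left Y).cons (irrOne G)
  ⟨h1.nodup_iff.2 A.nodup, fun x hx => A.degX x (h.subset hx), fun x hx => A.valX x (h.subset hx), A.degY, A.valY, A.lenY,
    fun M hM χ => (A.blk M hM χ).trans h1.mem_iff.symm, fun ψ h2 g hg => by rw [(h.map _).sum_eq]; exact A.reg ψ h2 g hg,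
    A.val0, fun h2 χ h3 => h1.symm.subset (A.all h2 χ h3), A.cent, A.cls, A.syl, A.bot⟩

theorem perm' {l : List ℤ} (h : (X.map Prod.snd).Perm l) : ∃ X', PB G p r e X' Y y ∧ X'.map Prod.snd = l :=
  (exists_perm_map _ h).imp fun _ h => ⟨A.perm h.1, h.2⟩

variable (hp : p.Prime)
include hp

theorem length_Y : Y.length = (p - 1) / e := by
  rw [← A.lenY, Nat.mul_div_cancel _ (Nat.pos_of_mul_pos_left (A.lenY ▸ Nat.sub_pos_of_lt hp.one_lt))]

theorem map_deg : (irrOne G :: (Y ++ X.map Prod.fst)).map (fun χ : IrrCharacter G => charDegree (χ : G → ℂ)) =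
    Sv.bl ((p - 1) / e) y (X.map Prod.snd) := by
  rw [Sv.bl, List.map_cons, charDegree_irrOne, List.map_append, ← A.length_Y hp, List.map_map, List.map_map,
    List.map_congr_left A.degY, List.map_const']
  exact congrArg _ (congrArg _ (List.map_congr_left A.degX))

theorem bl_le : (Sv.bl ((p - 1) / e) y (X.map Prod.snd) : Multiset ℕ) ≤ degs G := A.map_deg hp ▸ map_deg_le_degs A.nodup

theorem eqn : 1 + y + (X.map Prod.snd).sum = 0 := by
  obtain ⟨ψ, hψ⟩ := List.exists_mem_of_length_pos (Nat.pos_of_mul_pos_right (A.lenY ▸ Nat.sub_pos_of_lt hp.one_lt))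
  have := A.reg ψ hψ 1 (by simpa using hp.ne_one)
  rw [List.map_congr_left (g := fun x => ((x.2 : ℤ) : ℂ)) fun x hx => by
    rw [← x.1.2.charDegree_eq, A.degX x hx, ← Int.cast_natCast, ← Int.cast_mul, Int.sign_mul_natAbs],
    ← ψ.2.charDegree_eq, A.degY ψ hψ, ← Int.cast_natCast, ← Int.cast_mul, Int.sign_mul_natAbs] at this
  exact Int.cast_injective (α := ℂ) (by simpa [List.map_map, Function.comp_def] using this)

variable (h1 : p ∣ Nat.card G)
include h1

theorem congX : ∀ s ∈ X.map Prod.snd, (p : ℤ) ∣ s - 1 := by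
  have := Fact.mk hp
  obtain ⟨g, hg⟩ := exists_prime_orderOf_dvd_card' p h1
  simp only [List.forall_mem_map]
  intro x hx
  have h2 := dvd_deg_sub_of_pow hp (k := 1) (by rw [pow_one, ← hg, pow_orderOf_eq_one]) (A.valX x hx g hg.symm.dvd)
  have h3 := A.degX x hx ▸ x.1.2.charDegree_pos
  rw [A.degX x hx] at h2
  rcases lt_trichotomy x.2 0 with h | h | h
  · rw [Int.sign_eq_neg_one_of_neg h] at h2
    rw [Int.natCast_natAbs, abs_of_neg h] at h2
    exact dvd_neg.1 (by rwa [neg_sub, sub_eq_neg_add, ← sub_neg_eq_add])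
  · simp [h] at h3
  · rwa [Int.sign_eq_one_of_pos h, Int.natCast_natAbs, abs_of_pos h] at h2

theorem congY (hl : X.length + 1 = e) : (p : ℤ) ∣ y + e := by
  have h2 := List.dvd_sum (l := (X.map Prod.snd).map (· - 1)) (List.forall_mem_map.2 (A.congX hp h1))
  have h3 : ∀ l : List ℤ, (l.map (· - 1)).sum = l.sum - l.length := fun l => by
    induction l with
    | nil => simp
    | cons a l ih => simp only [List.map_cons, List.sum_cons, ih, List.length_cons]; push_cast; ring
  rw [h3, List.length_map] at h2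
  have := A.eqn hp
  exact dvd_neg.1 (by convert h2 using 1; omega)

theorem not_dvd_bl (hl : X.length + 1 = e) : ∀ d ∈ Sv.bl ((p - 1) / e) y (X.map Prod.snd), ¬ p ∣ d := by
  have h2 : ¬ (p : ℤ) ∣ 1 := by exact_mod_cast hp.not_dvd_one
  simp only [Sv.bl, List.forall_mem_cons, List.forall_mem_append, List.mem_replicate, List.forall_mem_map]
  refine ⟨hp.not_dvd_one, ?_, fun x hx h => h2 ?_⟩
  · rintro _ ⟨-, rfl⟩ h
    have := Nat.le_of_dvd (by omega) (Int.natCast_dvd_natCast.1 ((dvd_add_right (Int.natCast_dvd.2 h)).1 (A.congY hp h1 hl)))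
    have := Nat.le_of_dvd (Nat.sub_pos_of_lt hp.one_lt) (Dvd.intro_left _ A.lenY)
    have := hp.pos
    omega
  · simpa using (dvd_sub (Int.natCast_dvd.2 h) (A.congX hp h1 _ (List.mem_map_of_mem hx)))

theorem search (hl : X.length + 1 = e) {D : List ℕ} (hD : ∀ χ : IrrCharacter G, χ ≠ irrOne G → charDegree (χ : G → ℂ) ∈ D)
    {M : List ℕ} (hM : (M : Multiset ℕ) ≤ degs G) {n : ℕ} (hn : Nat.card G = n) {fin : ℤ → List ℤ → Bool}
    (h : Sv.chk2 D (n - ((M.filter fun d => d % p == 0).map (· ^ 2)).sum) p e fin = true) :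
    ∃ X', PB G p r e X' Y y ∧ X'.length + 1 = e ∧ fin y (X'.map Prod.snd) = true := by
  have h2 := sum_sq_le_of_le_degs (add_filter_le_degs (A.bl_le hp) (A.not_dvd_bl hp h1 hl) hM)
  simp only [Sv.bl, List.map_append, List.map_cons, List.sum_append, List.sum_cons, List.map_replicate, List.sum_replicate,
    smul_eq_mul, hn] at h2
  have h3 : ∀ s ∈ y :: X.map Prod.snd, s ∈ D.flatMap fun d : ℕ => [(d : ℤ), -(d : ℤ)] := fun s hs => by
    obtain ⟨χ, e1, e2⟩ := A.exists_deg hp.one_lt hs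
    exact List.mem_flatMap.2 ⟨_, e2 ▸ hD χ e1, by simpa using Int.natAbs_eq s⟩
  have h4 := List.all_eq_true.1 h y (List.mem_filter.2 ⟨h3 y List.mem_cons_self,
    beq_iff_eq.2 (Int.emod_eq_zero_of_dvd (A.congY hp h1 hl))⟩)
  rw [Bool.or_eq_true, decide_eq_true_eq] at h4
  obtain ⟨l, h5, h6⟩ := Sv.srch_sound (h4.resolve_left (by omega)) (l := (X.map Prod.snd : List ℤ)) (by simp; omega)
    (fun s hs => List.mem_filter.2 ⟨h3 s (List.mem_cons_of_mem _ hs),
      beq_iff_eq.2 (Int.emod_eq_zero_of_dvd (A.congX hp h1 s hs))⟩)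
    (by rw [Multiset.map_coe, Multiset.sum_coe]; rw [List.map_map, Function.comp_def] at h2; omega)
  have h7 : (X.map Prod.snd).Perm l := Multiset.coe_eq_coe.1 (by simpa using h5.symm)
  obtain ⟨X', B, rfl⟩ := A.perm' h7
  exact ⟨X', B, by simpa [← hl] using h7.length_eq.symm, by simpa [B.eqn hp] using h6⟩

omit h1
variable (hn : Nat.card G = p * e * r) (hl : X.length + 1 = e)
include hn hl

theorem filter_degs : (degs G).filter (fun d => ¬ p ∣ d) = (Sv.bl ((p - 1) / e) y (X.map Prod.snd) : List ℕ) := by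
  have h2 := A.not_dvd_bl hp (hn ▸ mul_assoc p e r ▸ dvd_mul_right _ _) hl
  rw [← A.map_deg hp] at h2 ⊢
  rw [degs, Multiset.filter_map, ← Multiset.map_coe]
  refine congrArg _ ((Multiset.Nodup.ext (Finset.univ.nodup.filter _) (Multiset.coe_nodup.2 A.nodup)).2 fun χ => ?_)
  rw [Multiset.mem_filter, Multiset.mem_coe]
  exact ⟨fun h => A.all hn χ h.2, fun h => ⟨Finset.mem_univ χ, h2 _ (List.mem_map_of_mem h)⟩⟩

theorem subperm {M : List ℕ} (hM : (M : Multiset ℕ) ≤ degs G) :
    (M.filter fun d => d % p != 0).Subperm (Sv.bl ((p - 1) / e) y (X.map Prod.snd)) := by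
  rw [← Multiset.coe_le, ← A.filter_degs hp hn hl]
  exact Multiset.le_filter.2 ⟨(Multiset.coe_le.2 List.filter_sublist.subperm).trans hM, by simp [Nat.dvd_iff_mod_eq_zero]⟩

theorem count_degs {d : ℕ} (hd : ¬ p ∣ d) : (degs G).count d = (Sv.bl ((p - 1) / e) y (X.map Prod.snd)).count d := by
  rw [← Multiset.coe_count, ← A.filter_degs hp hn hl, Multiset.count_filter_of_pos (p := fun d => ¬ p ∣ d) hd]

theorem deg_mem_bl (χ : IrrCharacter G) :
    p ∣ charDegree (χ : G → ℂ) ∨ charDegree (χ : G → ℂ) ∈ Sv.bl ((p - 1) / e) y (X.map Prod.snd) :=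
  or_iff_not_imp_left.2 fun h => A.map_deg hp ▸ List.mem_map_of_mem (A.all hn χ h)

theorem deg_mod (χ : IrrCharacter G) : let d := charDegree (χ : G → ℂ)
    d % p = 0 ∨ d % p = 1 ∨ (d + 1) % p = 0 ∨ d = y.natAbs ∧ (d % p = e ∨ (d + e) % p = 0) := by
  have h1 : p ∣ Nat.card G := hn ▸ mul_assoc p e r ▸ dvd_mul_right _ _
  have key : ∀ (s : ℤ) (c : ℕ), c < p → (p : ℤ) ∣ s + c → s.natAbs % p = c ∨ (s.natAbs + c) % p = 0 := fun s c hc h => by
    rcases Int.natAbs_eq s with h2 | h2 <;> rw [h2] at h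
    · exact Or.inr (Nat.mod_eq_zero_of_dvd (by exact_mod_cast h))
    · exact Or.inl (Eq.trans (Nat.modEq_iff_dvd.2 (by rwa [neg_add_eq_sub] at h)) (Nat.mod_eq_of_lt hc))
  have h2 := Nat.le_of_dvd (Nat.sub_pos_of_lt hp.one_lt) (Dvd.intro_left _ A.lenY)
  have h3 := hp.one_lt
  rcases A.deg_mem_bl hp hn hl χ with h | h
  · exact Or.inl (Nat.mod_eq_zero_of_dvd h)
  simp only [Sv.bl, List.mem_cons, List.mem_append, List.mem_replicate, List.mem_map (f := Int.natAbs)] at h
  rcases h with h | ⟨-, h⟩ | ⟨s, h4, h⟩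
  · exact Or.inr (Or.inl (by rw [h, Nat.mod_eq_of_lt h3]))
  · exact Or.inr (Or.inr (Or.inr ⟨h, h ▸ key y e (by omega) (A.congY hp h1 hl)⟩))
  · have := key (-s) 1 h3 (dvd_neg.1 (by simpa [← sub_eq_neg_add] using A.congX hp h1 s h4))
    rw [Int.natAbs_neg, h] at this
    exact Or.inr (this.imp_right Or.inl)

omit hl in
theorem sum_eq {F : IrrCharacter G → ℂ} (hF : ∀ χ : IrrCharacter G, p ∣ charDegree (χ : G → ℂ) → F χ = 0) :
    ∑ χ, F χ = F (irrOne G) + ((Y.map F).sum + (X.map fun x => F x.1).sum) := by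
  rw [← Finset.sum_subset (Finset.subset_univ (irrOne G :: (Y ++ X.map Prod.fst)).toFinset) fun χ _ h =>
    hF χ (by_contra fun e => h (List.mem_toFinset.2 (A.all hn χ e))), List.sum_toFinset _ A.nodup]
  simp [Function.comp_def]

theorem exc_sq (h2 : ¬ p ^ 2 ∣ Nat.card G) (he : Odd e) (ht : 2 * e + 1 = p) {x : G} (hx : orderOf x = p)
    {ψ : IrrCharacter G} (hψ : ψ ∈ Y) : (2 * (ψ : G → ℂ) x - y.sign) ^ 2 = -p := by
  have h3 := sum_irr_mul_conj_of_not_isConj (A.not_isConj_inv hp h2 he (by omega) hx)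
  simp only [(Subtype.property (_ : IrrCharacter G)).isCharacter.apply_inv, Complex.conj_conj] at h3
  rw [A.sum_eq hp hn fun χ h => by rw [A.val0 χ h x hx.symm.dvd, zero_mul],
    List.map_congr_left (l := X) (g := fun _ => 1) fun z hz => by
      have := A.degX z hz ▸ z.1.2.charDegree_pos
      rw [A.valX z hz x hx.symm.dvd]
      rcases lt_trichotomy z.2 0 with h | h | h
      · simp [Int.sign_eq_neg_one_of_neg h]
      · simp [h] at this
      · simp [Int.sign_eq_one_of_pos h]] at h3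
  have h4 := A.valY x hx.symm.dvd
  have h5 : (y.sign * y.sign : ℂ) = 1 := by exact_mod_cast A.sign_mul_sign hp
  have h6 : (p : ℂ) = 2 * (X.length + 1) + 1 := by rw [← ht, ← hl]; push_cast; ring
  obtain ⟨a, b, rfl⟩ := List.length_eq_two.1 (show Y.length = 2 from
    Nat.eq_of_mul_eq_mul_right (show 0 < e by omega) (by have := A.lenY; omega))
  simp only [List.map_cons, List.map_nil, List.sum_cons, List.sum_nil, List.map_const', List.sum_replicate, nsmul_eq_mul,
    irrOne_apply, List.mem_cons, List.not_mem_nil, or_false] at h3 h4 hψ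
  rw [h6]
  rcases hψ with rfl | rfl
  · linear_combination 2 * h3 - h5 + 2 * ((ψ : G → ℂ) x - (b : G → ℂ) x - y.sign) * h4
  · linear_combination 2 * h3 - h5 + 2 * ((ψ : G → ℂ) x - (a : G → ℂ) x - y.sign) * h4

theorem two_re (h2 : ¬ p ^ 2 ∣ Nat.card G) (h5 : 5 ≤ p) (he : Odd e ∧ 2 * e + 1 = p ∨ e + 1 = p) {x : G} (hx : orderOf x = p)
    (χ : IrrCharacter G) : 2 * ((χ : G → ℂ) x).re = Sv.rv p (charDegree (χ : G → ℂ)) := by
  have h1 : p ∣ Nat.card G := hn ▸ mul_assoc p e r ▸ dvd_mul_right _ _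
  have sg : ∀ s : ℤ, -1 ≤ s.sign ∧ s.sign ≤ 1 ∧ s.natAbs = s.sign * s := fun s => by
    rcases lt_trichotomy s 0 with h | rfl | h
    exacts [by rw [Int.sign_eq_neg_one_of_neg h]; omega, by simp, by rw [Int.sign_eq_one_of_pos h]; omega]
  have key : ∀ s : ℤ, (p : ℤ) ∣ s - 1 → Sv.rv p s.natAbs = 2 * s.sign := fun s h =>
    Sv.rv_eq (by rw [(sg s).2.2]; exact (h.mul_left (2 * s.sign)).trans (dvd_of_eq (by ring))) (by have := sg s; omega)
      (by have := sg s; omega) h5
  by_cases h : p ∣ charDegree (χ : G → ℂ)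
  · rw [A.val0 χ h x hx.symm.dvd, Sv.rv_eq (v := 0) (by simpa using (Int.natCast_dvd_natCast.2 h).mul_left 2)
      (by omega) (by omega) h5]; simp
  rcases List.mem_cons.1 (A.all hn χ h) with rfl | h
  · rw [charDegree_irrOne, Sv.rv_eq (v := 2) (by simp) (by omega) (by omega) h5]; simp
  rcases List.mem_append.1 h with h | h
  · have h3 := A.congY hp h1 hl
    rw [A.degY χ h]
    rcases he with ⟨he, ht⟩ | ht
    · have h4 := re_of_sq (A.exc_sq hp hn hl h2 he ht hx h) hp.pos
      rw [Sv.rv_eq (v := y.sign) (by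
        rw [(sg y).2.2]
        exact (((h3.mul_left 2).sub (dvd_refl _)).mul_left y.sign).trans (dvd_of_eq (by rw [← ht]; push_cast; ring))) (by have := sg y; omega) (by have := sg y; omega) h5]
      simpa [sub_eq_zero] using h4
    · obtain ⟨ψ, rfl⟩ := List.length_eq_one_iff.1 (show Y.length = 1 from
        Nat.eq_of_mul_eq_mul_right (show 0 < e by omega) (by have := A.lenY; omega))
      have h4 := A.valY x hx.symm.dvd
      rw [key y ((h3.sub (dvd_refl _)).trans (dvd_of_eq (by rw [← ht]; push_cast; ring))), List.mem_singleton.1 h]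
      simp only [List.map_cons, List.map_nil, List.sum_cons, List.sum_nil, add_zero] at h4
      simp [h4]
  · obtain ⟨z, hz, rfl⟩ := List.mem_map.1 h
    rw [A.degX z hz, key _ (A.congX hp h1 _ (List.mem_map_of_mem hz)), A.valX z hz x hx.symm.dvd]; simp

theorem exc_norm (h2 : ¬ p ^ 2 ∣ Nat.card G) (he : Odd e) (ht : 2 * e + 1 = p) {x : G} (hx : orderOf x = p)
    {ψ : IrrCharacter G} (hψ : ψ ∈ Y) : 4 * ((ψ : G → ℂ) x * conj ((ψ : G → ℂ) x)) = p + 1 ∧ ((ψ : G → ℂ) x).im ≠ 0 := by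
  have h3 := A.exc_sq hp hn hl h2 he ht hx hψ
  have h4 := Complex.add_conj (2 * (ψ : G → ℂ) x - y.sign)
  have h5 : (y.sign * y.sign : ℂ) = 1 := by exact_mod_cast A.sign_mul_sign hp
  have h6 := re_of_sq h3 hp.pos
  rw [h6] at h4
  refine ⟨?_, fun h => ?_⟩
  · simp only [map_sub, map_mul, map_ofNat, map_intCast, mul_zero, Complex.ofReal_zero] at h4
    linear_combination (2 * (ψ : G → ℂ) x) * h4 - h3 + h5
  · rw [Complex.ext (w := 0) h6 (by simp [h])] at h3
    exact hp.ne_zero (by simpa using h3)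

theorem mem_Y {χ : IrrCharacter G} (h0 : charDegree (χ : G → ℂ) % p ≠ 0) (h1 : charDegree (χ : G → ℂ) % p ≠ 1)
    (h2 : (charDegree (χ : G → ℂ) + 1) % p ≠ 0) : χ ∈ Y := by
  rcases List.mem_cons.1 (A.all hn χ (mt Nat.mod_eq_zero_of_dvd h0)) with rfl | h
  · exact absurd (by rw [charDegree_irrOne, Nat.mod_eq_of_lt hp.one_lt]) h1
  refine (List.mem_append.1 h).resolve_right fun h => ?_
  obtain ⟨z, hz, rfl⟩ := List.mem_map.1 h
  have h3 := A.congX hp (hn ▸ mul_assoc p e r ▸ dvd_mul_right _ _) _ (List.mem_map_of_mem hz)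
  rw [A.degX z hz] at h1 h2
  rcases Int.natAbs_eq z.2 with h4 | h4 <;> rw [h4] at h3
  · exact h1 (Eq.trans (Nat.modEq_iff_dvd.2 h3).symm (Nat.mod_eq_of_lt hp.one_lt))
  · exact h2 (Nat.mod_eq_zero_of_dvd (Int.natCast_dvd_natCast.1 (dvd_neg.1 (h3.trans (dvd_of_eq (by push_cast; ring))))))

end PB

theorem PB.dvd_of_mem_bl {p r e : ℕ} {X : List (IrrCharacter G × ℤ)} {Y : List (IrrCharacter G)} {y : ℤ}
    (A : PB G p r e X Y y) (hp : p.Prime) (h1 : p ∣ Nat.card G) (ht : e + 1 = p) :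
    ∀ d ∈ Sv.bl ((p - 1) / e) y (X.map Prod.snd), d ∣ e * r := by
  have := Fact.mk hp
  obtain ⟨x, hx⟩ := exists_prime_orderOf_dvd_card' p h1
  have h2 : (centralizer ({x} : Set G)).index = e * r := Nat.eq_of_mul_eq_mul_left Nat.card_pos
    ((card_mul_index _).trans (A.cent x hx).symm)
  have key : ∀ (χ : IrrCharacter G) (s : ℤ), charDegree (χ : G → ℂ) = s.natAbs → (χ : G → ℂ) x = s.sign →
      charDegree (χ : G → ℂ) ∣ e * r := fun χ s h3 h4 => by
    have h5 := Int.natAbs_dvd_natAbs.2 (deg_dvd_index_mul h4)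
    have h6 := χ.2.charDegree_pos
    rwa [Int.natAbs_mul, Int.natAbs_sign_of_ne_zero (by omega), mul_one, h2] at h5
  rw [← A.map_deg hp, List.forall_mem_map, List.forall_mem_cons, List.forall_mem_append, List.forall_mem_map]
  refine ⟨by simp [charDegree_irrOne], fun ψ hψ => key ψ y (A.degY ψ hψ) ?_,
    fun z hz => key _ _ (A.degX z hz) (A.valX z hz x hx.symm.dvd)⟩
  have h3 := hp.two_le
  obtain ⟨φ, rfl⟩ := List.length_eq_one_iff.1 (show Y.length = 1 from
    Nat.eq_of_mul_eq_mul_right (show 0 < e by omega) (by have := A.lenY; omega))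
  simpa [List.mem_singleton.1 hψ] using A.valY x hx.symm.dvd

theorem two_re_list {p : ℕ} {x : G} (h : ∀ χ : IrrCharacter G, 2 * ((χ : G → ℂ) x).re = Sv.rv p (charDegree (χ : G → ℂ)))
    (L : List (IrrCharacter G)) {v : ℤ} (hv : (L.map fun ψ : IrrCharacter G => (ψ : G → ℂ) x).sum = v) :
    ((L.map fun ψ : IrrCharacter G => charDegree (ψ : G → ℂ)).map (Sv.rv p)).sum = 2 * v := by
  have : 2 * (L.map fun ψ : IrrCharacter G => (ψ : G → ℂ) x).sum.re =
      (((L.map fun ψ : IrrCharacter G => charDegree (ψ : G → ℂ)).map (Sv.rv p)).sum : ℤ) := by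
    clear hv
    induction L with
    | nil => simp
    | cons ψ L ih => simp only [List.map_cons, List.sum_cons, Complex.add_re, mul_add, ih, h, Int.cast_add]
  rw [hv, Complex.intCast_re] at this
  exact_mod_cast this.symm

end H19
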