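import Mathlib
import Cfsg.Agent.H19.Ord8
import Cfsg.Agent.H19.PBx
import Cfsg.Agent.H19.DegG
import Cfsg.Agent.S0496
import Cfsg.Agent.S0983

/-!
The orders of the non-abelian simple groups of order less than 6000 (namespace H19).
* `card_mul_le_inf`, `exists_sylow_inf`, `card_ne_1512`, `card_ne_3360`, `card_ne_3600`, `card_mem_of_lt_6000`
-/

set_option linter.unusedSectionVars false

open H05 Cfsg Classical Subgroup

namespace H19

variable {G : Type*} [Group G] [Finite G]

theorem card_mul_le_inf {H T C : Subgroup G} (h1 : H ≤ C) (h2 : T ≤ C) :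
    Nat.card H * Nat.card T ≤ Nat.card (H ⊓ T : Subgroup G) * Nat.card C := by
  rw [← H01.card_mul_relIndex h1, ← (H.subgroupOf T).card_mul_index, card_inf_eq, mul_left_comm]
  exact Nat.mul_le_mul_left _ (Nat.mul_le_mul_left _ (relIndex_le_of_le_right h2 index_ne_zero_of_finite))

theorem exists_sylow_inf {p : ℕ} [hp : Fact p.Prime] (h : ¬ Nat.card (Sylow p G) ≡ 1 [MOD p ^ 2]) (P : Sylow p G) :
    ∃ Q : Sylow p G, P ≠ Q ∧ Nat.card ((P : Subgroup G) ⊓ Q : Subgroup G) * p = Nat.card (P : Subgroup G) := by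
  obtain ⟨Q, h1, h2⟩ := exists_sylow_pair_index_le 2 h P
  refine ⟨Q, h1, ?_⟩
  rw [← ((Q : Subgroup G).subgroupOf P).card_mul_index, card_inf_eq, inf_comm]
  obtain ⟨_ | _ | k, hk⟩ := P.2.index ((Q : Subgroup G).subgroupOf P)
  · exact absurd (sylow_eq_of_le (subgroupOf_eq_top.1 (index_eq_one.1 hk))) h1
  · rw [hk, zero_add, pow_one]
  · have := Nat.pow_lt_pow_right hp.out.one_lt (show 2 - 1 < k + 1 + 1 by omega)
    omega

theorem sylow_eq_of_le_normalizer {p : ℕ} [Fact p.Prime] {P Q : Sylow p G} (h : (Q : Subgroup G) ≤ normalizer (P : Set G)) :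
    P = Q := sylow_eq_of_le (le_sup_left.trans (Q.3 (P.2.to_sup_of_normal_left' Q.2 h) le_sup_right).le)

variable [IsSimpleGroup G]

theorem card_ne_1512 : Nat.card G ≠ 1512 := fun hn => by
  have hG : ¬ IsMulCommutative G := not_comm_of_simple_card (by rw [hn]; norm_num)
  rcases ord8 hG (by omega) with ⟨F, _, _, -, h4, -⟩ | ⟨h4, -⟩ | ⟨S, h4, -, h5, h6⟩
  · rw [hn] at h4
    rw [eq_of_psl_card (r := 14) h4 (by norm_num) (by norm_num) (by norm_num)] at h4; omega
  · omega
  obtain ⟨σ, h1, X, Y, A, h2⟩ := sieve_pb hG (B := 39) (p := 7) (allow := fun _ _ => true) (qs := [2, 3])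
    (sols := [(36, 6, -6, [8, 8, 8, 8, -27]), (36, 6, 8, [-6, 8, 8, 8, -27]), (36, 6, -27, [-6, 8, 8, 8, 8])])
    Nat.prime_seven hn (by norm_num) (by norm_num) (by norm_num) (by decide) (fun _ _ _ _ _ _ _ => rfl) (by decide +kernel)
  obtain ⟨χ, h7, h8⟩ := A.exists_deg (v := -6) (by norm_num)
    (h2 ▸ (by decide : ∀ σ ∈ (_ : List (ℕ × ℕ × ℤ × List ℤ)), -6 ∈ σ.2.2.1 :: σ.2.2.2) σ h1)
  have : Nontrivial (S : Subgroup G) := Finite.one_lt_card_iff_nontrivial.1 (by omega)
  obtain ⟨⟨t, ht⟩, h9⟩ := exists_ne (1 : (S : Subgroup G))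
  have h10 : t ≠ 1 := fun e => h9 (Subtype.ext e)
  obtain ⟨v, hv⟩ := χ.2.isGeneralizedCharacter.exists_int_of_sq_eq_one (h5 t ht)
  have h11 : ∀ u ∈ (S : Subgroup G), u ≠ 1 → (χ : G → ℂ) u = v := fun u hu e => by
    obtain ⟨c, rfl⟩ := isConj_iff.1 (h6 t ht h10 u hu e)
    rw [χ.2.isClassFunction, hv]
  have h12 := sum_nonneg_of_char χ.2.isCharacter S (d := 6) (by rw [← χ.2.charDegree_eq, h8]; rfl) h11
  have h13 := card_dvd_of_vanish (θ := fun g => (χ : G → ℂ) g - v • (1 : G → ℂ) g) (χ.2.isGeneralizedCharacter.sub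
    (isGeneralizedCharacter_one.zsmul v)) S (m := 6 - v) (by simp [← χ.2.charDegree_eq, h8]) fun u hu e => by
      simp [h11 u hu e]
  have h14 := natAbs_lt_deg hG h7 h10 hv
  rw [h4] at h12 h13
  rw [h8] at h14
  omega

theorem card_ne_3360 : Nat.card G ≠ 3360 := fun hn => by
  have hG : ¬ IsMulCommutative G := not_comm_of_simple_card (by rw [hn]; norm_num)
  obtain ⟨σ, h1, X, Y, A, h2⟩ := sieve_pb hG (B := 58) (p := 3) (allow := fun _ _ => true) (qs := [2, 3, 5, 7])
    (sols := [(28, 2, 7, [-8]), (28, 2, -8, [7])])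
    Nat.prime_three hn (by norm_num) (by norm_num) (by norm_num) (by decide) (fun _ _ _ _ _ _ _ => rfl) (by decide +kernel)
  obtain ⟨χ, h3, h4⟩ := A.exists_deg (v := 7) (by norm_num)
    (h2 ▸ (by decide : ∀ σ ∈ (_ : List (ℕ × ℕ × ℤ × List ℤ)), 7 ∈ σ.2.2.1 :: σ.2.2.2) σ h1)
  obtain ⟨σ', h5, X', Y', B, -⟩ := sieve_pb hG (B := 58) (p := 7) (allow := fun _ _ => true) (qs := [2, 3, 5, 7])
    (sols := [(120, 2, -16, [15])])
    Nat.prime_seven hn (by norm_num) (by norm_num) (by norm_num) (by decide) (fun _ _ _ _ _ _ _ => rfl) (by decide +kernel)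
  have := B.bot χ h3 h4
  rw [List.mem_singleton.1 h5, hn] at this
  simp at this

theorem card_ne_3600 : Nat.card G ≠ 3600 := fun hn => by
  have hG : ¬ IsMulCommutative G := not_comm_of_simple_card (by rw [hn]; norm_num)
  have p5 := Fact.mk Nat.prime_five
  obtain ⟨P⟩ : Nonempty (Sylow 5 G) := inferInstance
  have cP : ∀ P : Sylow 5 G, Nat.card (P : Subgroup G) = 5 ^ 2 := fun P => by
    rw [P.card_eq_multiplicity, hn]; decide +kernel
  have ab : ∀ P : Sylow 5 G, IsMulCommutative (P : Subgroup G) := fun P =>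
    ⟨⟨IsPGroup.commutative_of_card_eq_prime_sq (cP P)⟩⟩
  have idx : ∀ U : Subgroup G, U ≠ ⊤ → Nat.card U ≤ 360 := fun U h => by
    have := two_mul_le_index hG p5.out (by omega) h
    have := U.card_mul_index
    nlinarith
  have h1 := card_sylow_mul_card_normalizer P
  have h2 := idx _ (normalizer_ne_top_of_simple (P.ne_bot_of_dvd_card (by omega)) (sylow_ne_top_of_simple hG P))
  have h3 := cP P ▸ card_dvd_of_le (le_normalizer (H := (P : Subgroup G)))
  have h4 := card_sylow_modEq_one 5 G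
  have h5 : Nat.card (normalizer (P : Set G)) = 100 ∨ Nat.card (normalizer (P : Set G)) = 225 := by
    change Nat.card (normalizer (P : Set G)) ≤ _ at h2
    obtain ⟨k, hk⟩ : 5 ^ 2 ∣ Nat.card (normalizer (P : Set G)) := h3
    rw [hk] at h1 h2 ⊢
    rw [Nat.ModEq] at h4
    have : k ≤ 14 := by omega
    interval_cases k <;> omega
  obtain ⟨Q, h6, h7⟩ := exists_sylow_inf (by rw [Nat.ModEq]; rcases h5 with h | h <;> rw [h] at h1 <;> omega) P
  rw [cP] at h7
  obtain ⟨⟨d, hd⟩, h8⟩ := exists_prime_orderOf_dvd_card' (G := ((P : Subgroup G) ⊓ Q : Subgroup G)) 5 (by omega)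
  rw [orderOf_mk] at h8
  obtain ⟨hd, hd'⟩ := mem_inf.1 hd
  have := ab P
  have := ab Q
  have d1 : d ≠ 1 := by rintro rfl; simp at h8
  obtain ⟨n, h9⟩ := card_centralizer_eq_mul P hd
  set C := centralizer ({d} : Set G)
  set L := C ⊓ normalizer (P : Set G)
  have h10 : n ≠ 0 := fun e => h6 (sylow_eq_of_le_normalizer ((sylow_le_centralizer Q hd').trans
    ((eq_of_le_of_card_ge (inf_le_left : L ≤ C) (by rw [h9, e, zero_mul, add_zero, one_mul])).ge.trans inf_le_right)))
  have h11 := idx _ (normalizer_ne_top_of_simple (H := zpowers d) (by simpa using d1) fun e => by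
    have := Nat.card_zpowers d; rw [e, card_top] at this; omega)
  have CM : C ≤ normalizer (zpowers d : Set G) := by
    refine le_trans ?_ (centralizer_le_normalizer _)
    rw [zpowers_eq_closure, centralizer_closure]
  have PL : (P : Subgroup G) ≤ L := le_inf (sylow_le_centralizer P hd) le_normalizer
  obtain ⟨k, hk⟩ := cP P ▸ card_dvd_of_le PL
  have L0 : 0 < Nat.card L := Nat.card_pos
  obtain ⟨u, hu, hu'⟩ : ∃ u ∈ normalizer (P : Set G), u ∉ normalizer (zpowers d : Set G) := by
    by_contra! e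
    have := card_mul_le_inf CM e
    rw [h9, mul_comm _ (Nat.card L), mul_assoc] at this
    have := (Nat.mul_le_mul (show 6 ≤ 1 + n * 5 by omega) (show 100 ≤ _ by omega)).trans
      (Nat.le_of_mul_le_mul_left this L0)
    omega
  have h12 : u * d * u⁻¹ ∈ (P : Subgroup G) := (mem_normalizer_iff.1 hu d).1 hd
  have h13 : orderOf (u * d * u⁻¹) = 5 := by rw [← h8]; exact orderOf_injective (MulAut.conj u).toMonoidHom (MulAut.conj u).injective d
  have h14 : ∀ g ∈ C, g ∈ centralizer {u * d * u⁻¹} → g ∈ centralizer (P : Set G) := fun g h1 h2 y hy => by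
    have e1 : zpowers d < centralizer {g} ⊓ P := lt_of_le_of_ne (zpowers_le.2 ⟨mem_centralizer_singleton_iff.2
      (mem_centralizer_singleton_iff.1 h1).symm, hd⟩) fun e => hu' (by
        rw [mem_normalizer_iff_map_conj_eq, MonoidHom.map_zpowers]
        exact eq_of_le_of_card_ge (zpowers_le.2 (e.ge ⟨mem_centralizer_singleton_iff.2
          (mem_centralizer_singleton_iff.1 h2).symm, h12⟩)) (by rw [Nat.card_zpowers, Nat.card_zpowers, h8]; exact h13.ge))
    have e2 := (card_le_of_le e1.le).lt_of_ne fun e => e1.ne (eq_of_le_of_card_ge e1.le e.ge)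
    obtain ⟨j, e3, e4⟩ := (Nat.dvd_prime_pow p5.out).1 (cP P ▸ card_dvd_of_le (inf_le_right (a := centralizer {g})))
    rw [Nat.card_zpowers, h8, e4] at e2
    exact mem_centralizer_singleton_iff.1 ((eq_of_le_of_card_ge inf_le_right (by
      rw [cP, e4]; interval_cases j <;> omega)).ge hy).1
  have h15 := (card_le_of_le CM).trans h11
  obtain ⟨c, hc⟩ := hn ▸ card_subgroup_dvd_card C
  obtain ⟨rfl, h16⟩ : n = 1 ∧ (k = 1 ∨ k = 2) := by
    rw [h9, hk] at h15 hc
    have := Nat.mul_le_mul_left (1 + n * 5) (show 25 ≤ 5 ^ 2 * k by omega)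
    have := Nat.mul_le_mul_right (5 ^ 2 * k) (show 6 ≤ 1 + n * 5 by omega)
    have : n ≤ 2 := by omega
    have : k ≤ 2 := by omega
    interval_cases n <;> interval_cases k <;> omega
  have h17 : L ≤ centralizer (P : Set G) := fun g hg => h14 g hg.1 (by
    rcases h16 with rfl | rfl
    · exact sylow_le_centralizer P h12 ((eq_of_le_of_card_ge PL (by rw [hk, cP]; norm_num)).ge hg)
    · have e1 := (L.subgroupOf (normalizer (P : Set G))).card_mul_index
      rw [card_inf_eq, inf_eq_left.2 inf_le_right, hk] at e1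
      have := (normal_of_index_eq_two (H := L.subgroupOf (normalizer (P : Set G))) (by omega)).conj_mem ⟨g, hg.2⟩ hg ⟨u, hu⟩⁻¹
      have e2 : u⁻¹ * g * u⁻¹⁻¹ * d = d * (u⁻¹ * g * u⁻¹⁻¹) := mem_centralizer_singleton_iff.1 this.1
      rw [mem_centralizer_singleton_iff]
      calc g * (u * d * u⁻¹) = u * (u⁻¹ * g * u⁻¹⁻¹ * d) * u⁻¹ := by group
        _ = _ := by rw [e2]; group)
  have PC := PL.trans inf_le_left
  have h18 : normalizer (P.subtype PC : Set C) ≤ centralizer (P.subtype PC : Set C) := fun g hg y hy =>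
    Subtype.ext (h17 ⟨g.2, (subgroupOf_normalizer_eq PC).ge hg⟩ y hy)
  have h19 := (MonoidHom.ker_transferSylow_isComplement' _ h18).card_mul
  set K := (MonoidHom.transferSylow _ h18).ker
  rw [Sylow.coe_subtype, card_inf_eq, inf_eq_left.2 PC, cP, h9, hk] at h19
  have h20 := le_centralizer_of_normal (G := C) (x := ⟨_, PC h12⟩) (by rw [orderOf_mk, h13]) (K := K) (by omega)
    fun q a hq e => pow_mod_ne_one_of_list (n := 12) (qs := [2, 3]) (B := 4) (by decide) (by norm_num) (by norm_num)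
      (by norm_num) (by decide +kernel) q a hq (e.trans (by
        rcases h16 with rfl | rfl
        exacts [⟨2, by omega⟩, ⟨1, by omega⟩]))
  have h21 := card_dvd_of_le (show K ≤ L.subgroupOf C from fun g hg => ⟨g.2, centralizer_le_normalizer _ (h14 g g.2
    (mem_centralizer_singleton_iff.2 (congrArg Subtype.val (mem_centralizer_singleton_iff.1 (h20 hg)))))⟩)
  rw [card_inf_eq, inf_eq_left.2 inf_le_left, hk] at h21
  rcases h16 with rfl | rfl
  · rw [show Nat.card K = 6 by omega] at h21; omega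
  · rw [show Nat.card K = 12 by omega] at h21; omega

theorem card_mem_of_lt_6000 (hG : ¬ IsMulCommutative G) (h : Nat.card G < 6000) :
    Nat.card G ∈ [60, 168, 360, 504, 660, 1092, 2448, 2520, 3420, 4080, 5616] := by
  simp only [List.mem_cons, List.not_mem_nil, or_false]
  by_cases h1 : Nat.card G ≤ 1092
  · have := Cfsg.Agent.S0496.result hG h1; omega
  by_cases h2 : 3640 < Nat.card G
  · have := Cfsg.Agent.S0983.result hG h2 (by omega); omega
  have h3 : ∀ n ∈ List.range' 1093 2548, n ∈ [1512, 2448, 2520, 3360, 3420, 3600] ∨ n ∈ [1404, 1800, 2700] ∨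
      Sv.kill 80 Sv.ps n = true := by
    decide +kernel
  have := card_ne_1512 (G := G)
  have := card_ne_3360 (G := G)
  have := card_ne_3600 (G := G)
  rcases h3 _ (List.mem_range'_1.2 ⟨not_le.1 h1, by omega⟩) with h | h | h
  · simp only [List.mem_cons, List.not_mem_nil, or_false] at h; omega
  · simp only [List.mem_cons, List.not_mem_nil, or_false] at h
    rcases ord8 hG (by omega) with ⟨F, _, _, -, h4, -⟩ | ⟨h4, -⟩ | ⟨S, h4, h5, -⟩
    · rcases h with h | h | h <;> rw [h] at h4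
      · rw [eq_of_psl_card (r := 14) h4 (by norm_num) (by norm_num) (by norm_num)] at h4; omega
      · rw [eq_of_psl_card (r := 15) h4 (by norm_num) (by norm_num) (by norm_num)] at h4; omega
      · rw [eq_of_psl_card (r := 17) h4 (by norm_num) (by norm_num) (by norm_num)] at h4; omega
    · omega
    · have := h5.trans (card_subgroup_dvd_card _)
      omega
  · rw [not_kill hG Sv.ps_prime (by omega)] at h; simp at h

end H19
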