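import Mathlib
import Cfsg.Agent.H19.Ord6
import Cfsg.Agent.H05.FrobeniusSchur
import Cfsg.Agent.H09.AutBase
import Cfsg.Agent.L.PSL2Deg
import Cfsg.Agent.S2119

/-!
Components from character degrees (namespace H19).
* `exists_sylow_of_not_le`, `exists_comp_of_deg'` : a quasisimple normal subgroup from two primes dividing degrees
* `six_mem_S5`, `edge_of_A5` : groups of order 360 with a component of type `A₅`
-/

open H05 Cfsg Classical Subgroup

namespace H19

variable {G : Type*} [Group G] [Finite G] {p q : ℕ} [hp : Fact p.Prime]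

theorem exists_sylow_of_not_le {x : G} (hx : orderOf x = p) {K : Subgroup G} [K.Normal] (hK : ¬ p ∣ Nat.card K) {n : ℕ}
    (hn : Nat.card G ∣ n) (h : ∀ r a, r.Prime → r ^ (a + 1) ∣ n → r ^ (a + 1) % p = 1 → r = q ∧ ¬ r ^ (a + 2) ∣ n)
    (h0 : ¬ K ≤ centralizer {x}) : ∃ Q : Subgroup G, IsPGroup q Q ∧ ¬ Nat.card Q * q ∣ n ∧ IsMulCommutative Q ∧
      x ∈ (normalizer (Q : Set G)).normalCore := by
  have key : ∀ r, r.Prime → r ∣ (K ⊓ centralizer {x}).relIndex K → r = q ∧ ∃ Q ≤ K, ∃ b, Nat.card Q = r ^ (b + 1) ∧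
      ¬ r ^ (b + 2) ∣ n ∧ x ∈ normalizer (Q : Set G) ∧ Q ⊓ centralizer {x} = ⊥ := fun r hr h1 => by
    have := Fact.mk hr
    obtain ⟨Q, h2, h3, h4, h5⟩ := H01.exists_invariant_sylow (A := zpowers x) (K := K) (H01.le_normalizer_of_normal _ _)
      (by rw [Nat.card_zpowers, hx]; exact (Nat.Prime.coprime_iff_not_dvd hp.out).2 hK) (Or.inl inferInstance) r
    have h6 := card_inf_centralizer_modEq hx (h5 (mem_zpowers x))
    obtain ⟨c, h7⟩ := card_dvd_of_le (inf_le_left (a := Q) (b := centralizer ({x} : Set G)))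
    obtain ⟨a, h8⟩ := h3.exists_card_eq
    obtain ⟨_ | b, -, rfl⟩ := (Nat.dvd_prime_pow hr).1 (h8 ▸ Dvd.intro_left _ h7.symm)
    · have := eq_of_le_of_card_ge (inf_le_left (a := Q) (b := centralizer ({x} : Set G))) (by rw [h7]; simp)
      exact absurd (h1.trans (relIndex_dvd_of_le_left _ (le_inf h2 (this.ge.trans inf_le_right)))) h4
    rw [h7, ← mul_one (Nat.card _), mul_assoc, one_mul] at h6
    have h9 := (card_subgroup_dvd_card Q).trans hn
    obtain ⟨h10, h11⟩ := h r b hr ((Dvd.intro_left _ h7.symm).trans h9) (Eq.trans (Nat.ModEq.cancel_left_of_coprime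
      ((Nat.Prime.coprime_iff_not_dvd hp.out).2 fun e => hK (e.trans (card_dvd_of_le (inf_le_left.trans h2)))) h6)
      (Nat.mod_eq_of_lt hp.out.one_lt))
    obtain ⟨_ | j, h12⟩ := (h3.to_le (inf_le_left (b := centralizer ({x} : Set G)))).exists_card_eq
    · exact ⟨h10, Q, h2, b, by rw [h7, h12, pow_zero, one_mul], h11, h5 (mem_zpowers x), card_eq_one.1 h12⟩
    · rw [h7, h12, ← pow_add] at h9
      exact absurd ((pow_dvd_pow r (by omega)).trans h9) h11
  obtain ⟨r, hq, h1⟩ := Nat.exists_prime_and_dvd fun e => h0 ((relIndex_eq_one.1 e).trans inf_le_right :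
    K ≤ centralizer ({x} : Set G))
  obtain ⟨rfl, Q, h2, b, h3, h4, h5, h6⟩ := key r hq h1
  have := Fact.mk hq
  have h7 : ∀ j, r ^ j ∣ n → r ^ j ∣ Nat.card Q := fun j e =>
    h3 ▸ pow_dvd_pow r (not_lt.1 fun e' => h4 ((pow_dvd_pow r e').trans e))
  have h8 := IsPGroup.of_card h3
  have h9 : ¬ Nat.card Q * r ∣ n := by rwa [h3, ← pow_succ]
  refine ⟨Q, h8, h9, ?_, fun g => ?_⟩
  · obtain ⟨t, e1, e2, e3⟩ := exists_central_elt hq h3.symm.dvd
    have e4 := card_inf_centralizer_modEq hx (H01.le_normalizer_inf (zpowers_le.2 h5)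
      (H01.le_normalizer_centralizer (zpowers_le.2 h5)) (mem_zpowers x))
    rw [inf_right_comm, h6, bot_inf_eq, card_bot] at e4
    obtain ⟨_ | j, e5⟩ := (h8.to_le (inf_le_left (b := centralizer (Q : Set G)))).exists_card_eq
    · have : t ∈ Q ⊓ centralizer (Q : Set G) := ⟨e1, fun y hy => mem_centralizer_singleton_iff.1
        ((eq_of_le_of_card_ge inf_le_right (h3 ▸ Nat.le_of_dvd Nat.card_pos e3)).ge hy).1⟩
      rw [card_eq_one.1 e5, mem_bot] at this
      exact absurd (by rw [← e2, this, orderOf_one]) hq.one_lt.ne'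
    · have e6 := (h r j hq (e5 ▸ (card_subgroup_dvd_card _).trans hn) (e5 ▸ Eq.trans e4 (Nat.mod_eq_of_lt hp.out.one_lt))).2
      exact le_centralizer_iff_isMulCommutative.1 ((eq_of_le_of_card_ge inf_le_left (by
        rw [h3, e5]
        exact Nat.pow_le_pow_right hq.pos (not_lt.1 fun e => e6 ((pow_dvd_pow r e).trans
          (h3 ▸ (card_subgroup_dvd_card Q).trans hn))))).ge.trans inf_le_right)
  · let S := h8.toSylow fun e => h9 ((mul_dvd_mul_left _ e).trans (Q.card_mul_index ▸ hn))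
    obtain ⟨u, hu, m, hm, rfl⟩ := mem_sup_of_normal_right.1 ((S.normalizer_sup_eq_top' h2).ge (mem_top g))
    have e1 := H01.card_mul_relIndex (inf_le_left (a := K) (b := centralizer ({x} : Set G)))
    have e0 := Nat.eq_prime_pow_of_unique_prime_dvd (n := (K ⊓ centralizer {x}).relIndex K) index_ne_zero_of_finite
      fun hd e => (key _ hd e).1
    have e2 := h7 _ (e0 ▸ (Dvd.intro_left _ e1).trans ((card_subgroup_dvd_card K).trans hn))
    rw [← e0] at e2
    have e3 := card_mul_le_inf h2 (inf_le_left (b := centralizer ({x} : Set G)))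
    rw [← inf_assoc, inf_right_comm, h6, bot_inf_eq, card_bot, one_mul] at e3
    obtain ⟨⟨⟨y, hy⟩, c, hc⟩, e4, -⟩ := (isComplement'_of_card_mul_and_disjoint (H := Q.subgroupOf K)
      (K := (centralizer {x}).subgroupOf K) (by
        rw [card_inf_eq, card_inf_eq, inf_eq_left.2 h2, inf_comm]
        exact e3.antisymm (e1 ▸ mul_comm (Nat.card Q) _ ▸ Nat.mul_le_mul_left _ (Nat.le_of_dvd Nat.card_pos e2)))
      (disjoint_def.2 fun e e' => Subtype.ext (mem_bot.1 (h6.le ⟨e, e'⟩)))).existsUnique ⟨m, hm⟩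
    obtain rfl : y * c = m := congrArg Subtype.val e4
    have e5 : (c : G) * x = x * c := mem_centralizer_singleton_iff.1 hc
    rw [show u * (y * c) * x * (u * (y * c))⁻¹ = u * (y * (c * x * (c : G)⁻¹) * (y : G)⁻¹) * u⁻¹ by group, e5,
      mul_inv_cancel_right]
    exact mul_mem (mul_mem hu (mul_mem (mul_mem (le_normalizer hy) h5) (inv_mem (le_normalizer hy)))) (inv_mem hu)

theorem exists_comp_of_deg' (h2 : ¬ p ^ 2 ∣ Nat.card G) (h : ∀ r a, r.Prime → r ^ (a + 1) ∣ Nat.card G →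
    r ^ (a + 1) % p = 1 → r = q ∧ ¬ r ^ (a + 2) ∣ Nat.card G) (h1 : p ∈ degreePrimes G) (h1' : q ∈ degreePrimes G) :
    ∃ E : Subgroup G, E.Normal ∧ IsSimpleGroup (E ⧸ center E) ∧ ¬ IsMulCommutative (E ⧸ center E) ∧ commutator E = ⊤ ∧
      p ∣ Nat.card (E ⧸ center E) ∧ ∀ K : Subgroup G, K.Normal → p ∣ Nat.card K → E ≤ K := by
  obtain ⟨-, _, ⟨χ, rfl⟩, hd⟩ := h1
  obtain ⟨hq, _, ⟨ψ, rfl⟩, hd'⟩ := h1'
  have := Fact.mk hq
  obtain ⟨x, hx⟩ := exists_prime_orderOf_dvd_card' p (hd.trans χ.2.charDegree_dvd_card)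
  set N := normalClosure ({x} : Set G)
  have h3 : p ∣ Nat.card N := hx ▸ orderOf_dvd_natCard _ (subset_normalClosure rfl)
  have h2' : ¬ p ^ 2 ∣ Nat.card N := fun e => h2 (e.trans (card_subgroup_dvd_card _))
  have h4 : ¬ IsMulCommutative N := fun _ => h2 (by
    rw [← N.card_mul_index, sq]
    exact mul_dvd_mul h3 (hd.trans (H06.ito_charDegree_dvd_index χ.2 _)))
  have key : ∀ L : Subgroup N, (∀ y : N, orderOf y = p → y ∈ L) → L = ⊤ := fun L hL => eq_top_iff.2 fun y _ => by
    have : N ≤ L.map N.subtype := (closure_le _).2 fun z hz => by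
      obtain ⟨_, rfl, c, e⟩ := Group.mem_conjugatesOfSet_iff.1 hz
      exact ⟨⟨z, conjugatesOfSet_subset_normalClosure hz⟩, hL _ (by rw [orderOf_mk, ← e.orderOf_eq, hx]), rfl⟩
    obtain ⟨z, hz, e⟩ := this y.2
    exact Subtype.ext e ▸ hz
  have h5 : ∀ M : Subgroup N, M.Normal → M ≠ ⊤ → ¬ p ∣ Nat.card M := fun M _ hM e =>
    hM (key M fun y => mem_of_dvd_card h2' e)
  obtain ⟨h6, h7, h8⟩ := simple_quot_of_le_center h4 fun M hM e => centralizer_eq_top_iff_subset.1 (key _ fun y hy m hm =>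
    mem_centralizer_singleton_iff.1 ((by_contra fun k => by
      obtain ⟨Q, e1, e2, e3, e4⟩ := exists_sylow_of_not_le hy (h5 M hM e) (card_subgroup_dvd_card N) h k
      have : Q.Normal := normalizer_eq_top_iff.1 (eq_top_iff.2 ((key _ fun z => mem_of_dvd_card h2'
        (hy ▸ orderOf_dvd_natCard _ e4)).ge.trans (normalCore_le _)))
      have : Q.Characteristic := (e1.toSylow fun e => e2 ((mul_dvd_mul_left _ e).trans
        (Q.card_mul_index ▸ card_subgroup_dvd_card N))).characteristic_of_normal this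
      refine e2 ?_
      rw [← (Q.map N.subtype).card_mul_index, card_map_of_injective N.subtype_injective]
      exact mul_dvd_mul_left _ (hd'.trans (H06.ito_charDegree_dvd_index ψ.2 _)) : M ≤ centralizer {y}) hm))
  refine ⟨N, inferInstance, h6, h7, h8, ((Nat.Prime.dvd_mul hp.out).1 ((center N).card_mul_index ▸ h3)).resolve_left
    (h5 _ inferInstance fun e => h4 ⟨⟨fun a b => (mem_center_iff.1 (e.ge (mem_top b)) a)⟩⟩), fun K _ e =>
      normalClosure_le_normal (by simpa using mem_of_dvd_card h2 e hx)⟩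

theorem six_mem_S5 : 6 ∈ charDegrees (Equiv.Perm (Fin 5)) := by
  let f : Equiv.Perm (Fin 5) → ℤ := fun g => (Finset.univ.filter fun i => g i = i).card - 1
  have h1 : IsCharacter (Equiv.Perm (Fin 5)) fun g => (f g : ℂ) := by
    convert isCharacter_perm_sub_one (G := Equiv.Perm (Fin 5)) (Fin 5) using 2 with g
    simp only [f, Int.cast_sub, Int.cast_natCast, Int.cast_one, ← Fintype.card_subtype, ← Nat.card_eq_fintype_card]
    rfl
  have h2 := h1.altSq.isIrr_of_norm_one (by
    have h3 : ((∑ g, (f g ^ 2 - f (g * g)) ^ 2 : ℤ) : ℂ) = 480 := by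
      rw [show (∑ g, (f g ^ 2 - f (g * g)) ^ 2 : ℤ) = 480 by decide +kernel]; norm_num
    simp only [classInner, map_div₀, map_sub, map_pow, map_intCast, map_ofNat, Nat.card_perm, Nat.card_fin]
    push_cast at h3
    rw [Finset.sum_congr rfl (g := fun g => ((f g : ℂ) ^ 2 - f (g * g)) ^ 2 / 4) fun g _ => by ring, ← Finset.sum_div, h3]
    norm_num [Nat.factorial])
  exact ⟨⟨_, h2⟩, charDegree_eq_of_apply_one (by simp [f]; norm_num)⟩

theorem edge_of_A5 (hn : Nat.card G = 360) {E : Subgroup G} [E.Normal] (e : E ⧸ center E ≃* alternatingGroup (Fin 5))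
    (hE : ∀ K : Subgroup G, K.Normal → 5 ∣ Nat.card K → E ≤ K) (h1 : (degreeGraph G).Adj 2 5)
    (h3 : 3 ∈ degreePrimes (alternatingGroup (Fin 5))) : (degreeGraph G).Adj 2 3 := by
  have p5 := Fact.mk Nat.prime_five
  refine ⟨by norm_num, Nat.prime_two, Nat.prime_three, ?_⟩
  let σ := MulEquiv.ofBijective _ (Cfsg.Agent.S2119.result 5 (by norm_num) (by norm_num))
  let f : G →* Equiv.Perm (Fin 5) :=
    (σ.symm.toMonoidHom.comp (MulAut.congr e).toMonoidHom).comp (H09.cqAut.comp (MulAut.conjNormal (H := E)))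
  have hf : ∀ y : E, f y = e (QuotientGroup.mk y) := fun y => σ.symm_apply_eq.2 (by
    ext1 z
    obtain ⟨z, rfl⟩ := (e.surjective.comp QuotientGroup.mk_surjective) z
    have : MulAut.conjNormal (y : G) z = y * z * y⁻¹ := Subtype.ext (by simp)
    exact Subtype.ext (by simp [σ, this]))
  have h4 : alternatingGroup (Fin 5) ≤ f.range := fun a ha => by
    obtain ⟨y, hy⟩ := (e.surjective.comp QuotientGroup.mk_surjective) ⟨a, ha⟩
    exact ⟨y, (hf y).trans (congrArg Subtype.val hy)⟩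
  by_cases h5 : f.range = ⊤
  · exact ⟨6, L.SLc.charDegrees_mono f (MonoidHom.range_eq_top.1 h5) six_mem_S5, dvd_rfl⟩
  have c60 : Nat.card (alternatingGroup (Fin 5)) = 60 := by rw [nat_card_alternatingGroup]; simp [Nat.factorial]
  have h6 : f.range = alternatingGroup (Fin 5) := Equiv.Perm.eq_alternatingGroup_of_index_eq_two
    (((Nat.dvd_prime Nat.prime_two).1 (alternatingGroup.index_eq_two (α := Fin 5) ▸ index_dvd_of_le h4)).resolve_left
      (mt index_eq_one.1 h5))
  have h7 := f.ker.card_mul_index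
  rw [index_ker, h6, c60] at h7
  obtain ⟨x, hx⟩ := exists_prime_orderOf_dvd_card' (G := G) 5 (by omega)
  have h8 : x ∈ centralizer (f.ker : Set G) := fun k hk =>
    mem_centralizer_singleton_iff.1 (le_centralizer_of_normal hx (K := f.ker) (by omega) (fun q a hq e =>
      pow_mod_ne_one_of_list (n := 6) (qs := [2, 3]) (B := 3) (by decide) (by norm_num) (by norm_num)
      (by norm_num) (by decide +kernel) q a hq (e.trans ⟨1, by omega⟩)) hk)
  replace h8 := hE _ inferInstance (hx ▸ Subgroup.orderOf_dvd_natCard _ h8)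
  have hc : ∀ c y, Commute (f.ker.subtype c) (E.subtype y) := fun c y => h8 y.2 c c.2
  have h9 : Function.Surjective (MonoidHom.noncommCoprod _ _ hc) := fun g => by
    obtain ⟨y, hy⟩ := (e.surjective.comp QuotientGroup.mk_surjective) ⟨f g, h6.le ⟨g, rfl⟩⟩
    exact ⟨(⟨g * (y : G)⁻¹, by simp [hf y, show e (QuotientGroup.mk y) = _ from hy]⟩, y), by simp⟩
  obtain ⟨-, -, -, _, ⟨χ, rfl⟩, h1⟩ := h1
  obtain ⟨φ, θ, h10, h11, h12⟩ := (H06.isIrr_prod_iff _).1 (χ.2.comp_of_surjective _ h9)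
  have h13 := congrFun h12 1
  simp only [map_one, Prod.fst_one, Prod.snd_one, ← χ.2.charDegree_eq, ← h10.charDegree_eq, ← h11.charDegree_eq] at h13
  rw [show charDegree (χ : G → ℂ) = charDegree φ * charDegree θ by exact_mod_cast h13] at h1
  have h14 := H06.charDegree_sq_le_index_center h10
  have h15 := H06.charDegree_sq_le_index_center h11
  rw [show (center E).index = 60 from (Nat.card_congr e.toEquiv).trans c60] at h15
  have h16 := (center f.ker).card_mul_index
  have h17 := Nat.le_of_dvd (by omega) (Dvd.intro_left _ h16)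
  have h18 : charDegree φ < 3 := lt_of_pow_lt_pow_left₀ 2 (by norm_num) (by omega)
  have h19 : charDegree θ < 8 := lt_of_pow_lt_pow_left₀ 2 (by norm_num) (by omega)
  have h20 : charDegree φ = 2 := by
    have := h10.charDegree_pos
    have := h11.charDegree_pos
    generalize charDegree φ = a at *
    interval_cases a <;> omega
  have h21 : center f.ker = ⊥ := card_eq_one.1 (by
    rw [h20] at h14
    have : (center f.ker).index ≤ 6 := by omega
    generalize (center f.ker).index = a at *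
    interval_cases a <;> omega)
  let π := MulEquiv.ofBijective _ ⟨(MonoidHom.noncommCoprod_injective _ _ hc).2 ⟨subtype_injective _, subtype_injective _, by
    rw [range_subtype, range_subtype, disjoint_iff, eq_bot_iff]
    exact fun y hy => congrArg Subtype.val (mem_bot.1 (h21.le (show (⟨y, hy.1⟩ : f.ker) ∈ center _ from
      mem_center_iff.2 fun z => Subtype.ext (h8 hy.2 z z.2))))⟩, h9⟩
  obtain ⟨-, d, h23, h24⟩ := h3
  obtain ⟨θ', rfl⟩ := L.SLc.charDegrees_mono (e.toMonoidHom.comp (QuotientGroup.mk' _))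
    (e.surjective.comp QuotientGroup.mk_surjective) h23
  exact ⟨_, L.SLc.charDegrees_mono π.symm.toMonoidHom π.symm.surjective ⟨⟨_, H06.isIrr_prod h10 θ'.2⟩,
    charDegree_eq_of_apply_one (n := 2 * charDegree (θ' : E → ℂ)) (by
      simp [← h10.charDegree_eq, ← θ'.2.charDegree_eq, h20])⟩, mul_dvd_mul_left _ h24⟩

end H19
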