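import Mathlib
import Cfsg.Agent.H19.Ord6
import Cfsg.Agent.H19.M12a
import Cfsg.Agent.H01.GL23c
import Cfsg.Prelude.Def_DegreeGraph

/-!
Simple groups of order 5616 (namespace H19).
* `PB.exists_dvd_deg`, `mem_centralizer_of_sq`, `card_le_mul_of_le_normalizer`
* `facts_5616`, `psl33_of_simple`
-/

set_option linter.unusedSectionVars false

open H05 Cfsg Classical Subgroup

namespace H19

variable {G : Type*} [Group G] [Finite G]

theorem PB.exists_dvd_deg {p r e : ℕ} {X : List (IrrCharacter G × ℤ)} {Y : List (IrrCharacter G)} {y : ℤ}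
    (A : PB G p r e X Y y) (hp : p.Prime) (hn : Nat.card G = p * e * r) (hl : X.length + 1 = e)
    (h : ((Sv.bl ((p - 1) / e) y (X.map Prod.snd)).map (· ^ 2)).sum ≠ Nat.card G) : p ∈ degreePrimes G :=
  ⟨hp, by_contra fun k => h (by
    have h1 := A.filter_degs hp hn hl
    rw [(Multiset.filter_eq_self (p := fun d => ¬ p ∣ d)).2 fun d hd e => k ⟨d, mem_degs.1 hd, e⟩] at h1
    rw [← Multiset.sum_coe, ← Multiset.map_coe, ← h1, ← sum_charDegree_sq, degs, Multiset.map_map]; rfl)⟩

theorem mem_centralizer_of_sq {p : ℕ} (hp : p.Prime) {E : Subgroup G} (hE : Nat.card E = p ^ 2) {b y g : G} (h1 : b ∈ E)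
    (h2 : orderOf b = p) (h3 : y ∈ E) (h4 : y ∉ zpowers b) (h5 : g ∈ centralizer {b}) (h6 : g ∈ centralizer {y}) :
    g ∈ centralizer (E : Set G) := fun z hz => by
  have e1 : zpowers b < centralizer {g} ⊓ E := lt_of_le_of_ne (zpowers_le.2 ⟨mem_centralizer_singleton_iff.2
    (mem_centralizer_singleton_iff.1 h5).symm, h1⟩) fun e => h4 (e.ge ⟨mem_centralizer_singleton_iff.2
      (mem_centralizer_singleton_iff.1 h6).symm, h3⟩)
  have e2 := H01.card_lt_of_lt e1
  obtain ⟨j, e3, e4⟩ := (Nat.dvd_prime_pow hp).1 (hE ▸ card_dvd_of_le (inf_le_right (a := centralizer {g})))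
  rw [Nat.card_zpowers, h2, e4] at e2
  have := hp.one_lt
  exact mem_centralizer_singleton_iff.1 ((eq_of_le_of_card_ge inf_le_right (by
    rw [hE, e4]; interval_cases j <;> simp at e2 ⊢; omega)).ge hz).1

theorem card_le_mul_of_le_normalizer {E H : Subgroup G} (h : H ≤ normalizer (E : Set G)) {y : G} (h1 : y ∈ E)
    (h2 : y ∈ H) : Nat.card H ≤ Nat.card E * Nat.card (centralizer ({y} : Set G) ⊓ H : Subgroup G) := by
  rw [← card_conj_mul_card_centralizer (⟨y, h2⟩ : H), ← card_inf_eq]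
  refine Nat.mul_le_mul (Nat.card_le_card_of_injective (fun g => (⟨g.1.1, ?_⟩ : E)) fun a b e =>
    Subtype.ext (Subtype.ext (congrArg (fun z : E => (z : G)) e))) (le_of_eq ?_)
  · obtain ⟨c, hc⟩ := isConj_iff.1 g.2
    exact hc ▸ (mem_normalizer_iff.1 (h c.2) y).1 h1
  · exact congrArg (fun U : Subgroup _ => Nat.card U) (Subgroup.ext fun g => by
      simp [mem_subgroupOf, mem_centralizer_singleton_iff, Subtype.ext_iff])

variable [IsSimpleGroup G] (hn : Nat.card G = 5616)
include hn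

theorem facts_5616 : (∀ t : G, orderOf t = 2 → Nat.card (centralizer ({t} : Set G)) = 48) ∧
    (∀ g : G, g ≠ 1 → ¬ 13 ∣ orderOf g → ¬ 13 ∣ Nat.card (centralizer ({g} : Set G))) ∧
    (∀ b : G, orderOf b = 3 → 6 ∣ Nat.card (centralizer ({b} : Set G)) →
      Nat.card (centralizer ({b} : Set G)) = 54 ∨ Nat.card (centralizer ({b} : Set G)) = 108) ∧
    13 ∈ degreePrimes G ∧ 3 ∈ degreePrimes G := by
  have hG : ¬ IsMulCommutative G := not_comm_of_simple_card (by rw [hn]; norm_num)
  have p13 : Nat.Prime 13 := by norm_num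
  obtain ⟨σ, h1, X, Y, A, h2⟩ := sieve_pb hG (B := 75) (p := 13) (allow := fun _ _ => true) (qs := [2, 3])
    (sols := [(144, 3, -16, [-12, 27])]) p13 hn (by norm_num) (by norm_num) (by norm_num) (by decide)
    (fun _ _ _ _ _ _ _ => rfl) (by decide +kernel)
  obtain rfl := List.mem_singleton.1 h1
  simp only at A h2
  refine ⟨fun t ht => ?_, fun g h3 h4 => p13.coprime_iff_not_dvd.1 (A.coprime_cent p13 hn h3 h4), fun b hb h3 => ?_,
    A.exists_dvd_deg p13 hn (by simpa using congrArg List.length h2) (by rw [h2, hn]; decide), Nat.prime_three, ?_⟩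
  · obtain ⟨o, h3, h4, -⟩ := A.vals_inv hG p13 (by norm_num) (by norm_num) (by decide) hn h2 ht (one_dvd _)
      (out := [(48, 0, [4, 3])]) (by decide +kernel)
    rw [h4, List.mem_singleton.1 h3]
  · have h4 : b ≠ 1 := by rintro rfl; simp at hb
    obtain ⟨o, h5, h6, -⟩ := A.vals p13 hG h2 h4 (by rw [hb]; norm_num) (fun z hz => exists_int_of_unique (A.eq_of_deg hn hz
      ((by decide : ∀ v ∈ [-12, 27], ¬ 13 ∣ Int.natAbs v) _ (h2 ▸ List.mem_map_of_mem hz))
      (h2 ▸ (by decide : ∀ v ∈ [-12, 27], ([1, -16, -12, 27] : List ℤ).countP (fun w => w.natAbs = Int.natAbs v) ≤ 1) _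
        (h2 ▸ List.mem_map_of_mem hz))) b) (m := 3)
      (fun χ v hv => dvd_deg_sub_of_pow Nat.prime_three (k := 1) (by rw [pow_one, ← hb, pow_orderOf_eq_one]) hv)
      (quad := false) (by simp) hn (A.cent_dvd p13 hn h4 (by rw [hb]; norm_num)) (by norm_num) h3
      (out := [(54, -2, [3, 0]), (108, 4, [-3, 0])]) (by decide +kernel)
    rw [h6]
    exact (by decide : ∀ o ∈ (_ : List (ℕ × ℤ × List ℤ)), o.1 = 54 ∨ o.1 = 108) o h5
  · obtain ⟨χ, -, h3⟩ := A.exists_deg (v := 27) p13.one_lt (by simp [h2])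
    exact ⟨_, ⟨χ, h3⟩, by norm_num⟩

theorem psl33_of_simple : ∃ (F : Type) (_ : Field F) (_ : Fintype F), Fintype.card F = 3 ∧
    Nonempty (G ≃* Matrix.ProjectiveSpecialLinearGroup (Fin 3) F) := by
  have hG : ¬ IsMulCommutative G := not_comm_of_simple_card (by rw [hn]; norm_num)
  have p3 := Fact.mk Nat.prime_three
  obtain ⟨f1, f2, f3, -⟩ := facts_5616 hn
  have cP : ∀ P : Sylow 3 G, Nat.card (P : Subgroup G) = 27 := fun P => by
    rw [P.card_eq_multiplicity, hn]; decide +kernel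
  have syl : ∀ {K : Subgroup G}, Nat.card K = 27 → ∃ P : Sylow 3 G, (P : Subgroup G) = K := fun h =>
    ⟨Sylow.ofCard _ (by rw [h, hn]; decide +kernel), rfl⟩
  have mem : ∀ {P : Sylow 3 G} {K : Subgroup G} {g : G}, IsPGroup 3 K → g ∈ K → g ∈ normalizer (P : Set G) →
      g ∈ (P : Subgroup G) := fun {P} _ _ h h1 h2 => ((h.inf_normalizer_sylow P).le ⟨h1, h2⟩).2
  have lemB : ∀ {P Q : Sylow 3 G}, P ≠ Q → Nat.card ((P : Subgroup G) ⊓ Q : Subgroup G) = 9 →
      centralizer (((P : Subgroup G) ⊓ Q : Subgroup G) : Set G) ≤ (P : Subgroup G) ⊓ Q := fun {P Q} h1 h2 => by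
    set E : Subgroup G := P ⊓ Q
    have : IsMulCommutative E := (IsPGroup.isMulCommutative_of_card_eq_prime_sq (p := 3) h2)
    have e1 := h2 ▸ card_dvd_of_le E.le_centralizer
    have e2 : ¬ 2 ∣ Nat.card (centralizer (E : Set G)) := fun e => by
      obtain ⟨s, hs⟩ := exists_prime_orderOf_dvd_card' 2 e
      have := card_dvd_of_le (show E ≤ centralizer {s.1} from fun y hy => mem_centralizer_singleton_iff.2 (s.2 y hy))
      rw [f1 s (by rw [orderOf_coe, hs]), h2] at this
      omega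
    have : Nontrivial E := Finite.one_lt_card_iff_nontrivial.1 (by omega)
    obtain ⟨⟨z, hz⟩, e3⟩ := exists_ne (1 : E)
    have e4 : ¬ 13 ∣ Nat.card (centralizer (E : Set G)) := fun e => f2 z (fun e => e3 (Subtype.ext e)) (fun e => by
      have := e.trans (orderOf_dvd_natCard _ hz); omega) (e.trans (card_dvd_of_le (centralizer_le (by simpa using hz))))
    have e5 : Nat.card (centralizer (E : Set G)) ∣ 3 ^ 3 :=
      ((Nat.Coprime.mul_left ((Nat.prime_two.coprime_iff_not_dvd.2 e2).pow_left 4)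
        ((Nat.Prime.coprime_iff_not_dvd (by norm_num)).2 e4)).symm).dvd_of_dvd_mul_left (hn ▸ card_subgroup_dvd_card _ : _ ∣ 5616)
    obtain ⟨j, e6, e7⟩ := (Nat.dvd_prime_pow p3.out).1 e5
    refine (eq_of_le_of_card_ge E.le_centralizer (not_lt.1 fun e => h1 ?_)).ge
    obtain ⟨R, hR⟩ := syl (K := centralizer (E : Set G)) (by rw [e7] at e ⊢; interval_cases j <;> omega)
    have key : ∀ P : Sylow 3 G, E ≤ P → R = P := fun P h => sylow_eq_of_le_normalizer
      ((H01.G23.norm27 (cP P) h2 h).trans (by rw [← Sylow.coe_coe, hR]; exact BG.norm_le_norm_cent E))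
    exact (key P inf_le_left).symm.trans (key Q inf_le_right)
  obtain ⟨t, ht⟩ := exists_prime_orderOf_dvd_card' (G := G) 2 (by omega)
  obtain ⟨⟨b, bt⟩, hb⟩ := exists_prime_orderOf_dvd_card' (G := centralizer ({t} : Set G)) 3 (by rw [f1 t ht]; norm_num)
  rw [orderOf_mk] at hb
  have tb : t ∈ centralizer {b} := mem_centralizer_singleton_iff.2 (mem_centralizer_singleton_iff.1 bt).symm
  have h1 := f3 b hb (mul_dvd_card_centralizer ht hb (by norm_num) bt)
  have cb : Nat.card (zpowers b) = 3 := by rw [Nat.card_zpowers, hb]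
  obtain ⟨K, hK⟩ := Sylow.exists_subgroup_card_pow_prime (G := centralizer ({b} : Set G)) 3 (n := 3) (by omega)
  obtain ⟨P, hP⟩ := syl ((card_map_of_injective (centralizer {b}).subtype_injective).trans hK)
  replace hP : (P : Subgroup G) ≤ centralizer {b} := hP ▸ map_subtype_le K
  have bP : ∀ {P : Sylow 3 G}, (P : Subgroup G) ≤ centralizer {b} → b ∈ (P : Subgroup G) := fun h =>
    mem (isPGroup_zpowers_of_orderOf hb) (mem_zpowers b) (centralizer_le_normalizer _ fun g hg =>
      mem_centralizer_singleton_iff.1 (h hg))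
  have exy : ∀ {E K : Subgroup G}, Nat.card K < Nat.card E → ∃ y ∈ E, y ∉ K := fun h =>
    SetLike.not_le_iff_exists.1 fun e => absurd (card_le_of_le e) (by omega)
  have U : ∀ Q : Sylow 3 G, (Q : Subgroup G) ≤ centralizer {b} → P = Q := fun Q hQ => by_contra fun ne => by
    have e1 := card_mul_le_inf hP hQ
    obtain ⟨j, e2, e3⟩ := (Nat.dvd_prime_pow p3.out (m := 3)).1 (cP P ▸ card_dvd_of_le (inf_le_left (b := (Q : Subgroup G))))
    have e4 : Nat.card ((P : Subgroup G) ⊓ Q : Subgroup G) ≠ 27 := fun e =>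
      ne (sylow_eq_of_le ((eq_of_le_of_card_ge inf_le_left (by rw [cP, e])).ge.trans inf_le_right))
    have e5 : Nat.card ((P : Subgroup G) ⊓ Q : Subgroup G) = 9 := by
      rw [cP, cP, e3] at e1
      rw [e3] at e4 ⊢
      interval_cases j <;> omega
    obtain ⟨y, e6, e7⟩ := exy (by omega : Nat.card (zpowers b) < Nat.card ((P : Subgroup G) ⊓ Q : Subgroup G))
    have e8 := le_inf hP (H01.G23.norm27 (cP P) e5 inf_le_left)
    have e9 := card_mul_le_inf e8 (le_inf hQ (H01.G23.norm27 (cP Q) e5 inf_le_right))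
    have e10 := card_le_mul_of_le_normalizer inf_le_right e6 (e8 e6.1)
    have e11 := card_le_of_le (show centralizer {y} ⊓ (centralizer {b} ⊓
      normalizer (((P : Subgroup G) ⊓ Q : Subgroup G) : Set G)) ≤ _ from fun g hg =>
      lemB ne e5 (mem_centralizer_of_sq p3.out e5 ⟨bP hP, bP hQ⟩ hb e6 e7 hg.2.1 hg.1))
    have e12 := hn ▸ card_subgroup_dvd_card (centralizer {b} ⊓ normalizer (((P : Subgroup G) ⊓ Q : Subgroup G) : Set G))
    rw [cP, cP, e5] at e9
    rw [e5] at e10 e11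
    rw [show Nat.card (centralizer {b} ⊓ normalizer (((P : Subgroup G) ⊓ Q : Subgroup G) : Set G) : Subgroup G) = 81 by
      omega] at e12
    omega
  have CN : centralizer {b} ≤ normalizer (P : Set G) := fun g hg =>
    Sylow.smul_eq_iff_mem_normalizer.1 (U _ (Sylow.smul_le hP ⟨g, hg⟩)).symm
  have h54 : ∀ {D : Subgroup G}, t ∈ D → (P : Subgroup G) ≤ D → 54 ∣ Nat.card D := fun h1 h2 =>
    (show Nat.Coprime 2 27 by norm_num).mul_dvd_of_dvd_of_dvd (ht ▸ orderOf_dvd_natCard _ h1) (cP P ▸ card_dvd_of_le h2)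
  obtain ⟨Q, ne, h2⟩ := exists_sylow_inf (fun e => by
    have e1 := card_sylow_mul_card_normalizer P
    obtain ⟨k, hk⟩ := h54 (CN tb) le_normalizer
    have e2 := one_lt_card_sylow (p := 3) hG (by omega)
    have e3 : Nat.card (Sylow 3 G) ∣ 104 := ⟨k, by rw [hk] at e1; linarith⟩
    have := Nat.le_of_dvd (by norm_num) e3
    rw [Nat.ModEq] at e
    generalize Nat.card (Sylow 3 G) = m at *
    interval_cases m <;> omega) P
  replace h2 : Nat.card ((P : Subgroup G) ⊓ Q : Subgroup G) = 9 := by rw [cP] at h2; omega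
  have h3 := lemB ne h2
  have PM := H01.G23.norm27 (cP P) h2 inf_le_left
  have QM := H01.G23.norm27 (cP Q) h2 inf_le_right
  set E : Subgroup G := P ⊓ Q
  have bE : b ∈ E := h3 fun g hg => mem_centralizer_singleton_iff.1 (hP hg.1)
  have t2 : t * t = 1 := by rw [← sq, ← ht, pow_orderOf_eq_one]
  have tM : t ∈ normalizer (E : Set G) := mem_normalizer_fintype fun y hy => by
    have e1 : t * y * t⁻¹ ∈ (P : Subgroup G) := (mem_normalizer_iff.1 (CN tb) y).1 hy.1
    have : ((zpowers b).subgroupOf P).Normal := ⟨fun z hz g => by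
      obtain ⟨k, hk⟩ := mem_zpowers_iff.1 hz
      refine mem_zpowers_iff.2 ⟨k, ?_⟩
      have := (Commute.zpow_right (mem_centralizer_singleton_iff.1 (hP g.2)) k).eq
      simp only [coe_subtype] at hk
      simp [← hk, this]⟩
    have e2 := ((zpowers b).subgroupOf P).card_mul_index
    rw [card_inf_eq, inf_eq_left.2 (zpowers_le.2 (bP hP)), cb, cP] at e2
    have e3 : ∀ a c : (P : Subgroup G), (a * c)⁻¹ * (c * a) ∈ (zpowers b).subgroupOf P := fun a c => QuotientGroup.eq.1
      ((IsPGroup.isMulCommutative_of_card_eq_prime_sq (p := 3) (G := P ⧸ (zpowers b).subgroupOf P)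
      (show ((zpowers b).subgroupOf P).index = _ by omega)).1.1 (QuotientGroup.mk a) (QuotientGroup.mk c))
    have e4 : (y * (t * y * t⁻¹))⁻¹ * (t * y * t⁻¹ * y) ∈ zpowers b := e3 ⟨y, hy.1⟩ ⟨_, e1⟩
    have e5 : zpowers b = centralizer {t} ⊓ P := eq_of_le_of_card_ge (zpowers_le.2 ⟨bt, bP hP⟩) (by
      have := Nat.dvd_gcd (f1 t ht ▸ card_dvd_of_le (inf_le_left (b := (P : Subgroup G))))
        (cP P ▸ card_dvd_of_le (inf_le_right (a := centralizer {t})))
      exact (Nat.le_of_dvd (by norm_num) this).trans cb.ge)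
    have e6 := mem_centralizer_singleton_iff.1 (e5.le e4).1
    have e7 := orderOf_dvd_iff_pow_eq_one.1 (cb ▸ orderOf_dvd_natCard _ e4)
    have e8 : t⁻¹ = t := inv_eq_of_mul_eq_one_right t2
    set c := (y * (t * y * t⁻¹))⁻¹ * (t * y * t⁻¹ * y) with hc
    have e9 : t * (y * (t * y * t⁻¹)) * t⁻¹ = y * (t * y * t⁻¹) * c := by
      rw [hc, mul_inv_cancel_left, e8]; simp only [mul_assoc, t2, mul_one]
    have e10 : c * c = 1 := by
      generalize y * (t * y * t⁻¹) = w at e9
      refine mul_left_cancel (a := w) ?_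
      calc w * (c * c) = t * w * t⁻¹ * (c * t * t⁻¹) := by rw [e9]; group
        _ = t * (w * c) * t⁻¹ := by rw [e6]; group
        _ = _ := by rw [← e9, e8]; simp only [← mul_assoc, t2, one_mul]; simp only [mul_assoc, t2, mul_one]
    have e11 : c = 1 := by rw [pow_succ, pow_two, e10, one_mul] at e7; exact e7
    rw [e11, mul_one, mul_inv_eq_iff_eq_mul] at e9
    simpa using mul_mem (inv_mem hy) (zpowers_le.2 bE (e5.ge ⟨mem_centralizer_singleton_iff.2 e9.symm, mul_mem hy.1 e1⟩))
  obtain ⟨h, h4, h5⟩ := SetLike.not_le_iff_exists.1 fun e => ne (sylow_eq_of_le e).symm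
  have h6 : h * b * h⁻¹ ∈ E := (mem_normalizer_iff.1 (QM h4) b).1 bE
  have cj : ∀ g ∈ (centralizer ({b} : Set G)).map (MulAut.conj h).toMonoidHom, g ∈ centralizer {h * b * h⁻¹} := by
    rintro _ ⟨g, hg, rfl⟩
    exact mem_centralizer_singleton_iff.2 ((map_mul (MulAut.conj h) g b).symm.trans
      ((congrArg _ (mem_centralizer_singleton_iff.1 hg)).trans (map_mul (MulAut.conj h) b g)))
  have h7 : h * b * h⁻¹ ∉ zpowers b := fun e => h5 (mem Q.2 h4 (Sylow.smul_eq_iff_mem_normalizer.1 (U _ fun g hg => by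
    obtain ⟨k, hk⟩ := mem_zpowers_iff.1 ((eq_of_le_of_card_ge (zpowers_le.2 e) (by
      rw [cb, Nat.card_zpowers, ← hb]
      exact (orderOf_injective (MulAut.conj h).toMonoidHom (MulAut.conj h).injective b).ge)).ge (mem_zpowers b))
    exact mem_centralizer_singleton_iff.2 (hk ▸ (Commute.zpow_right
      (mem_centralizer_singleton_iff.1 (cj g (map_mono hP hg))) k).eq)).symm))
  have h8 := h54 (D := centralizer {b} ⊓ normalizer (E : Set G)) ⟨tb, tM⟩ (le_inf hP PM)
  have h9 := card_mul_le_inf (inf_le_right (a := centralizer {b}) (b := normalizer (E : Set G)))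
    (T := (centralizer {b} ⊓ normalizer (E : Set G)).map (MulAut.conj h).toMonoidHom) (by
      rintro _ ⟨g, hg, rfl⟩
      exact mul_mem (mul_mem (QM h4) hg.2) (inv_mem (QM h4)))
  have h10 := card_le_of_le (show (centralizer {b} ⊓ normalizer (E : Set G)) ⊓ (centralizer {b} ⊓
    normalizer (E : Set G)).map (MulAut.conj h).toMonoidHom ≤ E from fun g hg =>
      h3 (mem_centralizer_of_sq p3.out h2 bE hb h6 h7 hg.1.1 (cj g (map_mono inf_le_left hg.2))))
  rw [card_map_of_injective (MulAut.conj h).injective] at h9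
  have h11 := Nat.le_of_dvd Nat.card_pos h8
  have h12 := (Nat.mul_le_mul h11 h11).trans (h9.trans (Nat.mul_le_mul_right _ h10))
  obtain ⟨k, hk⟩ := h8.trans (card_dvd_of_le inf_le_right)
  have h13 := (normalizer (E : Set G)).card_mul_index
  have h14 : 13 ≤ (normalizer (E : Set G)).index := (Nat.Prime.dvd_factorial (by norm_num)).1 (Dvd.dvd.trans (by omega)
    (two_mul_card_dvd_factorial_index hG (normalizer_ne_top_of_simple (fun e => by rw [e, card_bot] at h2; omega)
      fun e => by rw [e, card_top] at h2; omega)))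
  refine H01.G23.fin13 hG (M := normalizer (E : Set G)) ?_ le_normalizer le_rfl
    (IsPGroup.isMulCommutative_of_card_eq_prime_sq (p := 3) h2) h2.symm.dvd
  rw [hk] at h12 h13
  have : k ≤ 8 := by nlinarith
  rw [h2] at h12
  interval_cases k <;> omega

end H19
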