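import Mathlib
import Cfsg.Agent.H19.DegH
import Cfsg.Agent.H19.L33
import Cfsg.Agent.H07.Deg
import Cfsg.Agent.S0495
import Cfsg.Agent.S0497
import Cfsg.Agent.S0498
import Cfsg.Agent.S0981
import Cfsg.Agent.S0984
import Cfsg.Agent.S1011
import Cfsg.Agent.S1020
import Cfsg.Agent.S1021

/-!
The simple groups of order less than 6000 (namespace H19).
* `psl_of_simple`, `l2_facts`, `primes_2520`, `equiv_of_simple_lt_6000`, `exists_comp_small`
-/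

open H05 Cfsg Classical Subgroup
open scoped MatrixGroups

namespace H19

variable {G : Type*} [Group G] [Finite G]

/-- The orders below 6000 of the groups `PSL(2, q)`. -/
def l2s : List (ℕ × ℕ) :=
  [(60, 4), (168, 7), (360, 9), (504, 8), (660, 11), (1092, 13), (2448, 17), (3420, 19), (4080, 16)]

theorem exists_field_l2s {n q : ℕ} (h : (n, q) ∈ l2s) :
    ∃ (F : Type) (_ : Field F) (_ : Fintype F), Fintype.card F = q := by
  obtain ⟨p, k, h1, h2, rfl⟩ := (isPrimePow_nat_iff _).1 ((by decide +kernel : ∀ x ∈ l2s, IsPrimePow x.2) _ h)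
  have := Fact.mk h1
  have := Fintype.ofFinite (GaloisField p k)
  exact ⟨GaloisField p k, inferInstance, this, by rw [← Nat.card_eq_fintype_card, GaloisField.card p k h2.ne']⟩

theorem psl_of_simple [IsSimpleGroup G] {F : Type*} [Field F] [Fintype F] (h : (Nat.card G, Fintype.card F) ∈ l2s) :
    Nonempty (G ≃* PSL(2, F)) := by
  simp only [l2s, List.mem_cons, Prod.mk.injEq, List.not_mem_nil, or_false] at h
  rcases h with ⟨h, k⟩ | ⟨h, k⟩ | ⟨h, k⟩ | ⟨h, k⟩ | ⟨h, k⟩ | ⟨h, k⟩ | ⟨h, k⟩ | ⟨h, k⟩ | ⟨h, k⟩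
  · exact ⟨(H08.A5_of_simple h).some.trans (H08.A5_of_psl2 (Or.inl k)).some.symm⟩
  · exact Cfsg.Agent.S0495.result h k
  · exact ⟨(Cfsg.Agent.S0497.result h).some.trans (H08.A6_equiv_psl k).some.symm⟩
  · exact Cfsg.Agent.S1011.result h k
  · exact Cfsg.Agent.S0498.result 11 (Or.inl rfl) (by omega) k
  · exact Cfsg.Agent.S0498.result 13 (Or.inr rfl) (by omega) k
  · exact Cfsg.Agent.S1020.result h k
  · exact Cfsg.Agent.S1021.result h k
  · exact Cfsg.Agent.S0981.result h k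

theorem l2_facts [IsSimpleGroup G] {n : ℕ} (q : ℕ) (hn : Nat.card G = n) (h : (n, q) ∈ l2s) :
    (∀ r, r ∈ degreePrimes G ↔ r.Prime ∧ r ∣ q * (q ^ 2 - 1)) ∧ ∀ r s, (degreeGraph G).Adj r s ↔
      r ≠ s ∧ r.Prime ∧ s.Prime ∧ (r ∣ q + 1 ∧ s ∣ q + 1 ∨ r ∣ q - 1 ∧ s ∣ q - 1) := by
  obtain ⟨F, _, _, rfl⟩ := exists_field_l2s h
  have h1 : L.SLc.IsL2 F G := Or.inl (psl_of_simple (hn ▸ h))
  obtain ⟨h2, h3⟩ := (by decide : ∀ x ∈ l2s, 4 ≤ x.2 ∧ x.2 ≠ 5) _ h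
  exact ⟨fun r => by rw [h1.degreePrimes h2 h3]; rfl, h1.adj h2 h3⟩

theorem primes_2520 [IsSimpleGroup G] (hn : Nat.card G = 2520) :
    2 ∈ degreePrimes G ∧ 5 ∈ degreePrimes G ∧ 7 ∈ degreePrimes G := by
  have hG : ¬ IsMulCommutative G := not_comm_of_simple_card (by rw [hn]; norm_num)
  obtain ⟨σ, h1, X, Y, A, h2⟩ := sieve_pb hG (B := 51) (p := 7) (allow := fun _ _ => true) (qs := [2, 3, 5])
    (sols := [(120, 3, -3, [-6, 8]), (120, 3, 4, [15, -20]), (120, 3, -10, [-6, 15]), (120, 3, -24, [8, 15])])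
    Nat.prime_seven hn (by norm_num) (by norm_num) (by norm_num) (by decide) (fun _ _ _ _ _ _ _ => rfl) (by decide +kernel)
  obtain ⟨τ, h3, X', Y', B, h4⟩ := sieve_pb hG (B := 51) (p := 5) (allow := fun _ _ => true) (qs := [2, 3, 7])
    (sols := [(126, 4, -4, [-4, -14, 21]), (126, 4, -4, [6, 6, -9]), (126, 4, -4, [-9, -9, 21]), (126, 4, -4, [-9, -24, 36]),
      (126, 4, 6, [-4, 6, -9]), (126, 4, 6, [-14, -14, 21]), (126, 4, -9, [-4, 6, 6]), (126, 4, -9, [-4, -9, 21]),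
      (126, 4, -9, [-4, -24, 36]), (126, 4, -9, [-14, -14, 36]), (126, 4, -14, [-4, -4, 21]), (126, 4, -14, [6, -14, 21]),
      (126, 4, -14, [-9, -14, 36]), (126, 4, 21, [-4, -4, -14]), (126, 4, 21, [-4, -9, -9]), (126, 4, 21, [6, -14, -14]),
      (126, 4, -24, [-4, -9, 36]), (126, 4, 36, [-4, -9, -24]), (126, 4, 36, [-9, -14, -14])])
    Nat.prime_five hn (by norm_num) (by norm_num) (by norm_num) (by decide) (fun _ _ _ _ _ _ _ => rfl) (by decide +kernel)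
  obtain ⟨h5, h6, h7, v, h8, h9⟩ := (by decide +kernel : ∀ σ ∈ (_ : List (ℕ × ℕ × ℤ × List ℤ)), 2520 = 7 * σ.2.1 * σ.1 ∧
    σ.2.2.2.length + 1 = σ.2.1 ∧ ((Sv.bl ((7 - 1) / σ.2.1) σ.2.2.1 σ.2.2.2).map (· ^ 2)).sum ≠ 2520 ∧
      ∃ v ∈ σ.2.2.1 :: σ.2.2.2, 2 ∣ v.natAbs) σ h1
  obtain ⟨h10, h11, h12⟩ := (by decide +kernel : ∀ σ ∈ (_ : List (ℕ × ℕ × ℤ × List ℤ)), 2520 = 5 * σ.2.1 * σ.1 ∧
    σ.2.2.2.length + 1 = σ.2.1 ∧ ((Sv.bl ((5 - 1) / σ.2.1) σ.2.2.1 σ.2.2.2).map (· ^ 2)).sum ≠ 2520) τ h3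
  obtain ⟨χ, -, h13⟩ := A.exists_deg (by norm_num) (h2 ▸ h8)
  exact ⟨⟨Nat.prime_two, _, ⟨χ, h13⟩, h9⟩,
    B.exists_dvd_deg Nat.prime_five (hn.trans h10) (by rw [← h11, ← h4, List.length_map]) (by rwa [h4, hn]),
    A.exists_dvd_deg Nat.prime_seven (hn.trans h5) (by rw [← h6, ← h2, List.length_map]) (by rwa [h2, hn])⟩

theorem equiv_of_simple_lt_6000 {S : Type*} [Group S] [Finite S] [IsSimpleGroup S] [IsSimpleGroup G]
    (hS : ¬ IsMulCommutative S) (h : Nat.card S < 6000) (hc : Nat.card G = Nat.card S) : Nonempty (G ≃* S) := by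
  rcases (by decide : ∀ n ∈ (_ : List ℕ), n = 2520 ∨ n = 5616 ∨ ∃ x ∈ l2s, x.1 = n) _ (card_mem_of_lt_6000 hS h)
    with h1 | h1 | ⟨⟨n, q⟩, h1, rfl⟩
  · exact ⟨(Cfsg.Agent.S0984.result (hc.trans h1)).some.trans (Cfsg.Agent.S0984.result h1).some.symm⟩
  · obtain ⟨F, _, _, h2, ⟨e⟩⟩ := psl33_of_simple (hc.trans h1)
    obtain ⟨K, _, _, h3, ⟨f⟩⟩ := psl33_of_simple h1
    exact ⟨e.trans ((H09.nonempty_psl_equiv_of_card_eq (h2.trans h3.symm)).some.trans f.symm)⟩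
  · obtain ⟨F, _, _, rfl⟩ := exists_field_l2s h1
    exact ⟨(psl_of_simple (hc ▸ h1)).some.trans (psl_of_simple h1).some.symm⟩

theorem exists_comp_small {n p q : ℕ} (hn : Nat.card G = n) (h1 : p ∈ degreePrimes G) (h2 : q ∈ degreePrimes G)
    (L : List ℕ) (h : n < 6000 ∧ n ∣ [2, 3, 5, 7, 11, 13, 17, 19].prod ^ 13 ∧ ¬ p ^ 2 ∣ n ∧
      (∀ r ∈ [2, 3, 5, 7, 11, 13, 17, 19], ∀ a < 13, r ^ (a + 1) ∣ n → r ^ (a + 1) % p = 1 → r = q ∧ ¬ r ^ (a + 2) ∣ n) ∧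
      ∀ m ∈ [60, 168, 360, 504, 660, 1092, 2448, 2520, 3420, 4080, 5616], m ∣ n → p ∣ m → m = n ∨ m ∈ L)
    (hG : ¬ IsSimpleGroup G) : ∃ E : Subgroup G, E.Normal ∧ IsSimpleGroup (E ⧸ center E) ∧
      Nat.card (E ⧸ center E) ∈ L ∧ ∀ K : Subgroup G, K.Normal → p ∣ Nat.card K → E ≤ K := by
  subst hn
  have := Fact.mk h1.1
  obtain ⟨E, h3, h4, h5, -, h6, h7⟩ := exists_comp_of_deg' h.2.2.1 (fun r a hr e => by
    obtain ⟨s, e1, e2⟩ := (Prime.dvd_prod_iff hr.prime).1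
      (hr.dvd_of_dvd_pow (((dvd_pow_self r a.succ_ne_zero).trans e).trans h.2.1))
    obtain rfl := (Nat.prime_dvd_prime_iff_eq hr ((by decide : ∀ s ∈ (_ : List ℕ), s.Prime) s e1)).1 e2
    refine h.2.2.2.1 r e1 a (by_contra fun e3 => ?_) e
    have := (Nat.pow_le_pow_left hr.two_le _).trans (Nat.le_of_dvd Nat.card_pos e)
    have := Nat.pow_le_pow_right two_pos (show 13 ≤ a + 1 by omega)
    omega) h1 h2
  have h8 := (card_quotient_dvd_card (center E)).trans (card_subgroup_dvd_card E)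
  refine ⟨E, h3, h4, (h.2.2.2.2 _ (card_mem_of_lt_6000 h5 ((Nat.le_of_dvd Nat.card_pos h8).trans_lt h.1)) h8 h6).resolve_left
    fun e => hG ?_, h7⟩
  have h9 := E.card_mul_index
  rw [← (center E).card_mul_index, show (center E).index = _ from e, mul_right_comm] at h9
  have h10 := mul_eq_one.1 (Nat.eq_of_mul_eq_mul_right Nat.card_pos (h9.trans (one_mul _).symm))
  exact (((QuotientGroup.quotientMulEquivOfEq (card_eq_one.1 h10.1)).trans QuotientGroup.quotientBot).trans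
    ((MulEquiv.subgroupCongr (index_eq_one.1 h10.2)).trans topEquiv)).symm.isSimpleGroup

end H19
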