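import Mathlib
import Cfsg.Agent.H02.FPF
import Cfsg.Agent.H01.Basic

/-!
A doubly transitive group of order 12096 on 28 points with a regular normal Heisenberg subgroup in the point
stabiliser is unique (namespace H19.U3).
* `m` (the Heisenberg group on `0, …, 26`), `A` (its automorphisms), `T` (a Sylow 2-subgroup), `K`, `eq_K`, `exists_conj`
-/

open Equiv Subgroup

namespace H19

theorem exists_conj_of_card {G : Type*} [Group G] [Finite G] {p k : ℕ} (hp : p.Prime) {A Q R : Subgroup G} (h1 : Q ≤ A)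
    (h2 : R ≤ A) (h3 : Nat.card Q = p ^ k) (h4 : Nat.card R = p ^ k) (h5 : ¬ p ^ (k + 1) ∣ Nat.card A) :
    ∃ s ∈ A, ∀ g, g ∈ R ↔ s⁻¹ * g * s ∈ Q := by
  have := Fact.mk hp
  have h6 := h3 ▸ card_dvd_of_le h1
  rw [hp.pow_dvd_iff_le_factorization Nat.card_pos.ne'] at h5 h6
  have h7 : (Nat.card A).factorization p = k := by omega
  obtain ⟨s, hs⟩ := MulAction.exists_smul_eq A (Sylow.ofCard (Q.subgroupOf A) (by rw [H01.card_subgroupOf_of_le h1, h3, h7]))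
    (Sylow.ofCard (R.subgroupOf A) (by rw [H01.card_subgroupOf_of_le h2, h4, h7]))
  have h8 : ∀ g : A, (g : G) ∈ R ↔ (s : G)⁻¹ * g * s ∈ Q := fun g => by
    have := congrArg (fun P : Sylow p A => g ∈ (P : Subgroup A)) hs
    simpa [Sylow.coe_subgroup_smul, mem_pointwise_smul_iff_inv_smul_mem, mem_subgroupOf] using this.symm
  refine ⟨s, s.2, fun g => ⟨fun h => (h8 ⟨g, h2 h⟩).1 h, fun h => (h8 ⟨g, ?_⟩).2 h⟩⟩
  simpa [mul_assoc] using mul_mem (mul_mem s.2 (h1 h)) (inv_mem s.2)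

namespace U3

/-- A function given by a table. -/
def tb (T : ℕ) (x : Fin 28) : Fin 28 := Fin.ofNat 28 (T >>> (5 * x.val) % 32)

/-- The Heisenberg group with an absorbing element. -/
def m (x y : Fin 28) : Fin 28 := Fin.ofNat 28 (
  0xdef7bdef7bdef7bdef7bdef7bdef7bdef7bdd86e98179345b52aa428610465c29a1dfadd4ad9095844197226817e8e37580b99a39ddc8ca053a3bdd61ae608e4c56d44a92218d864b3e224aba69165e8b30aa05206d3477d828a36a03bb64b0e227ab88914de8cb0b6d8a69465e5b328a06a06bb46b0ca27c3895dc1f16b1ca4ace64106508059c6ad5bce54dbe30639a95a8c838ca400838d66b7b4a93dc60f7358b52507314831041ace2f6ad272db6a554850c208cb85343bf561ba605e4d1db2e44d02fd1c6eb0173347352b64256110dbac35cc11c98ada895244317232814e8efdcd22cbd1661540a40da68ee192cf8892aedc961c44f5711229bd19616c0a28da80eeddd140d40d768d61944f8712a29a519796ccd9cc820ca100b38d5ab79ca907c5ac7292bd9907194801071acd6f69526f8c18e6a56ada0e62906208359c5ed5a4e5183dcd62d49d91970a6877eac374c0bc9a2da955214308d8dd602e668e6a56c84ac220cb91340bf47d95b512a48862e465029d1deeb0d7304726da81481b4d1dc3259f11255d348b2f45985da4537a32c2d81451b501ddb2587113d5c4dac3289f0e254534a32f2d9945035035da3de71ab56f39520f8b58e525673208328402de359aded2a4df1831cd4ad4641c6520041deb38bdab49ca307b9ac5a928398a418820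
  >>> (5 * (28 * x.val + y.val)) % 32)

theorem m_val : ∀ x y : Fin 28, x ≠ 27 → y ≠ 27 → (m x y).val =
    (x.val + y.val) % 3 + 3 * ((x.val / 3 + y.val / 3) % 3) + 9 * ((x.val / 9 + y.val / 9 + x.val / 3 * y.val) % 3) := by
  decide +kernel

/-- The tables of a Sylow 2-subgroup of the automorphism group. -/
def L (i : Fin 16) : ℕ := [0xdeb38bdab49ca307b9ac5a928398a418820, 0xd957a0e5af625d4428f6c56571467021860,
  0xdcf051ace8b494fbd459d35213399484480, 0xdb35326057ca6a80b4cb29e438aacfa3a00, 0xdd8ac868c15c9b719e3898924757287aa80,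
  0xde676a1623c24e1209da61a5053577455e0, 0xdad997cdc4d484381945b4534a9f01bb500, 0xde2cb431502a4c4a46b3cba4f68b4309ee0,
  0xdeb19adaea5a50638c859d2517c18d70440, 0xd974b6e435c4af11121363d2e452c750cc0, 0xdccb83ac6dd242e3428cb224abbf22a9220,
  0xdb27a160872c86a8d1f6cdd350a1666c1c0, 0xdd98536a029a49573d195864d1df113d140, 0xde6d38968664a0d522ebc0d272074e13ea0,
  0xdaf2c74df1b2687adc38d124280caa321a0, 0xde1765310ecc9e26847a2c126a12758dce0].getD i 0

/-- The index of the inverse. -/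
def li (i : Fin 16) : Fin 16 := [0, 7, 6, 5, 4, 3, 2, 1, 8, 13, 10, 15, 12, 9, 14, 11].getD i 0

theorem L_inv : ∀ i x, tb (L (li i)) (tb (L i) x) = x ∧ tb (L i) (tb (L (li i)) x) = x := by decide +kernel

/-- The elements of `T`. -/
def pm (i : Fin 16) : Perm (Fin 28) := ⟨tb (L i), tb (L (li i)), fun x => (L_inv i x).1, fun x => (L_inv i x).2⟩

/-- The automorphism group. -/
def A : Subgroup (Perm (Fin 28)) where
  carrier := {σ | σ 0 = 0 ∧ σ 27 = 27 ∧ ∀ x y, σ (m x y) = m (σ x) (σ y)}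
  mul_mem' := fun {a b} ha hb => by
    simp only [Set.mem_ofPred_eq, Perm.mul_apply, ha.1, hb.1, ha.2.1, hb.2.1, ha.2.2, hb.2.2, implies_true, and_self]
  one_mem' := ⟨rfl, rfl, fun _ _ => rfl⟩
  inv_mem' := fun {a} ha => ⟨Perm.inv_eq_iff_eq.2 ha.1.symm, Perm.inv_eq_iff_eq.2 ha.2.1.symm,
    fun x y => Perm.inv_eq_iff_eq.2 (by simp [ha.2.2])⟩

theorem L_mul : ∀ i j, ∃ k, ∀ x, tb (L k) x = tb (L i) (tb (L j) x) := by decide +kernel

/-- A Sylow 2-subgroup of `A`. -/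
def T : Subgroup (Perm (Fin 28)) where
  carrier := Set.range pm
  mul_mem' := by
    rintro _ _ ⟨i, rfl⟩ ⟨j, rfl⟩
    exact (L_mul i j).imp fun _ h => Equiv.ext h
  one_mem' := ⟨0, Equiv.ext (by decide +kernel)⟩
  inv_mem' := by
    rintro _ ⟨i, rfl⟩
    exact ⟨li i, Equiv.ext fun _ => rfl⟩

theorem card_T : Nat.card T = 2 ^ 4 :=
  (Nat.card_range_of_injective (f := pm) fun i j e =>
    (by decide +kernel : ∀ i j, tb (L i) 1 = tb (L j) 1 → i = j) i j (DFunLike.congr_fun e 1)).trans (by simp)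

theorem T_le : T ≤ A := by
  rintro _ ⟨i, rfl⟩
  exact (by decide +kernel : ∀ i, tb (L i) 0 = 0 ∧ tb (L i) 27 = 27 ∧
    ∀ x y, tb (L i) (m x y) = m (tb (L i) x) (tb (L i) y)) i

/-- Powers. -/
def pw (x : Fin 28) (i : Fin 3) : Fin 28 := [0, x, m x x].getD i 0

/-- Words in two elements and their commutator. -/
def wd (x y : Fin 28) (i j k : Fin 3) : Fin 28 := m (m (pw x i) (pw y j)) (pw (m (m (m x y) (m x y)) (m y x)) k)

theorem exists_of_testBit {α : Type*} {f : α → ℕ} {p : ℕ} {l : List α}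
    (h : (l.foldr (fun t a => a ||| 2 ^ f t) 0).testBit p = true) : ∃ t, f t = p := by
  induction l with
  | nil => simp at h
  | cons t l ih =>
    rw [List.foldr_cons, Nat.testBit_or, Bool.or_eq_true, Nat.testBit_two_pow, decide_eq_true_eq] at h
    exact h.elim ih fun h => ⟨t, h⟩

theorem gen {x y : Fin 28} (h : m x y ≠ m y x) {p : Fin 28} (hp : p ≠ 27) : ∃ i j k, wd x y i j k = p := by
  have h1 := (by decide +kernel : ∀ x y, m x y ≠ m y x → (List.finRange 3 ×ˢ List.finRange 3 ×ˢ List.finRange 3).foldr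
    (fun t a => a ||| 2 ^ (wd x y t.1 t.2.1 t.2.2).val) 0 = 2 ^ 27 - 1) x y h
  obtain ⟨t, ht⟩ := exists_of_testBit (p := p) (by
    rw [h1, Nat.testBit_two_pow_sub_one, decide_eq_true_eq]; omega)
  exact ⟨_, _, _, Fin.ext ht⟩

theorem card_A : Nat.card A ∣ 432 := by
  let X : SubMulAction A (Fin 28 × Fin 28) := ⟨{p | m p.1 p.2 ≠ m p.2 p.1}, fun σ p h e =>
    h (σ.1.injective ((σ.2.2.2 _ _).trans (e.trans (σ.2.2.2 _ _).symm)))⟩
  have h1 : Nat.card X = 432 := by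
    change Nat.card {p : Fin 28 × Fin 28 // m p.1 p.2 ≠ m p.2 p.1} = 432
    rw [Nat.card_eq_fintype_card, Fintype.card_subtype]; decide +kernel
  refine h1 ▸ H02.card_dvd_of_free fun σ p e => Subtype.ext (Equiv.ext fun q => ?_)
  have h2 : σ.1 p.1.1 = p.1.1 := congrArg (·.1.1) e
  have h3 : σ.1 p.1.2 = p.1.2 := congrArg (·.1.2) e
  have h4 : ∀ x i, σ.1 (pw x i) = pw (σ.1 x) i := fun x i => by fin_cases i <;> simp [pw, σ.2.1, σ.2.2.2]
  by_cases h : q = 27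
  · exact h ▸ σ.2.2.1
  obtain ⟨i, j, k, rfl⟩ := gen p.2 h
  simp only [wd, σ.2.2.2, h4, h2, h3]
  rfl

/-- The group. -/
def K : Subgroup (Perm (Fin 28)) :=
  closure {σ | (∀ y, σ y = tb 0x31761e2b42a44f81d5acb64471a68bc43b y) ∨ (∃ x, x ≠ 27 ∧ ∀ y, σ y = m x y) ∨ σ ∈ T}

/-- A candidate for the element interchanging `0` and `27`. -/
def wf (i j : Fin 16) (a z y : Fin 28) : Fin 28 := (tb (L i))^[tb 0x1c8638ca40844328cc2290063840208000 y]
  ((tb (L j))^[tb 0x200002000420004000840000400 y] ([1, a, z, 27, 0].getD (tb 0x20421004000880000001080400002000003 y) 27))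

theorem rep : ∀ y, (tb (L 1))^[tb 0x1c8638ca40844328cc2290063840208000 y] ((tb (L 8))^[tb 0x200002000420004000840000400 y]
    ([1, 5, 9, 0, 27].getD (tb 0x20421004000880000001080400002000003 y) 0)) = y := by decide +kernel

/-- The test element. -/
def gf (w : Fin 28 → Fin 28) (y : Fin 28) : Fin 28 := w (m 2 (w (m 1 (w y))))

theorem chk : ∀ i j : Fin 16, tb (L j) (tb (L i) (tb (L j) 1)) = (tb (L i))^[3] 1 → (tb (L i))^[4] 1 ≠ 1 →
    ∀ a, (tb (L i))^[6] (tb (L j) a) = a → ∀ z, (tb (L i))^[2] z = z → (∃ k, ∀ y, gf (wf i j a z) y = m (gf (wf i j a z) 0) (tb (L k) y)) →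
      ∀ y, wf i j a z y = tb 0x31761e2b42a44f81d5acb64471a68bc43b y := by decide +kernel

theorem m_zero : ∀ x, m x 0 = x ∧ m x 27 = 27 := by decide +kernel

variable {H : Subgroup (Perm (Fin 28))} (h1 : ∀ x, x ≠ 27 → ∃ p ∈ H, ∀ y, p y = m x y) (h3 : ∃ g ∈ H, g 27 = 0)
include h1

theorem decomp {g : Perm (Fin 28)} (hg : g ∈ H) (h : g 27 = 27) :
    ∃ p ∈ H, g 0 ≠ 27 ∧ (∀ y, p y = m (g 0) y) ∧ (p⁻¹ * g) 27 = 27 ∧ (p⁻¹ * g) 0 = 0 := by
  have h2 : g 0 ≠ 27 := fun e => absurd (g.injective (e.trans h.symm)) (by decide)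
  obtain ⟨p, h3, h4⟩ := h1 _ h2
  exact ⟨p, h3, h2, h4, Perm.inv_eq_iff_eq.2 (by rw [h, h4, (m_zero _).2]), Perm.inv_eq_iff_eq.2 (by rw [h4, (m_zero _).1])⟩

include h3

theorem exists_swap : ∃ w ∈ H, w 27 = 0 ∧ w 0 = 27 := by
  obtain ⟨g, h4, h5⟩ := h3
  obtain ⟨p, h6, h7⟩ := h1 (g⁻¹ 27) fun e => absurd (h5.symm.trans (Perm.inv_eq_iff_eq.1 e).symm) (by decide)
  exact ⟨g * p, mul_mem h4 h6, by rw [Perm.mul_apply, h7, (m_zero _).2, h5], by simp [h7, (m_zero _).1]⟩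

theorem eq_K (h2 : ∀ g, g ∈ T ↔ g ∈ H ∧ g 27 = 27 ∧ g 0 = 0) : H = K := by
  obtain ⟨v, a1, a2, a3⟩ := exists_swap h1 h3
  have b0 : ∀ {v : Perm (Fin 28)}, v ∈ H → v 27 = 0 → v 0 = 27 → ∀ g ∈ T, v * g * v⁻¹ ∈ T ∧ v⁻¹ * g * v ∈ T :=
    fun {v} a1 a2 a3 g hg => by
      obtain ⟨e1, e2, e3⟩ := (h2 g).1 hg
      have e4 := Perm.inv_eq_iff_eq.2 a2.symm
      have e5 := Perm.inv_eq_iff_eq.2 a3.symm
      exact ⟨(h2 _).2 ⟨mul_mem (mul_mem a1 e1) (inv_mem a1), by simp only [Perm.mul_apply, e5, e3, a3],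
        by simp only [Perm.mul_apply, e4, e2, a2]⟩, (h2 _).2 ⟨mul_mem (mul_mem (inv_mem a1) e1) a1,
        by simp only [Perm.mul_apply, a2, e3, e4], by simp only [Perm.mul_apply, a3, e2, e5]⟩⟩
  obtain ⟨n, hn⟩ := (by decide +kernel : ∀ x, (∀ i, tb (L i) x = x → i = 0) → ∃ i, tb (L i) x = 1) (v 1) fun i e => by
    obtain ⟨j, e1⟩ := (b0 a1 a2 a3 _ ⟨i, rfl⟩).2
    have e2 : pm j 1 = 1 := by rw [e1]; exact Perm.inv_eq_iff_eq.2 e
    obtain rfl := (by decide +kernel : ∀ i, tb (L i) 1 = 1 → i = 0) j e2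
    have e3 : pm i 1 = 1 := by
      rw [show pm i = v * pm 0 * v⁻¹ by rw [e1]; group, show pm 0 = 1 from Equiv.ext (by decide +kernel)]; simp
    exact (by decide +kernel : ∀ i, tb (L i) 1 = 1 → i = 0) i e3
  obtain ⟨c1, c2, c3⟩ := (h2 _).1 ⟨n, rfl⟩
  obtain ⟨w, w1, w2, w3, w4⟩ : ∃ w ∈ H, w 27 = 0 ∧ w 0 = 27 ∧ w 1 = 1 :=
    ⟨pm n * v, mul_mem c1 a1, by rw [Perm.mul_apply, a2, c3], by rw [Perm.mul_apply, a3, c2], hn⟩
  obtain ⟨i, hi⟩ := (b0 w1 w2 w3 _ ⟨1, rfl⟩).1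
  obtain ⟨j, hj⟩ := (b0 w1 w2 w3 _ ⟨8, rfl⟩).1
  have d1 : Function.Semiconj w (tb (L 1)) (tb (L i)) := fun x => by
    simpa [pm] using (DFunLike.congr_fun hi (w x)).symm
  have d2 : Function.Semiconj w (tb (L 8)) (tb (L j)) := fun x => by
    simpa [pm] using (DFunLike.congr_fun hj (w x)).symm
  have d3 : wf i j (w 5) (w 9) = w := funext fun y => by
    conv_rhs => rw [← rep y, d1.iterate_right, d2.iterate_right, ← List.getD_map (f := w)]
    simp only [wf, List.map_cons, List.map_nil, w2, w3, w4]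
  obtain ⟨p1, e1, f1⟩ := h1 1 (by decide)
  obtain ⟨p2, e2, f2⟩ := h1 2 (by decide)
  have d4 : ∀ y, (w * p2 * w * p1 * w) y = gf w y := fun y => by simp only [Perm.mul_apply, f1, f2, gf]
  have g0 := mul_mem (mul_mem (mul_mem (mul_mem w1 e2) w1) e1) w1
  obtain ⟨p, g1, -, g2, g3⟩ := decomp h1 g0 (by
    rw [d4, gf, w2, show m 1 0 = 1 by decide +kernel, w4, show m 2 1 = 0 by decide +kernel, w3])
  obtain ⟨k, hk⟩ := (h2 _).2 ⟨mul_mem (inv_mem g1) g0, g3⟩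
  have d5 := chk i j (by
      have := congrArg w (by decide +kernel : tb (L 8) (tb (L 1) (tb (L 8) 1)) = (tb (L 1))^[3] 1)
      rwa [d2, d1, d2, d1.iterate_right, w4] at this)
    (fun e => absurd (w.injective ((d1.iterate_right 4 1).trans (by rw [w4, e]))) (by decide +kernel)) (w 5)
    (by rw [← d2, ← d1.iterate_right]; exact congrArg w (by decide +kernel)) (w 9)
    (by rw [← d1.iterate_right]; exact congrArg w (by decide +kernel)) ⟨k, fun y => by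
      rw [d3, ← d4, ← d4, ← g2]
      exact Perm.inv_eq_iff_eq.1 (DFunLike.congr_fun hk y).symm⟩
  rw [d3] at d5
  have key : ∀ g ∈ H, g 27 = 27 → g ∈ K := fun g hg e => by
    obtain ⟨p, g1, g2, g3, g4⟩ := decomp h1 hg e
    have e1 : p ∈ K := subset_closure (Or.inr (Or.inl ⟨_, g2, g3⟩))
    have e2 : p⁻¹ * g ∈ K := subset_closure (Or.inr (Or.inr ((h2 _).2 ⟨mul_mem (inv_mem g1) hg, g4⟩)))
    simpa using mul_mem e1 e2
  refine le_antisymm (fun g hg => ?_) ((closure_le _).2 ?_)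
  · by_cases e : g 27 = 27
    · exact key g hg e
    obtain ⟨p, g1, g2⟩ := h1 _ e
    have g3 := key _ (mul_mem w1 (mul_mem (inv_mem g1) hg)) (by
      rw [Perm.mul_apply, Perm.mul_apply, Perm.inv_eq_iff_eq.2 ((g2 0).trans (m_zero _).1).symm, w3])
    have g4 : w ∈ K := subset_closure (Or.inl d5)
    simpa using mul_mem (key p g1 (by rw [g2, (m_zero _).2])) (mul_mem (inv_mem g4) g3)
  · rintro g (e | ⟨x, e, e'⟩ | e)
    · exact (Equiv.ext fun y => (d5 y).trans (e y).symm : w = g) ▸ w1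
    · obtain ⟨p, g1, g2⟩ := h1 x e
      exact (Equiv.ext fun y => (g2 y).trans (e' y).symm : p = g) ▸ g1
    · exact ((h2 g).1 e).1

theorem exists_conj (h0 : Nat.card H = 12096) (h2 : ∀ g ∈ H, g 27 = 27 → g 0 = 0 → g ∈ A) :
    ∃ s : Perm (Fin 28), H.map (MulAut.conj s).toMonoidHom = K := by
  obtain ⟨w, w1, w2, w3⟩ := exists_swap h1 h3
  have a1 : MulAction.orbit H ((27 : Fin 28), (0 : Fin 28)) = {p | p.1 ≠ p.2} := by
    have key : ∀ x, ∃ g ∈ H, g 27 = x := fun x => by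
      by_cases e : x = 27
      · exact ⟨1, H.one_mem, e.symm⟩
      obtain ⟨p, g1, g2⟩ := h1 x e
      exact ⟨p * w, mul_mem g1 w1, by rw [Perm.mul_apply, w2, g2, (m_zero _).1]⟩
    ext ⟨x, y⟩
    refine ⟨?_, fun e => ?_⟩
    · rintro ⟨g, e⟩ e'
      exact absurd (g.1.injective (((congrArg Prod.fst e).trans e').trans (congrArg Prod.snd e).symm)) (by decide)
    obtain ⟨g, g1, rfl⟩ := key x
    obtain ⟨p, g2, g3⟩ := h1 (g⁻¹ y) fun e' => e (Perm.inv_eq_iff_eq.1 e').symm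
    exact ⟨⟨g * p, mul_mem g1 g2⟩, Prod.ext (by simp [g3, (m_zero _).2]) (by simp [g3, (m_zero _).1])⟩
  have a2 := (MulAction.stabilizer H ((27 : Fin 28), (0 : Fin 28))).index_mul_card
  rw [MulAction.index_stabilizer, a1, h0, ← Nat.card_coe_set_eq, show Nat.card {p : Fin 28 × Fin 28 | p.1 ≠ p.2} = 756 by
    rw [Nat.card_eq_fintype_card]; decide +kernel, ← card_subtype] at a2
  have a3 : ∀ g, g ∈ (MulAction.stabilizer H ((27 : Fin 28), (0 : Fin 28))).map H.subtype ↔ g ∈ H ∧ g 27 = 27 ∧ g 0 = 0 :=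
    fun g => ⟨by rintro ⟨g, e, rfl⟩; exact ⟨g.2, Prod.ext_iff.1 e⟩, fun e => ⟨⟨g, e.1⟩, Prod.ext_iff.2 e.2, rfl⟩⟩
  obtain ⟨s, s1, s2⟩ := exists_conj_of_card Nat.prime_two (fun g e => h2 g ((a3 g).1 e).1 ((a3 g).1 e).2.1 ((a3 g).1 e).2.2)
    T_le (k := 4) (by omega) card_T fun e => absurd (e.trans card_A) (by norm_num)
  have s3 := inv_mem s1
  have a4 : ∀ g, g ∈ H.map (MulAut.conj s).toMonoidHom ↔ s⁻¹ * g * s ∈ H := fun g => by
    rw [mem_map_equiv]; rfl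
  refine ⟨s, eq_K (fun x e => ?_) ⟨s * w * s⁻¹, by simpa [a4, mul_assoc], by
    simp only [Perm.mul_apply, s3.2.1, w2, s1.1]⟩ fun g => ?_⟩
  · obtain ⟨p, g1, g2⟩ := h1 (s⁻¹ x) fun e' => e ((Perm.inv_eq_iff_eq.1 e').trans s1.2.1)
    exact ⟨s * p * s⁻¹, by simpa [a4, mul_assoc], fun y => by simp [g2, s1.2.2]⟩
  · simp only [s2, a3, a4, Perm.mul_apply, s1.1, s1.2.1, Perm.inv_eq_iff_eq]

end U3

end H19
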