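import Mathlib
import Cfsg.Agent.H19.M12a

/-!
Simple groups whose order is divisible by 11 and divides 95040 (namespace H19).
* `card_ne_15840`, `card_ne_47520`, `card_of_dvd_95040`
-/

set_option linter.unusedSectionVars false

open H05 Cfsg Classical Subgroup

namespace H19

variable {G : Type*} [Group G] [Finite G] [IsSimpleGroup G]

theorem exists_inv_ten {w : G} (hw : orderOf w = 5) (h : 2 ∣ Nat.card (centralizer ({w} : Set G))) :
    ∃ t : G, t ≠ 1 ∧ orderOf t = 2 ∧ t ^ 2 = 1 ∧ 10 ∣ Nat.card (centralizer ({t} : Set G)) := by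
  obtain ⟨t, ht⟩ := exists_prime_orderOf_dvd_card' 2 h
  rw [← orderOf_coe] at ht
  exact ⟨t, by rw [Ne, ← orderOf_eq_one_iff, ht]; norm_num, ht, ht ▸ pow_orderOf_eq_one (t : G),
    mul_dvd_card_centralizer hw ht (by norm_num) t.2⟩

theorem card_ne_15840 : Nat.card G ≠ 15840 := fun hn => by
  have hG : ¬ IsMulCommutative G := not_comm_of_simple_card (by rw [hn]; norm_num)
  have p11 : Nat.Prime 11 := by norm_num
  obtain ⟨⟨r, e, y, l⟩, h1, X, Y, A, h2⟩ := sieve_pb hG (B := 126) (p := 11) (allow := fun _ _ => true) (qs := [2, 3, 5])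
    (sols := [(144, 10, -10, [45, -32, -32, -32, 12, 12, 12, 12, 12]), (144, 10, -10, [45, 45, 45, -32, -32, -32, -32, 12,
      -10]), (144, 10, -10, [45, -32, -32, 12, 12, 12, 12, -10, -10]), (144, 10, -10, [45, 45, 45, -32, -32, -32,
      -10, -10, -10]), (144, 10, -10, [45, -32, 12, 12, 12, -10, -10, -10, -10]), (144, 10, -10, [45, 12, 12, -10,
      -10, -10, -10, -10, -10]), (144, 10, 12, [45, 45, 45, -32, -32, -32, -32, -32, 12]), (144, 10, 12, [45, -32,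
      -32, -32, 12, 12, 12, 12, -10]), (144, 10, 12, [45, 45, 45, -32, -32, -32, -32, -10, -10]), (144, 10, 12, [45,
      -32, -32, 12, 12, 12, -10, -10, -10]), (144, 10, 12, [45, -32, 12, 12, -10, -10, -10, -10, -10]), (144, 10,
      12, [45, 12, -10, -10, -10, -10, -10, -10, -10]), (144, 10, -32, [45, 45, 45, -32, -32, -32, -32, 12, 12]),
      (144, 10, -32, [45, -32, -32, 12, 12, 12, 12, 12, -10]), (144, 10, -32, [45, 45, 45, -32, -32, -32, 12, -10,
      -10]), (144, 10, -32, [45, -32, 12, 12, 12, 12, -10, -10, -10]), (144, 10, -32, [45, 45, 45, -32, -32, -10,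
      -10, -10, -10]), (144, 10, -32, [45, 12, 12, 12, -10, -10, -10, -10, -10]), (144, 10, 45, [45, 45, -32, -32,
      -32, -32, -32, 12, 12]), (144, 10, 45, [-32, -32, -32, 12, 12, 12, 12, 12, -10]), (144, 10, 45, [45, 45, -32,
      -32, -32, -32, 12, -10, -10]), (144, 10, 45, [-32, -32, 12, 12, 12, 12, -10, -10, -10]), (144, 10, 45, [45,
      45, -32, -32, -32, -10, -10, -10, -10]), (144, 10, 45, [-32, 12, 12, 12, -10, -10, -10, -10, -10]), (144, 10,
      45, [12, 12, -10, -10, -10, -10, -10, -10, -10])]) p11 hn (by norm_num) (by norm_num) (by norm_num) (by decide) (fun _ _ _ _ _ _ _ => rfl) (by decide +kernel)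
  obtain ⟨σ, h3, X', Y', B, -⟩ := sieve_pb hG (B := 126) (p := 5) (allow := fun _ _ => true) (qs := [2, 3, 11])
    (sols := [(66, 2, -12, [11]), (396, 2, -12, [11]), (396, 4, 11, [36, -24, -24]), (396, 4, 11, [-44, 16, 16]), (396, 4,
      16, [-99, 66, 16]), (396, 4, 16, [-44, 16, 11]), (396, 4, -24, [36, -24, 11]), (396, 4, 36, [-24, -24, 11]),
      (396, 4, -44, [16, 16, 11]), (396, 4, 66, [-99, 16, 16]), (396, 4, -99, [66, 16, 16])]) Nat.prime_five hn (by norm_num) (by norm_num) (by norm_num) (by decide) (fun _ _ _ _ _ _ _ => rfl)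
    (by decide +kernel)
  obtain ⟨w, hw⟩ := exists_prime_orderOf_dvd_card' (G := G) 5 (hp := ⟨Nat.prime_five⟩) (by omega)
  have h4 := B.cent w hw
  obtain ⟨t, h5, h6, h7, h8⟩ := exists_inv_ten hw (by
    rcases (by decide : ∀ σ ∈ (_ : List (ℕ × ℕ × ℤ × List ℤ)), σ.2.1 * σ.1 = 132 ∨ σ.2.1 * σ.1 = 792 ∨ σ.2.1 * σ.1 = 1584) σ h3
      with h | h | h <;> rw [h] at h4 <;> omega)
  obtain ⟨rfl, h9⟩ : e = 10 ∧ Sv.chkv 15840 11 1 4 false y l 15840 10 [] = true :=
    (by decide +kernel : ∀ σ ∈ (_ : List (ℕ × ℕ × ℤ × List ℤ)), σ.2.1 = 10 ∧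
      Sv.chkv 15840 11 1 4 false σ.2.2.1 σ.2.2.2 15840 10 [] = true) _ h1
  simp only at A h2
  obtain ⟨_, ⟨⟩, -⟩ := A.vals p11 hG h2 h5 (by rw [h6]; norm_num)
    (fun z _ => z.1.2.isGeneralizedCharacter.exists_int_of_sq_eq_one h7) (fun χ v hv => four_dvd_deg_sub hG h7 hv)
    (quad := false) (by simp) hn (hn ▸ card_subgroup_dvd_card _) (by norm_num) h8 h9

theorem card_ne_47520 : Nat.card G ≠ 47520 := fun hn => by
  have hG : ¬ IsMulCommutative G := not_comm_of_simple_card (by rw [hn]; norm_num)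
  have p11 : Nat.Prime 11 := by norm_num
  obtain ⟨⟨r, e, y, l⟩, h1, X, Y, A, h2⟩ := sieve_pb hG (B := 218) (p := 11) (allow := fun _ _ => true) (qs := [2, 3, 5])
    (sols := [(144, 10, -32, [144, -120, 45, 45, 45, -32, -32, -32, -32]), (144, 10, 45, [144, -120, 45, 45, -32, -32, -32,
      -32, -32]), (144, 10, -120, [144, 45, 45, 45, -32, -32, -32, -32, -32]), (144, 10, 144, [-120, 45, 45, 45,
      -32, -32, -32, -32, -32])]) p11 hn (by norm_num) (by norm_num) (by norm_num) (by decide) (fun _ _ _ _ _ _ _ => rfl) (by decide +kernel)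
  obtain ⟨rfl, h3, h4, out, h5, h6⟩ : e = 10 ∧ -32 ∈ y :: l ∧ Sv.chk 47520 218 5 (Sv.only 11 ((y :: l).map Int.natAbs)) [2, 3, 11]
      [(396, 4, 11, [-144, 66, 66]), (396, 4, 66, [-144, 66, 11]), (396, 4, -144, [66, 66, 11]), (2376, 4, 11,
      [-144, 66, 66]), (2376, 4, 11, [-144, 96, 36]), (2376, 4, 36, [-144, 96, 11]), (2376, 4, 66, [-144, 66, 11]),
      (2376, 4, 96, [-144, 36, 11]), (2376, 4, -144, [66, 66, 11]), (2376, 4, -144, [96, 36, 11])] = true ∧ ∃ out ∈ [[(480, 0, [-16, 0, 5, 5, 5, 0, 0, 0, 0])], [(480, 5, [-16, 0, 5, 5, 0, 0, 0, 0, 0])],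
        [(480, 0, [-16, 5, 5, 5, 0, 0, 0, 0, 0])], [(480, -16, [0, 5, 5, 5, 0, 0, 0, 0, 0])]],
        Sv.chkv 47520 11 1 4 false y l 47520 10 out = true := by
    simp only [List.mem_cons (a := (r, e, y, l)), List.not_mem_nil, or_false, Prod.mk.injEq] at h1
    rcases h1 with ⟨-, rfl, rfl, rfl⟩ | ⟨-, rfl, rfl, rfl⟩ | ⟨-, rfl, rfl, rfl⟩ | ⟨-, rfl, rfl, rfl⟩ <;> decide +kernel
  obtain ⟨⟨r', e', y', l'⟩, h7, X', Y', B, h8⟩ := sieve_pb hG Nat.prime_five hn (by norm_num) (by norm_num) (by norm_num)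
    (by decide) (A.allow h2 _) h4
  obtain ⟨rfl, h9⟩ : e' = 4 ∧ (r' = 396 ∧ Sv.chkv 47520 5 1 4 false y' l' 480 480 [] = true ∨
      r' = 2376 ∧ 32 ∉ (y' :: l').map Int.natAbs) := (by decide +kernel : ∀ σ ∈ (_ : List (ℕ × ℕ × ℤ × List ℤ)), σ.2.1 = 4 ∧
    (σ.1 = 396 ∧ Sv.chkv 47520 5 1 4 false σ.2.2.1 σ.2.2.2 480 480 [] = true ∨
      σ.1 = 2376 ∧ 32 ∉ (σ.2.2.1 :: σ.2.2.2).map Int.natAbs)) _ h7
  simp only at A B h2 h8
  rcases h9 with ⟨rfl, h9⟩ | ⟨rfl, h9⟩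
  · obtain ⟨w, hw⟩ := exists_prime_orderOf_dvd_card' (G := G) 5 (hp := ⟨Nat.prime_five⟩) (by omega)
    have h10 := B.cent w hw
    obtain ⟨t, h11, h12, h13, h14⟩ := exists_inv_ten hw (by omega)
    obtain ⟨o, h15, h16, -⟩ := A.vals p11 hG h2 h11 (by rw [h12]; norm_num)
      (fun z _ => z.1.2.isGeneralizedCharacter.exists_int_of_sq_eq_one h13) (fun χ v hv => four_dvd_deg_sub hG h13 hv)
      (quad := false) (by simp) hn (hn ▸ card_subgroup_dvd_card _) (by norm_num) h14 h6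
    rw [(by decide : ∀ out ∈ (_ : List (List (ℕ × ℤ × List ℤ))), ∀ o ∈ out, o.1 = 480) out h5 o h15] at h16
    obtain ⟨_, ⟨⟩, -⟩ := B.vals Nat.prime_five hG h8 h11 (by rw [h12]; norm_num)
      (fun z _ => z.1.2.isGeneralizedCharacter.exists_int_of_sq_eq_one h13) (fun χ v hv => four_dvd_deg_sub hG h13 hv)
      (quad := false) (by simp) hn h16.dvd (by norm_num) h16.symm.dvd h9
  · obtain ⟨χ, h10, h11⟩ := A.exists_deg p11.one_lt (h2 ▸ h3)
    exact h9 (h8 ▸ (show charDegree (χ : G → ℂ) = 32 from h11) ▸ B.deg_mem (B.all hn χ (by rw [h11]; norm_num)) h10)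

theorem card_of_dvd_95040 (hG : ¬ IsMulCommutative G) (h1 : Nat.card G ∣ 95040) (h2 : 11 ∣ Nat.card G) :
    Nat.card G = 660 ∨ Nat.card G = 7920 ∨ Nat.card G = 95040 := by
  obtain ⟨m, hm⟩ := h2
  have h3 := Nat.le_of_dvd (by norm_num) h1
  have h4 := (by decide +kernel : ∀ m ∈ Nat.divisors 8640, m ∉ [60, 720, 1440, 4320, 8640] →
    Sv.kill 309 [11, 5, 3, 2] (11 * m) = true) m (Nat.mem_divisors.2 ⟨Nat.dvd_of_mul_dvd_mul_left (by norm_num)
      (show 11 * m ∣ 11 * 8640 from hm ▸ h1), by norm_num⟩)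
  rw [← hm, not_kill hG (by decide) (h3.trans (by norm_num))] at h4
  have := card_ne_15840 (G := G)
  have := card_ne_47520 (G := G)
  simp only [List.mem_cons, List.not_mem_nil, or_false, Bool.false_eq_true, imp_false, not_not] at h4
  omega

end H19
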