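import Mathlib
import Cfsg.Agent.H19.M12d

/-!
Recognising the Mathieu group of degree 12 among the groups of order 95040 (namespace H19).
* `simple_95040`, `sylow_of_selfC_95040`, `selfC_M12`
-/

open Subgroup Cfsg

namespace H19

variable {G : Type*} [Group G] [Finite G]

theorem simple_95040 (h : Nat.card G = 95040) (hn : Nat.card (Sylow 11 G) = 1728) : IsSimpleGroup G := by
  have := Fact.mk (by norm_num : Nat.Prime 11)
  obtain ⟨P⟩ : Nonempty (Sylow 11 G) := inferInstance
  have h1 := card_sylow_mul_card_normalizer P
  rw [hn] at h1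
  refine simple_of_normalizer (P := P) ?_ Nat.prime_five (by omega) Nat.prime_two (by norm_num) (by norm_num) (by omega)
    (h ▸ pow_mod_ne_one_of_list (qs := [2, 3, 5, 11]) (B := 17) (by decide) (by norm_num) (by norm_num) (by norm_num)
      (by decide +kernel))
  rw [P.card_eq_multiplicity, h]; decide +kernel

theorem sylow_of_selfC_95040 (h : Nat.card G = 95040) {x : G} (hx : orderOf x = 11)
    (hC : Nat.card (centralizer ({x} : Set G)) = 11) : Nat.card (Sylow 11 G) = 1728 := by
  have := Fact.mk (by norm_num : Nat.Prime 11)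
  obtain ⟨P, e, -, h1, -, h2, h3⟩ := card_normalizer_of_selfC hx hC
  have := Nat.le_of_dvd (by norm_num) h1
  interval_cases e <;> omega

theorem selfC_M12 (y : Spor.M12) (hy : orderOf y = 11) : Nat.card (centralizer ({y} : Set Spor.M12)) = 11 := by
  have := H14.simple_M12
  obtain ⟨T⟩ := exists_m12S H14.card_M12
  exact (T.c11 y hy.symm.dvd).2

end H19
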